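import Cfsg.Agent.Lib.Characters.BSW.InK

/-!
# Abstract Brauer–Suzuki–Wall configuration: classes outside the conjugates of `K`
-/

set_option autoImplicit false
set_option linter.style.haveILetI false
set_option linter.unusedSectionVars false

namespace Cfsg.Agent.Lib.Characters.BSW

open Cfsg Cfsg.Agent.Lib.Characters Cfsg.Agent.Lib.BlockHeights Cfsg.Agent.Lib.InvChar
open scoped ComplexConjugate Classical Pointwise

universe u

/-- A group element with prime order dividing a given product lies in the same prime part. -/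
theorem coprime_of_primes {a b : ℕ} (h : ∀ r : ℕ, r.Prime → r ∣ a → ¬ r ∣ b) : Nat.Coprime a b := by
  by_contra hn
  obtain ⟨r, hr, ha, hb⟩ := Nat.Prime.not_coprime_iff_dvd.1 hn
  exact h r hr ha hb

namespace Conf.Std

variable {G : Type u} [Group G] {h : Conf G} [Finite G] [Fintype G] [Fintype (IrrCharacter G)] (d : h.Std)
  (hk : 4 ≤ h.k)

/-- The absolute value of the signed degree of `S`. -/
noncomputable def q : ℕ := d.Q.natAbs

/-- The third factor of the group order. -/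
noncomputable def n : ℕ := if 0 < d.Q then h.k + 1 else h.k - 1

include hk

theorem cases' : (d.Q = 2 * h.k + 1 ∧ d.q = 2 * h.k + 1 ∧ d.n = h.k + 1) ∨
    (d.Q = 1 - 2 * h.k ∧ d.q + 1 = 2 * h.k ∧ d.n + 1 = h.k) := by
  obtain ⟨δ, rfl | rfl, hQ, -⟩ := d.main hk
  · left
    have h1 : d.Q = 2 * h.k + 1 := by rw [hQ]; ring
    refine ⟨h1, ?_, ?_⟩
    · rw [q, h1]; omega
    · rw [n, if_pos (by rw [h1]; omega)]
  · right
    have h1 : d.Q = 1 - 2 * h.k := by rw [hQ]; ring
    refine ⟨h1, ?_, ?_⟩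
    · rw [q, h1]; omega
    · rw [n, if_neg (by rw [h1]; omega)]; omega

theorem card_G : Nat.card G = 2 * h.k * d.q * d.n := by
  obtain ⟨δ, -, -, hg⟩ := d.main hk
  have : ((Nat.card G : ℕ) : ℤ) = ((2 * h.k * d.q * d.n : ℕ) : ℤ) := by
    rw [hg]
    rcases d.cases' hk with ⟨h1, h2, h3⟩ | ⟨h1, h2, h3⟩
    · rw [h1, h2, h3]; push_cast; ring
    · have h2' : ((d.q : ℕ) : ℤ) = 2 * h.k - 1 := by omega
      have h3' : ((d.n : ℕ) : ℤ) = h.k - 1 := by omega
      push_cast
      rw [h1, h2', h3']; ring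
  exact_mod_cast this

theorem q_odd : ¬ 2 ∣ d.q := by
  rcases d.cases' hk with ⟨_, h2, _⟩ | ⟨_, h2, _⟩ <;> omega

theorem n_odd : ¬ 2 ∣ d.n := by
  have := h.even_k
  rcases d.cases' hk with ⟨_, _, h3⟩ | ⟨_, _, h3⟩ <;> omega

theorem cop_q_2k : Nat.Coprime d.q (2 * h.k) := by
  refine coprime_of_primes fun r hr h1 h2 => hr.ne_one (Nat.dvd_one.1 ?_)
  rcases d.cases' hk with ⟨_, e, _⟩ | ⟨_, e, _⟩
  · exact (Nat.dvd_add_right h2).1 (e ▸ h1)
  · exact (Nat.dvd_add_right h1).1 (e ▸ h2)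

theorem cop_n_2k : Nat.Coprime d.n (2 * h.k) := by
  refine Nat.Coprime.mul_right ((Nat.prime_two.coprime_iff_not_dvd.2 (d.n_odd hk)).symm) ?_
  refine coprime_of_primes fun r hr h1 h2 => hr.ne_one (Nat.dvd_one.1 ?_)
  rcases d.cases' hk with ⟨_, _, e⟩ | ⟨_, _, e⟩
  · exact (Nat.dvd_add_right h2).1 (e ▸ h1)
  · exact (Nat.dvd_add_right h1).1 (e ▸ h2)

theorem cop_q_n : Nat.Coprime d.q d.n := by
  refine coprime_of_primes fun r hr h1 h2 => hr.ne_one (Nat.dvd_one.1 ?_)
  rcases d.cases' hk with ⟨_, e1, e⟩ | ⟨_, e1, e⟩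
  · have e2 : 2 * d.n = d.q + 1 := by omega
    exact (Nat.dvd_add_right h1).1 (e2 ▸ h2.mul_left 2)
  · have e2 : d.q = 2 * d.n + 1 := by omega
    exact (Nat.dvd_add_right (h2.mul_left 2)).1 (e2 ▸ h1)

/-- Coprime powers of the argument fix `S`. -/
theorem S_pow {m : ℕ} (hm : Nat.Coprime m (Nat.card G)) (z : G) :
    (d.S : G → ℂ) (z ^ m) = (d.S : G → ℂ) z := by
  haveI := Fintype.ofFinite h.K
  let χ : IrrCharacter G := ⟨fun g => (d.S : G → ℂ) (g ^ m), isIrr_comp_pow d.S.2 hm⟩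
  have hv : ∀ x : h.K, x ≠ 1 → (χ : G → ℂ) x = (d.S : G → ℂ) x := by
    intro x hx
    have hx' : x ^ m ≠ 1 := fun e => hx (by
      have hcop : Nat.Coprime m (Nat.card h.K) := hm.coprime_dvd_right h.K.card_subgroup_dvd_card
      have := (powCoprime (G := h.K) hcop.symm).injective (a₁ := x) (a₂ := 1)
        (by simpa [powCoprime] using e)
      exact this)
    show (d.S : G → ℂ) ((x : G) ^ m) = _
    rw [← Subgroup.coe_pow, d.valS hx', d.valS hx]
  have hvv : ∀ l, h.w χ l = h.w d.S l := by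
    intro l
    have e : h.v χ l = h.v d.S l := by
      rw [v_eq, v_eq]; congr 1
      refine Finset.sum_congr rfl fun x _ => ?_
      by_cases hx : x = 1
      · subst hx; simp
      · rw [hv x hx]
    rw [v_eq_w, v_eq_w] at e
    exact_mod_cast e
  have heq : χ = d.S := by
    have hε := hvv d.ε
    rw [d.wS _ d.ε_ne] at hε
    have heS : d.eS ≠ 0 := fun e => by have := d.eS_sq; rw [e] at this; norm_num at this
    obtain ⟨l, hl⟩ := Finset.card_pos.1 (show 0 < d.NR.card by have := d.card_NR; omega)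
    rw [mem_NR] at hl
    have hl' := hvv l
    rw [d.wS _ (ne_one hl)] at hl'
    by_contra hne
    by_cases h1 : χ = trivIrr G
    · refine d.S_triv (Subtype.ext (funext fun g => ?_))
      obtain ⟨y, rfl⟩ := (powCoprime (G := G) hm.symm).surjective g
      exact congrFun (congrArg Subtype.val h1) y
    by_cases h2 : χ = d.P
    · rw [h2, d.wP, if_neg (d.ne_eps hl)] at hl'; exact heS hl'.symm
    by_cases h3 : χ = d.R
    · rw [h3, d.wR, if_neg (d.ne_eps hl)] at hl'; exact heS hl'.symm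
    by_cases h4 : ∃ j : h.Dual, j⁻¹ ≠ j ∧ χ = d.B j
    · obtain ⟨j, hj, e⟩ := h4
      rw [e, d.wB j hj, if_neg] at hε
      · exact heS hε.symm
      · rintro (e' | e')
        · exact d.ne_eps hj e'.symm
        · exact d.ne_eps hj (by rw [← h.dual_inv_inv j, ← e']; exact d.ε_inv)
    · push Not at h4
      rw [d.others χ h1 hne h2 h3 h4] at hε
      exact heS hε.symm
  exact congrFun (congrArg Subtype.val heq) z

theorem exists_sh (z : G) : ∃ a : ℤ, d.hS z = a := by
  haveI : NeZero (Nat.card G) := ⟨Nat.card_pos.ne'⟩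
  have hv := irr_isCharacter d.S
  obtain ⟨r, hr⟩ := exists_rat_of_fixed (n := Nat.card G)
    (x := ⟨(d.S : G → ℂ) z, apply_mem_cycField hv z⟩) (fun σ => by
      obtain ⟨m, hm, hσ⟩ := exists_galPow (G := G) σ
      rw [hσ _ hv z]
      exact Subtype.ext (d.S_pow hk hm z))
  simp only at hr
  obtain ⟨a, ha⟩ := exists_int_of_isIntegral_rat (q := r) (hr ▸ IsCharacter.isIntegral hv z)
  refine ⟨-(d.eS * a), ?_⟩
  rw [hS, hr, ha]; push_cast; ring

/-- The rational integral class function `ŝ`. -/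
noncomputable def sh (z : G) : ℤ := (d.exists_sh hk z).choose

theorem sh_cast (z : G) : d.hS z = (d.sh hk z : ℂ) := (d.exists_sh hk z).choose_spec

theorem S_val (z : G) : (d.S : G → ℂ) z = ((-(d.eS * d.sh hk z) : ℤ) : ℂ) := by
  push_cast
  rw [← d.sh_cast hk z, hS]
  linear_combination -(d.S : G → ℂ) z * d.cS

theorem sh_one : d.sh hk 1 = d.Q := by
  have := (d.sh_cast hk 1).symm.trans d.hS_one
  exact_mod_cast this

theorem sh_conj (c z : G) : d.sh hk (c * z * c⁻¹) = d.sh hk z := by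
  have e : d.hS (c * z * c⁻¹) = d.hS z := by
    rw [hS, hS, IsCharacter.conj_apply (irr_isCharacter d.S)]
  rw [sh_cast _ hk, sh_cast _ hk] at e
  exact_mod_cast e

theorem sh_inv (z : G) : d.sh hk z⁻¹ = d.sh hk z := by
  have e : d.hS z⁻¹ = conj (d.hS z) := by
    simp only [hS, map_mul, map_neg, map_intCast, IsCharacter.apply_inv (irr_isCharacter d.S)]
  rw [sh_cast _ hk, sh_cast _ hk, map_intCast] at e
  exact_mod_cast e

theorem sh_inK {z : G} (hz : h.InK z) : d.sh hk z = 1 := by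
  obtain ⟨hz1, c, hc⟩ := hz
  rw [← d.sh_conj hk c z]
  have e : d.hS (((⟨_, hc⟩ : h.K) : G)) = 1 := by
    rw [hS, d.valS fun e => hz1 (conj_eq_one_iff.1 (congrArg Subtype.val e))]
    linear_combination d.cS
  rw [sh_cast _ hk] at e
  exact_mod_cast e

theorem sum_sh_sq : ∑ z : G, d.sh hk z * d.sh hk z = (Nat.card G : ℤ) := by
  have e := IsIrrCharacter.classInner_self d.S.2
  rw [classInner, inv_mul_eq_one₀ natCard_ne_zero_complex] at e
  refine Int.cast_injective (α := ℂ) ?_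
  push_cast
  rw [e]
  refine Finset.sum_congr rfl fun z _ => ?_
  rw [← d.sh_cast hk z]
  have : conj (d.hS z) = d.hS z := by rw [d.sh_cast hk z, map_intCast]
  conv_lhs => arg 2; rw [← this]
  simp only [hS, map_mul, map_neg, map_intCast]
  linear_combination (d.S : G → ℂ) z * conj ((d.S : G → ℂ) z) * d.cS

theorem sum_sh : ∑ z : G, d.sh hk z = 0 := by
  have e : classInner (d.S : G → ℂ) (trivIrr G : G → ℂ) = 0 := by
    rw [classInner_irr, if_neg d.S_triv]
  rw [classInner] at e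
  refine Int.cast_injective (α := ℂ) ?_
  push_cast
  simp only [← d.sh_cast hk, hS, ← Finset.mul_sum]
  simp only [trivIrr_apply, map_one, mul_one, mul_eq_zero, inv_eq_zero] at e
  rw [(e.resolve_left natCard_ne_zero_complex), mul_zero]

omit hk in
/-- The rest of the group. -/
def N0 (z : G) : Prop := z ≠ 1 ∧ ¬ h.InK z

omit hk in
theorem sum_split (F : G → ℤ) (hF : ∀ z, h.InK z → F z = F h.t) :
    ∑ z, F z = F 1 + (Nat.card {z : G // h.InK z} : ℤ) * F h.t +
      ∑ z ∈ Finset.univ.filter (fun z => N0 (h := h) z), F z := by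
  rw [← Finset.sum_filter_add_sum_filter_not Finset.univ (fun z => h.InK z) F,
    Finset.sum_congr rfl (fun z hz => hF z (Finset.mem_filter.1 hz).2), Finset.sum_const, nsmul_eq_mul,
    Nat.card_eq_fintype_card, Fintype.card_subtype,
    ← Finset.add_sum_erase (Finset.univ.filter fun z => ¬ h.InK z) F
      (show (1 : G) ∈ _ by simp [Conf.InK])]
  rw [show ((Finset.univ.filter fun z => ¬ h.InK z).erase (1 : G)) =
    Finset.univ.filter (fun z => N0 (h := h) z) by ext z; rw [Finset.mem_erase, Finset.mem_filter, Finset.mem_filter]; simp [N0]]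
  ring

theorem card_InK : Nat.card {z : G // h.InK z} = d.q * d.n * (h.k - 1) := by
  have := h.card_inK
  rw [d.card_G hk, show 2 * h.k * d.q * d.n * (h.k - 1) = d.q * d.n * (h.k - 1) * (2 * h.k) by ring] at this
  exact Nat.eq_of_mul_eq_mul_right (by omega) this

theorem sh_N0 {z : G} (hz : N0 (h := h) z) : d.sh hk z = 0 ∨ d.sh hk z = -1 := by
  have ht : h.InK h.t := h.inK_of_two h.ht
  have e1 := sum_split (h := h) (fun z => d.sh hk z * d.sh hk z + d.sh hk z) fun z hz => by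
    rw [d.sh_inK hk hz, d.sh_inK hk ht]
  rw [Finset.sum_add_distrib, d.sum_sh_sq hk, d.sum_sh hk, d.sh_one hk, d.sh_inK hk ht, d.card_InK hk] at e1
  have hz0 : ∑ z ∈ Finset.univ.filter (fun z => N0 (h := h) z), (d.sh hk z * d.sh hk z + d.sh hk z) = 0 := by
    have hg : (Nat.card G : ℤ) = 2 * h.k * d.q * d.n := by exact_mod_cast d.card_G hk
    have hQ : d.Q * (d.Q + 1) = 2 * d.q * d.n := by
      rcases d.cases' hk with ⟨a, b, c⟩ | ⟨a, b, c⟩
      · rw [a, b, c]; push_cast; ring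
      · have b' : ((d.q : ℕ) : ℤ) = 2 * h.k - 1 := by omega
        have c' : ((d.n : ℕ) : ℤ) = h.k - 1 := by omega
        rw [a, b', c']; ring
    have hk1 : ((h.k - 1 : ℕ) : ℤ) = (h.k : ℤ) - 1 := by omega
    push_cast at e1
    rw [hk1, hg] at e1
    linear_combination -e1 - hQ
  have h0 := (Finset.sum_eq_zero_iff_of_nonneg fun z _ => by
    rcases le_or_gt 0 (d.sh hk z) with e | e
    · nlinarith
    · nlinarith).1 hz0 z (Finset.mem_filter.2 ⟨Finset.mem_univ _, hz⟩)
  have : d.sh hk z * (d.sh hk z + 1) = 0 := by linarith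
  rcases mul_eq_zero.1 this with e | e
  · exact Or.inl e
  · exact Or.inr (by omega)

theorem card_sh_zero : Nat.card {z : G // N0 (h := h) z ∧ d.sh hk z = 0} = 4 * h.k * d.n := by
  have ht : h.InK h.t := h.inK_of_two h.ht
  have e1 := sum_split (h := h) (fun z => 1 + d.sh hk z) fun z hz => by
    rw [d.sh_inK hk hz, d.sh_inK hk ht]
  rw [Finset.sum_add_distrib, d.sum_sh hk, Finset.sum_const, Finset.card_univ, d.sh_one hk,
    d.sh_inK hk ht, d.card_InK hk,
    Finset.sum_congr rfl (fun z hz => show (1 + d.sh hk z) = if d.sh hk z = 0 then 1 else 0 by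
      rcases d.sh_N0 hk (Finset.mem_filter.1 hz).2 with e | e <;> simp [e]),
    Finset.sum_boole, Finset.filter_filter, ← Nat.card_eq_fintype_card, nsmul_one] at e1
  rw [Nat.card_eq_fintype_card, Fintype.card_subtype]
  have hk1 : ((h.k - 1 : ℕ) : ℤ) = (h.k : ℤ) - 1 := by omega
  have hg : (Nat.card G : ℤ) = 2 * h.k * d.q * d.n := by exact_mod_cast d.card_G hk
  push_cast at e1
  rw [hk1, hg] at e1
  suffices h' : ((Finset.univ.filter fun z => N0 (h := h) z ∧ d.sh hk z = 0).card : ℤ) = 4 * h.k * d.n by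
    exact_mod_cast h'
  rcases d.cases' hk with ⟨a, b, c⟩ | ⟨a, b, c⟩
  · rw [a, b, c] at e1
    rw [c]
    push_cast at e1 ⊢
    linear_combination -e1
  · have b' : ((d.q : ℕ) : ℤ) = 2 * h.k - 1 := by omega
    have c' : ((d.n : ℕ) : ℤ) = h.k - 1 := by omega
    rw [a, b', c'] at e1
    rw [c']
    linear_combination -e1

include d

theorem inK_of_prime {x : G} {r : ℕ} (hr : r.Prime) (hx : orderOf x = r) (hdvd : r ∣ 2 * h.k) :
    h.InK x := by
  by_cases h2 : r = 2
  · exact h.inK_of_two (h2 ▸ hx)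
  haveI : Fact r.Prime := ⟨hr⟩
  have hrk : r ∣ h.k := ((Nat.coprime_primes hr Nat.prime_two).2 h2).dvd_of_dvd_mul_left hdvd
  have hfac : (Nat.card G).factorization r = h.k.factorization r := by
    have hk0 : h.k ≠ 0 := h.k_pos.ne'
    have hq0 : d.q ≠ 0 := fun e => (d.q_odd hk) (e ▸ dvd_zero 2)
    have hn0 : d.n ≠ 0 := fun e => (d.n_odd hk) (e ▸ dvd_zero 2)
    rw [d.card_G hk, Nat.factorization_mul (by positivity) hn0, Nat.factorization_mul (by positivity) hq0,
      Nat.factorization_mul two_ne_zero hk0]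
    simp only [Finsupp.coe_add, Pi.add_apply]
    rw [Nat.factorization_eq_zero_of_not_dvd (n := 2) fun e => h2 ((Nat.prime_dvd_prime_iff_eq hr Nat.prime_two).1 e),
      Nat.factorization_eq_zero_of_not_dvd (n := d.q) fun e =>
        hr.ne_one (Nat.eq_one_of_dvd_coprimes (d.cop_q_2k hk) e hdvd),
      Nat.factorization_eq_zero_of_not_dvd (n := d.n) fun e =>
        hr.ne_one (Nat.eq_one_of_dvd_coprimes (d.cop_n_2k hk) e hdvd)]
    ring
  obtain ⟨P⟩ : Nonempty (Sylow r h.K) := inferInstance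
  have hPc : Nat.card ((P : Subgroup h.K).map h.K.subtype) = r ^ (Nat.card G).factorization r := by
    rw [Subgroup.card_map_of_injective h.K.subtype_injective, P.card_eq_multiplicity, hfac]; rfl
  let P' : Sylow r G := Sylow.ofCard _ hPc
  have hxp : IsPGroup r (Subgroup.zpowers x) :=
    IsPGroup.of_card (n := 1) (by rw [Nat.card_zpowers, hx, pow_one])
  obtain ⟨Q', hQ'⟩ := hxp.exists_le_sylow
  obtain ⟨c, hc⟩ := MulAction.exists_smul_eq G P' Q'
  refine ⟨fun e => hr.ne_one (by rw [← hx, e, orderOf_one]), c⁻¹, ?_⟩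
  have : x ∈ ((c • P' : Sylow r G) : Subgroup G) := hc ▸ hQ' (Subgroup.mem_zpowers x)
  rw [show ((c • P' : Sylow r G) : Subgroup G) = MulAut.conj c • (P' : Subgroup G) from rfl,
    Subgroup.mem_pointwise_smul_iff_inv_smul_mem] at this
  simp only [MulAut.smul_def, MulAut.conj_inv_apply] at this
  obtain ⟨a, -, ha⟩ := (Subgroup.mem_map.1 (show c⁻¹ * x * c ∈ (P : Subgroup h.K).map h.K.subtype from this))
  rw [inv_inv, ← ha]
  exact a.2

theorem N0_of_coprime {x : G} (hx : x ≠ 1) (hc : Nat.Coprime (orderOf x) (2 * h.k)) : N0 (h := h) x := by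
  refine ⟨hx, fun e => hx (orderOf_eq_one_iff.1 (Nat.eq_one_of_dvd_coprimes hc dvd_rfl ?_))⟩
  exact (h.orderOf_dvd_of_inK e).mul_left 2

theorem card_C_coprime {z : G} (hz : N0 (h := h) z) :
    Nat.Coprime (Nat.card (Subgroup.centralizer ({z} : Set G))) (2 * h.k) := by
  refine coprime_of_primes fun r hr h1 h2 => hz.2 ?_
  haveI : Fact r.Prime := ⟨hr⟩
  obtain ⟨c, hc⟩ := exists_prime_orderOf_dvd_card' (G := Subgroup.centralizer ({z} : Set G)) r h1
  rw [← Subgroup.orderOf_coe] at hc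
  exact h.inK_of_commute (d.inK_of_prime hk hr hc h2) (Subgroup.mem_centralizer_singleton_iff.1 c.2) hz.1

omit d hk in
theorem orderOf_dvd_C (z : G) : orderOf z ∣ Nat.card (Subgroup.centralizer ({z} : Set G)) :=
  Subgroup.orderOf_dvd_natCard _ (Subgroup.mem_centralizer_singleton_iff.2 rfl)

theorem N0_pow {z : G} (hz : N0 (h := h) z) {m : ℕ} (hm : z ^ m ≠ 1) : N0 (h := h) (z ^ m) :=
  d.N0_of_coprime hk hm (Nat.Coprime.coprime_dvd_left
    ((orderOf_pow_dvd m).trans (orderOf_dvd_C z)) (d.card_C_coprime hk hz))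

theorem sh_singular {z : G} {r : ℕ} (hr : r.Prime) (hq : r ∣ d.q) (hz : r ∣ orderOf z) : d.sh hk z = 0 := by
  have hd : ((d.S : G → ℂ) 1) = ((d.q : ℕ) : ℂ) := by
    rw [apply_one_deg, q, Q, Int.natAbs_neg, Int.natAbs_mul]
    have : d.eS.natAbs = 1 := by
      rcases Int.mul_eq_one_iff_eq_one_or_neg_one.1 d.eS_sq with ⟨e, -⟩ | ⟨e, -⟩ <;> rw [e] <;> rfl
    rw [this, one_mul]
    conv_lhs => rw [← Int.natAbs_of_nonneg (deg_pos d.S).le]
    rw [Int.cast_natCast]
  have hf : r ^ (Nat.card G).factorization r ∣ d.q := by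
    have h1 : r ^ (Nat.card G).factorization r ∣ Nat.card G := Nat.ordProj_dvd _ _
    have h2 : Nat.Coprime (r ^ (Nat.card G).factorization r) (2 * h.k * d.n) :=
      (hr.coprime_iff_not_dvd.2 fun e => by
        rcases hr.dvd_mul.1 e with e | e
        · exact hr.ne_one (Nat.eq_one_of_dvd_coprimes (d.cop_q_2k hk) hq e)
        · exact hr.ne_one (Nat.eq_one_of_dvd_coprimes (d.cop_q_n hk) hq e)).pow_left _
    rw [d.card_G hk, show 2 * h.k * d.q * d.n = 2 * h.k * d.n * d.q by ring] at h1 ⊢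
    exact (Nat.Coprime.dvd_of_dvd_mul_left (by rwa [d.card_G hk,
      show 2 * h.k * d.q * d.n = 2 * h.k * d.n * d.q by ring] at h2) h1)
  have e0 := vanish_of_defect_zero d.S.2 hr hd hf hz
  have e1 := d.sh_cast hk z
  rw [hS, e0, mul_zero] at e1
  exact_mod_cast e1.symm

theorem cong_sh {r : ℕ} (hr : r.Prime) (m : ℕ) {g : G} (h0 : d.sh hk g = 0) :
    (r : ℤ) ∣ d.sh hk (g ^ r ^ m) := by
  have e := dvd_value_pow_sub (irr_isCharacter d.S) hr m (d.S_val hk g) (d.S_val hk (g ^ r ^ m))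
  rw [h0, mul_zero, neg_zero, zero_pow (pow_ne_zero m hr.ne_zero), zero_sub, neg_neg] at e
  have := e.mul_left d.eS
  rwa [← mul_assoc, d.eS_sq, one_mul] at this

theorem sh_regular : ∀ N : ℕ, ∀ z : G, orderOf z = N → N0 (h := h) z → Nat.Coprime (orderOf z) d.q →
    d.sh hk z = -1 := by
  intro N
  induction N using Nat.strong_induction_on with
  | _ N ih =>
    intro z hN hz hc
    refine (d.sh_N0 hk hz).resolve_left fun h0 => ?_
    have ho1 : orderOf z ≠ 1 := fun e => hz.1 (orderOf_eq_one_iff.1 e)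
    obtain ⟨r, hr, hrd⟩ := Nat.exists_prime_and_dvd ho1
    have hrn : r ∣ d.n := by
      have h1 : r ∣ Nat.card G := hrd.trans (orderOf_dvd_natCard z)
      rw [d.card_G hk] at h1
      rcases hr.dvd_mul.1 h1 with e | e
      · rcases hr.dvd_mul.1 e with e | e
        · exact absurd e fun e => hr.ne_one (Nat.eq_one_of_dvd_coprimes (d.card_C_coprime hk hz)
            (hrd.trans (orderOf_dvd_C z)) e)
        · exact absurd e fun e => hr.ne_one (Nat.eq_one_of_dvd_coprimes hc hrd e)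
      · exact e
    have hm0 : (orderOf z).factorization r ≠ 0 := fun e =>
      (hr.factorization_pos_of_dvd (orderOf_pos z).ne' hrd).ne' e
    have hdiv := d.cong_sh hk hr ((orderOf z).factorization r) h0
    by_cases h1 : z ^ r ^ (orderOf z).factorization r = 1
    · rw [h1, d.sh_one hk] at hdiv
      refine hr.ne_one (Nat.eq_one_of_dvd_coprimes (d.cop_q_n hk) ?_ hrn)
      exact Int.natCast_dvd.1 hdiv
    · have hlt : orderOf (z ^ r ^ (orderOf z).factorization r) < N := by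
        rw [← hN, orderOf_pow' _ (pow_ne_zero _ hr.ne_zero), Nat.gcd_eq_right (Nat.ordProj_dvd _ _)]
        exact Nat.div_lt_self (orderOf_pos z) (Nat.one_lt_pow hm0 hr.one_lt)
      rw [ih _ hlt _ rfl (d.N0_pow hk hz h1) (Nat.Coprime.coprime_dvd_left (orderOf_pow_dvd _) hc)] at hdiv
      have : (r : ℤ) ∣ 1 := Int.dvd_neg.1 hdiv
      exact hr.ne_one (Nat.dvd_one.1 (by exact_mod_cast this))

theorem sh_neg_one {z : G} (hz : N0 (h := h) z) (hc : Nat.Coprime (orderOf z) d.q) : d.sh hk z = -1 :=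
  d.sh_regular hk _ z rfl hz hc

/-- An element coprime to `q` commutes with no element of prime order dividing `q`. -/
theorem no_commute {w r₀ : G} (hw : N0 (h := h) w) (hwq : Nat.Coprime (orderOf w) d.q) {r : ℕ}
    (hr : r.Prime) (hrq : r ∣ d.q) (hor : orderOf r₀ = r) : ¬ Commute w r₀ := by
  intro hc
  have hcop : Nat.Coprime (orderOf w) (orderOf r₀) := by
    rw [hor]; exact hwq.coprime_dvd_right hrq
  have h0 := d.sh_singular hk (z := w * r₀) hr hrq (by
    rw [hc.orderOf_mul_eq_mul_orderOf_of_coprime hcop, hor]; exact dvd_mul_left r _)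
  have e := d.cong_sh hk hr 1 h0
  have hp : (w * r₀) ^ r ^ 1 = w ^ r := by
    rw [pow_one, hc.mul_pow]
    conv_lhs => arg 2; rw [← hor, pow_orderOf_eq_one]
    rw [mul_one]
  have hor' : orderOf (w ^ r) = orderOf w := Nat.Coprime.orderOf_pow (hor ▸ hcop)
  have hne : w ^ r ≠ 1 := fun e => hw.1 (orderOf_eq_one_iff.1 (by rw [← hor', e, orderOf_one]))
  rw [hp, d.sh_neg_one hk (d.N0_pow hk hw hne) (hor' ▸ hwq)] at e
  have : (r : ℤ) ∣ 1 := Int.dvd_neg.1 e
  exact hr.ne_one (Nat.dvd_one.1 (by exact_mod_cast this))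

theorem card_C_dvd_n {z : G} (hz : N0 (h := h) z) (hc : Nat.Coprime (orderOf z) d.q) :
    Nat.card (Subgroup.centralizer ({z} : Set G)) ∣ d.n := by
  have h1 : Nat.card (Subgroup.centralizer ({z} : Set G)) ∣ 2 * h.k * d.q * d.n := by
    rw [← d.card_G hk]; exact Subgroup.card_subgroup_dvd_card _
  refine Nat.Coprime.dvd_of_dvd_mul_left (Nat.Coprime.mul_right (d.card_C_coprime hk hz) ?_) h1
  refine coprime_of_primes fun r hr e1 e2 => ?_
  haveI : Fact r.Prime := ⟨hr⟩
  obtain ⟨c, hcr⟩ := exists_prime_orderOf_dvd_card' (G := Subgroup.centralizer ({z} : Set G)) r e1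
  rw [← Subgroup.orderOf_coe] at hcr
  exact d.no_commute hk hz hc hr e2 hcr (Subgroup.mem_centralizer_singleton_iff.1 c.2).symm

omit hk in
/-- The elements of order not coprime to `q`. -/
def InU (d : h.Std) (z : G) : Prop := N0 (h := h) z ∧ ¬ Nat.Coprime (orderOf z) d.q

theorem inU_iff (z : G) : d.InU z ↔ N0 (h := h) z ∧ d.sh hk z = 0 := by
  constructor
  · rintro ⟨h1, h2⟩
    obtain ⟨r, hr, e1, e2⟩ := Nat.Prime.not_coprime_iff_dvd.1 h2
    exact ⟨h1, d.sh_singular hk hr e2 e1⟩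
  · rintro ⟨h1, h2⟩
    exact ⟨h1, fun e => by rw [d.sh_neg_one hk h1 e] at h2; norm_num at h2⟩

theorem card_U : Nat.card {z : G // d.InU z} = 4 * h.k * d.n := by
  rw [← d.card_sh_zero hk]; exact Nat.card_congr (Equiv.subtypeEquivRight (d.inU_iff hk))

theorem inU_conj {z : G} (hz : d.InU z) (c : G) : d.InU (c * z * c⁻¹) := by
  have ho : orderOf (c * z * c⁻¹) = orderOf z := (MulAut.conj c).orderOf_eq z
  refine ⟨d.N0_of_coprime hk (fun e => hz.1.1 (conj_eq_one_iff.1 e)) ?_, ho ▸ hz.2⟩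
  rw [ho]; exact (d.card_C_coprime hk hz.1).coprime_dvd_left (orderOf_dvd_C z)

theorem card_C_U {z : G} (hz : d.InU z) :
    Nat.card (Subgroup.centralizer ({z} : Set G)) = d.q := by
  have h1 : Nat.card (Subgroup.centralizer ({z} : Set G)) ∣ 2 * h.k * d.n * d.q := by
    rw [show 2 * h.k * d.n * d.q = 2 * h.k * d.q * d.n by ring, ← d.card_G hk]
    exact Subgroup.card_subgroup_dvd_card _
  obtain ⟨r, hr, hr1, hr2⟩ := Nat.Prime.not_coprime_iff_dvd.1 hz.2
  haveI : Fact r.Prime := ⟨hr⟩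
  have h2 : Nat.Coprime (Nat.card (Subgroup.centralizer ({z} : Set G))) d.n := by
    refine coprime_of_primes fun s hs e1 e2 => ?_
    haveI : Fact s.Prime := ⟨hs⟩
    obtain ⟨c, hcs⟩ := exists_prime_orderOf_dvd_card' (G := Subgroup.centralizer ({z} : Set G)) s e1
    rw [← Subgroup.orderOf_coe] at hcs
    have hc0 : N0 (h := h) (c : G) := d.N0_of_coprime hk
      (fun e => hs.ne_one (by rw [← hcs, e, orderOf_one]))
      (by rw [hcs]; exact (d.cop_n_2k hk).coprime_dvd_left e2)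
    have hcq : Nat.Coprime (orderOf (c : G)) d.q := by
      rw [hcs]; exact (d.cop_q_n hk).symm.coprime_dvd_left e2
    exact d.no_commute hk hc0 hcq hr hr2
      (orderOf_pow_orderOf_div (orderOf_pos z).ne' hr1)
      ((Commute.pow_right (Subgroup.mem_centralizer_singleton_iff.1 c.2) _))
  have hdvd : Nat.card (Subgroup.centralizer ({z} : Set G)) ∣ d.q :=
    Nat.Coprime.dvd_of_dvd_mul_left (Nat.Coprime.mul_right (d.card_C_coprime hk hz.1) h2) h1
  obtain ⟨e, he⟩ := hdvd
  have hcl := card_conj_mul_card_centralizer z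
  have hle : Nat.card {x : G // IsConj z x} ≤ 4 * h.k * d.n := by
    rw [← d.card_U hk]
    refine Nat.card_le_card_of_injective (fun x => ⟨x.1, ?_⟩) fun a b e => Subtype.ext (congrArg Subtype.val e :)
    obtain ⟨c, hc⟩ := isConj_iff.1 x.2
    exact hc ▸ d.inU_conj hk hz c
  rw [d.card_G hk] at hcl
  have hC0 : 0 < Nat.card (Subgroup.centralizer ({z} : Set G)) := Nat.card_pos
  have he2 : ¬ 2 ∣ e := fun e' => d.q_odd hk (he ▸ e'.mul_left _)
  have hcls : Nat.card {x : G // IsConj z x} = 2 * h.k * e * d.n := by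
    refine Nat.eq_of_mul_eq_mul_right hC0 ?_
    rw [hcl, he]; ring
  have hpos : 0 < 2 * h.k * d.n := by
    have : d.n ≠ 0 := fun e => d.n_odd hk (e ▸ dvd_zero 2)
    have := h.k_pos
    positivity
  have : e ≤ 2 := by
    refine Nat.le_of_mul_le_mul_left ?_ hpos
    rw [hcls] at hle
    linarith
  have : e = 1 := by omega
  rw [he, this, mul_one]

theorem PS_N0 {z : G} (hz : N0 (h := h) z) :
    h.PS z = 1 + (d.sh hk z : ℂ) / (d.Q : ℂ) +
      (1 + (d.sh hk z : ℂ)) * (2 * (h.k : ℂ) - 2) / (1 + (d.Q : ℂ)) := by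
  have hM : 1 + (d.Q : ℂ) ≠ 0 := by
    have := Int.cast_ne_zero (α := ℂ).2 (d.M_ne hk); push_cast at this; exact this
  have hp : 2 * d.hP 1 = 1 + (d.Q : ℂ) := by
    rw [hP_one]; exact_mod_cast (d.p_eq hk).2.1
  have hP1 : d.hP 1 ≠ 0 := fun e => hM (by rw [← hp, e, mul_zero])
  have e1 : conj (d.hS z) = (d.sh hk z : ℂ) := by rw [d.sh_cast hk z, map_intCast]
  have e2 : conj (d.hP z) + conj (d.hR z) = 1 + (d.sh hk z : ℂ) := by
    rw [← map_add, d.hP_add_hR hz.2, d.sh_cast hk z, map_add, map_one, map_intCast]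
  have e3 : ∀ l ∈ d.NR, conj (d.hX l z) / (1 + (d.Q : ℂ)) = (1 + (d.sh hk z : ℂ)) / (1 + (d.Q : ℂ)) := by
    intro l hl
    rw [d.hX_of_notInK (d.mem_NR.1 hl) hz.2, d.sh_cast hk z, map_add, map_one, map_intCast]
  rw [d.PS_eq, e1, (d.p_eq hk).1, Finset.sum_congr rfl e3, Finset.sum_const, nsmul_eq_mul]
  have hc : (d.NR.card : ℂ) = (h.k : ℂ) - 2 := by
    rw [← d.card_NR]; push_cast; ring
  rw [hc, show d.hP 1 = (1 + (d.Q : ℂ)) / 2 by linear_combination hp / 2]
  field_simp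
  linear_combination 2 * e2

theorem pairs_U_plus {z : G} (hz : d.InU z) (hQ : d.Q = 2 * h.k + 1) : Nat.card (h.Pairs z) = d.q := by
  have e := h.pairs_eq z
  have h0 := ((d.inU_iff hk z).1 hz).2
  rcases d.cases' hk with ⟨-, b, c⟩ | ⟨a, -, -⟩
  swap; · omega
  rw [d.PS_N0 hk hz.1, h0, d.card_G hk, b, c, hQ] at e
  push_cast at e
  have hk0 : (h.k : ℂ) ≠ 0 := Nat.cast_ne_zero.2 h.k_pos.ne'
  have h1 : (1 : ℂ) + (2 * (h.k : ℂ) + 1) ≠ 0 := by
    intro e
    have : ((1 + (2 * h.k + 1) : ℕ) : ℂ) = ((0 : ℕ) : ℂ) := by push_cast; exact e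
    have := Nat.cast_injective this
    omega
  rw [b]
  refine Nat.cast_injective (R := ℂ) ?_
  refine mul_right_cancel₀ (mul_ne_zero (by norm_num : (4 : ℂ) ≠ 0) (pow_ne_zero 2 hk0)) ?_
  rw [e]
  push_cast
  field_simp
  ring

theorem pairs_U_minus {z : G} (hz : d.InU z) (hQ : d.Q = 1 - 2 * h.k) : Nat.card (h.Pairs z) = 0 := by
  have e := h.pairs_eq z
  have h0 := ((d.inU_iff hk z).1 hz).2
  have hk0 : (h.k : ℂ) ≠ 0 := Nat.cast_ne_zero.2 h.k_pos.ne'
  have h1 : (1 : ℂ) + (1 - 2 * (h.k : ℂ)) ≠ 0 := by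
    intro e
    have : ((h.k : ℕ) : ℂ) = ((1 : ℕ) : ℂ) := by push_cast; linear_combination -e / 2
    have := Nat.cast_injective this
    omega
  have hPS : h.PS z = 0 := by
    rw [d.PS_N0 hk hz.1, h0, hQ]
    push_cast
    simp only [zero_div, add_zero, one_mul]
    field_simp
    ring
  rw [hPS, mul_zero] at e
  refine Nat.cast_injective (R := ℂ) ?_
  rw [Nat.cast_zero]
  exact (mul_eq_zero.1 e).resolve_right (mul_ne_zero (by norm_num : (4 : ℂ) ≠ 0) (pow_ne_zero 2 hk0))

theorem pairs_W {z : G} (hz : N0 (h := h) z) (hc : Nat.Coprime (orderOf z) d.q) :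
    Nat.card (h.Pairs z) = d.n := by
  have e := h.pairs_eq z
  rw [d.PS_N0 hk hz, d.sh_neg_one hk hz hc, d.card_G hk] at e
  have hk0 : (h.k : ℂ) ≠ 0 := Nat.cast_ne_zero.2 h.k_pos.ne'
  have hQ : (d.Q : ℂ) ≠ 0 := Int.cast_ne_zero.2 d.Q_ne
  have hqQ : (d.q : ℂ) * ((d.Q : ℂ) - 1) = 2 * (h.k : ℂ) * (d.Q : ℂ) := by
    rcases d.cases' hk with ⟨a, b, -⟩ | ⟨a, b, -⟩
    · rw [a, b]; push_cast; ring
    · have b' : (d.q : ℂ) = 2 * (h.k : ℂ) - 1 := by
        have : ((d.q + 1 : ℕ) : ℂ) = ((2 * h.k : ℕ) : ℂ) := by rw [b]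
        push_cast at this; linear_combination this
      rw [a, b']; push_cast; ring
  refine Nat.cast_injective (R := ℂ) ?_
  refine mul_right_cancel₀ (mul_ne_zero (by norm_num : (4 : ℂ) ≠ 0) (pow_ne_zero 2 hk0)) ?_
  rw [e]
  push_cast
  rw [add_neg_cancel, zero_mul, zero_div, add_zero]
  field_simp
  linear_combination 2 * (d.n : ℂ) * hqQ

end Conf.Std

/-- Enough involution pairs force an abelian centraliser, inverted by an involution. -/
theorem Conf.abelian_of_pairs {G : Type u} [Group G] (h : Conf G) [Finite G] {z : G} {m : ℕ}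
    (hm : 0 < m) (hp : Nat.card (h.Pairs z) = m)
    (hC : Nat.card (Subgroup.centralizer ({z} : Set G)) ≤ m) :
    Nat.card (Subgroup.centralizer ({z} : Set G)) = m ∧
      (∀ a ∈ Subgroup.centralizer ({z} : Set G), ∀ b ∈ Subgroup.centralizer ({z} : Set G), a * b = b * a) ∧
      ∃ u : G, orderOf u = 2 ∧ ∀ a ∈ Subgroup.centralizer ({z} : Set G), u * a * u⁻¹ = a⁻¹ := by
  obtain ⟨p₀⟩ : Nonempty (h.Pairs z) := (Nat.card_pos_iff.1 (hp ▸ hm)).1
  obtain ⟨hu, hinv, -⟩ := h.pairs_inverts p₀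
  set u := p₀.1.1 with hudef
  let f : h.Pairs z → Subgroup.centralizer ({z} : Set G) := fun p => ⟨u * p.1.1, by
    obtain ⟨hp2, hpi, -⟩ := h.pairs_inverts p
    rw [Subgroup.mem_centralizer_singleton_iff]
    have e1 : p.1.1 * z = z⁻¹ * p.1.1 := by
      rw [← hpi, mul_assoc _ _ p.1.1, mul_self_of_two hp2, mul_one]
    have e2 : u * z⁻¹ = z * u := by
      rw [← hinv, ← mul_assoc, ← mul_assoc, mul_self_of_two hu, one_mul]
    rw [mul_assoc, e1, ← mul_assoc, e2, mul_assoc]⟩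
  have hf : Function.Injective f := fun a b e => by
    have e1 : a.1.1 = b.1.1 := mul_left_cancel (congrArg Subtype.val e)
    refine Subtype.ext (Prod.ext e1 ?_)
    rw [(h.pairs_inverts a).2.2, (h.pairs_inverts b).2.2, e1]
  have hle := Nat.card_le_card_of_injective f hf
  have hb : Function.Bijective f := (Nat.bijective_iff_injective_and_card f).2 ⟨hf, by omega⟩
  have key : ∀ a ∈ Subgroup.centralizer ({z} : Set G), u * a * u⁻¹ = a⁻¹ := by
    intro a ha
    obtain ⟨p, hp'⟩ := hb.2 ⟨a, ha⟩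
    have e : u * p.1.1 = a := congrArg Subtype.val hp'
    obtain ⟨hp2, -, -⟩ := h.pairs_inverts p
    rw [← e, inv_of_two hu, mul_inv_rev, inv_of_two hu, inv_of_two hp2, ← mul_assoc u u,
      mul_self_of_two hu, one_mul]
  refine ⟨by omega, fun a ha b hb' => ?_, u, hu, key⟩
  have e := key (a * b) (Subgroup.mul_mem _ ha hb')
  rw [show u * (a * b) * u⁻¹ = (u * a * u⁻¹) * (u * b * u⁻¹) by group, key a ha, key b hb',
    mul_inv_rev] at e
  have := congrArg (·⁻¹) e
  simp only [mul_inv_rev, inv_inv] at this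
  exact this.symm

end Cfsg.Agent.Lib.Characters.BSW
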