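import Cfsg.Agent.Lib.Characters.BSW.Lattice

/-!
# Abstract Brauer–Suzuki–Wall configuration: degrees and the group order
-/

set_option autoImplicit false
set_option linter.style.haveILetI false
set_option linter.unusedSectionVars false

namespace Cfsg.Agent.Lib.Characters.BSW

open Cfsg Cfsg.Agent.Lib.Characters Cfsg.Agent.Lib.BlockHeights
open scoped ComplexConjugate Classical

universe u

namespace Conf.Std

variable {G : Type u} [Group G] {h : Conf G} [Finite G] [Fintype G] [Fintype (IrrCharacter G)] (d : h.Std)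

/-- The non-real linear characters. -/
noncomputable def NR (_ : h.Std) : Finset h.Dual := Finset.univ.filter fun l => l⁻¹ ≠ l

theorem mem_NR {l : h.Dual} : l ∈ d.NR ↔ l⁻¹ ≠ l := by simp [NR]

theorem inv_ne {l : h.Dual} (hl : l⁻¹ ≠ l) : l⁻¹⁻¹ ≠ l⁻¹ := by
  rw [h.dual_inv_inv]; exact Ne.symm hl

theorem ne_one {l : h.Dual} (hl : l⁻¹ ≠ l) : l ≠ 1 := fun e => hl (by rw [e, h.dual_inv_one])

theorem ne_eps {l : h.Dual} (hl : l⁻¹ ≠ l) : l ≠ d.ε := fun e => hl (by rw [e]; exact d.ε_inv)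

theorem card_NR : d.NR.card + 2 = h.k := h.card_NR d.ε_ne d.ε_inv d.ε_uniq

theorem B_inv {l : h.Dual} (hl : l⁻¹ ≠ l) : d.B l⁻¹ = d.B l :=
  ((d.B_eq l l⁻¹ hl (inv_ne hl)).2 (Or.inr rfl)).symm

theorem eB_inv {l : h.Dual} (hl : l⁻¹ ≠ l) : d.eB l⁻¹ = d.eB l := by
  have h1 := d.wB l hl l
  rw [if_pos (Or.inl rfl)] at h1
  have h2 := d.wB l⁻¹ (inv_ne hl) l
  rw [if_pos (Or.inr (h.dual_inv_inv l).symm), d.B_inv hl] at h2
  omega

/-- Sums of functions supported by the distinguished characters. -/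
theorem sum_special {R : Type*} [CommRing R] (F : IrrCharacter G → R)
    (hF : ∀ χ, χ ≠ trivIrr G → χ ≠ d.S → χ ≠ d.P → χ ≠ d.R →
      (∀ l : h.Dual, l⁻¹ ≠ l → χ ≠ d.B l) → F χ = 0) :
    2 * ∑ χ, F χ = 2 * (F (trivIrr G) + F d.S + F d.P + F d.R) + ∑ l ∈ d.NR, F (d.B l) := by
  have e1 : ∑ l ∈ d.NR, F (d.B l) = 2 * ∑ χ ∈ d.NR.image d.B, F χ := by
    rw [Finset.sum_comp F d.B, Finset.mul_sum]
    refine Finset.sum_congr rfl fun χ hχ => ?_
    obtain ⟨l, hl, rfl⟩ := Finset.mem_image.1 hχ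
    rw [mem_NR] at hl
    rw [show d.NR.filter (fun a => d.B a = d.B l) = {l, l⁻¹} by
      ext m
      simp only [Finset.mem_filter, mem_NR, Finset.mem_insert, Finset.mem_singleton]
      constructor
      · exact fun ⟨hm, e⟩ => (d.B_eq l m hl hm).1 e.symm
      · rintro (rfl | rfl)
        · exact ⟨hl, rfl⟩
        · exact ⟨inv_ne hl, d.B_inv hl⟩, Finset.card_pair (Ne.symm hl), nsmul_eq_mul]
    norm_num
  rw [e1, ← mul_add]
  congr 1
  rw [← Finset.sum_subset (Finset.subset_univ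
      (insert (trivIrr G) (insert d.S (insert d.P (insert d.R (d.NR.image d.B))))))
    (fun χ _ hχ => by
      simp only [Finset.mem_insert, Finset.mem_image, not_or, not_exists, not_and, mem_NR] at hχ
      exact hF χ hχ.1 hχ.2.1 hχ.2.2.1 hχ.2.2.2.1 fun l hl e => hχ.2.2.2.2 l hl e.symm),
    Finset.sum_insert, Finset.sum_insert, Finset.sum_insert, Finset.sum_insert]
  · ring
  · simp only [Finset.mem_image, mem_NR]
    rintro ⟨l, hl, e⟩
    exact d.BR l hl e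
  · simp only [Finset.mem_insert, Finset.mem_image, mem_NR]
    rintro (e | ⟨l, hl, e⟩)
    · exact d.PR e
    · exact d.BP l hl e
  · simp only [Finset.mem_insert, Finset.mem_image, mem_NR]
    rintro (e | e | ⟨l, hl, e⟩)
    · exact d.SP e
    · exact d.SR e
    · exact d.BS l hl e
  · simp only [Finset.mem_insert, Finset.mem_image, mem_NR]
    rintro (e | e | e | ⟨l, hl, e⟩)
    · exact d.S_triv e.symm
    · exact d.P_triv e.symm
    · exact d.R_triv e.symm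
    · exact d.B_triv l hl e

/-- Signed values. -/
noncomputable def hS (z : G) : ℂ := -(d.eS : ℂ) * (d.S : G → ℂ) z

/-- Signed values. -/
noncomputable def hP (z : G) : ℂ := (d.eP : ℂ) * (d.P : G → ℂ) z

/-- Signed values. -/
noncomputable def hR (z : G) : ℂ := (d.eR : ℂ) * (d.R : G → ℂ) z

/-- Signed values. -/
noncomputable def hX (l : h.Dual) (z : G) : ℂ := (d.eB l : ℂ) * (d.B l : G → ℂ) z

theorem cS : (d.eS : ℂ) * d.eS = 1 := by exact_mod_cast d.eS_sq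
theorem cP : (d.eP : ℂ) * d.eP = 1 := by exact_mod_cast d.eP_sq
theorem cR : (d.eR : ℂ) * d.eR = 1 := by exact_mod_cast d.eR_sq
theorem cB {l : h.Dual} (hl : l⁻¹ ≠ l) : (d.eB l : ℂ) * d.eB l = 1 := by exact_mod_cast d.eB_sq l hl

theorem valS {x : h.K} (hx : x ≠ 1) : (d.S : G → ℂ) x = -(d.eS : ℂ) := by
  rw [h.value_K d.S hx]
  have e : ∀ l : h.Dual, h.v d.S l * (l x : ℂ) =
      (d.eS : ℂ) * (l x : ℂ) - if l = 1 then (d.eS : ℂ) else 0 := by
    intro l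
    rw [v_eq_w]
    split_ifs with hl
    · subst hl; rw [w_one]; simp
    · rw [d.wS l hl, sub_zero]
  rw [Finset.sum_congr rfl fun l _ => e l, Finset.sum_sub_distrib, ← Finset.mul_sum, h.sum_dual_apply,
    if_neg hx, Finset.sum_ite_eq' Finset.univ, if_pos (Finset.mem_univ _)]
  ring

theorem valP {x : h.K} (hx : x ≠ 1) : (d.P : G → ℂ) x = (d.eP : ℂ) * (d.ε x : ℂ) := by
  rw [h.value_K d.P hx, Finset.sum_eq_single d.ε]
  · rw [v_eq_w, d.wP, if_pos rfl]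
  · intro l _ hl; rw [v_eq_w, d.wP, if_neg hl]; simp
  · simp

theorem valR {x : h.K} (hx : x ≠ 1) : (d.R : G → ℂ) x = (d.eR : ℂ) * (d.ε x : ℂ) := by
  rw [h.value_K d.R hx, Finset.sum_eq_single d.ε]
  · rw [v_eq_w, d.wR, if_pos rfl]
  · intro l _ hl; rw [v_eq_w, d.wR, if_neg hl]; simp
  · simp

theorem valB {l : h.Dual} (hl : l⁻¹ ≠ l) {x : h.K} (hx : x ≠ 1) :
    (d.B l : G → ℂ) x = (d.eB l : ℂ) * ((l x : ℂ) + (l⁻¹ x : ℂ)) := by
  rw [h.value_K (d.B l) hx, ← Finset.sum_subset (Finset.subset_univ {l, l⁻¹}),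
    Finset.sum_pair (Ne.symm hl)]
  · rw [v_eq_w, v_eq_w, d.wB l hl, d.wB l hl, if_pos (Or.inl rfl), if_pos (Or.inr rfl)]; ring
  · intro m _ hm
    simp only [Finset.mem_insert, Finset.mem_singleton] at hm
    rw [v_eq_w, d.wB l hl, if_neg hm]; simp

theorem valO {χ : IrrCharacter G} (h1 : χ ≠ trivIrr G) (h2 : χ ≠ d.S) (h3 : χ ≠ d.P) (h4 : χ ≠ d.R)
    (h5 : ∀ l : h.Dual, l⁻¹ ≠ l → χ ≠ d.B l) {x : h.K} (hx : x ≠ 1) : (χ : G → ℂ) x = 0 := by
  rw [h.value_K χ hx]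
  exact Finset.sum_eq_zero fun l _ => by rw [v_eq_w, d.others χ h1 h2 h3 h4 h5]; simp

theorem hX_of_notInK {l : h.Dual} (hl : l⁻¹ ≠ l) {z : G} (hz : ¬ h.InK z) :
    d.hX l z = 1 + d.hS z := by
  have e := h.sum_w_value l hz
  rw [← Finset.sum_subset (Finset.subset_univ {trivIrr G, d.S, d.B l}) (fun χ _ hχ => by
    simp only [Finset.mem_insert, Finset.mem_singleton, not_or] at hχ
    obtain ⟨h1, h2, h3⟩ := hχ
    suffices h.w χ l = 0 by simp [this]
    by_cases hP : χ = d.P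
    · rw [hP, d.wP, if_neg (d.ne_eps hl)]
    by_cases hR : χ = d.R
    · rw [hR, d.wR, if_neg (d.ne_eps hl)]
    by_cases hB : ∃ m : h.Dual, m⁻¹ ≠ m ∧ χ = d.B m
    · obtain ⟨m, hm, rfl⟩ := hB
      rw [d.wB m hm, if_neg fun e => h3 ((d.B_eq m l hm hl).2 e)]
    · push Not at hB
      exact d.others χ h1 h2 hP hR hB l), Finset.sum_insert, Finset.sum_pair (d.BS l hl).symm] at e
  · rw [h.w_triv (ne_one hl), d.wS l (ne_one hl), d.wB l hl, if_pos (Or.inl rfl), trivIrr_apply] at e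
    simp only [hX, hS]
    push_cast at e
    linear_combination e
  · simp [d.S_triv.symm, (d.B_triv l hl).symm]

theorem hP_add_hR {z : G} (hz : ¬ h.InK z) : d.hP z + d.hR z = 1 + d.hS z := by
  have e := h.sum_w_value d.ε hz
  rw [← Finset.sum_subset (Finset.subset_univ {trivIrr G, d.S, d.P, d.R}) (fun χ _ hχ => by
    simp only [Finset.mem_insert, Finset.mem_singleton, not_or] at hχ
    obtain ⟨h1, h2, h3, h4⟩ := hχ
    suffices h.w χ d.ε = 0 by simp [this]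
    by_cases hB : ∃ m : h.Dual, m⁻¹ ≠ m ∧ χ = d.B m
    · obtain ⟨m, hm, rfl⟩ := hB
      rw [d.wB m hm, if_neg]
      rintro (e | e)
      · exact d.ne_eps hm e.symm
      · exact d.ne_eps hm (by rw [← h.dual_inv_inv m, ← e]; exact d.ε_inv)
    · push Not at hB
      exact d.others χ h1 h2 h3 h4 hB _), Finset.sum_insert, Finset.sum_insert, Finset.sum_pair d.PR] at e
  · rw [h.w_triv d.ε_ne, d.wS _ d.ε_ne, d.wP, d.wR, if_pos rfl, if_pos rfl, trivIrr_apply] at e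
    simp only [hP, hR, hS]
    push_cast at e
    linear_combination e
  · simp [d.SP, d.SR]
  · simp [d.S_triv.symm, d.P_triv.symm, d.R_triv.symm]

/-- The signed degree of `S`, negated. -/
noncomputable def Q : ℤ := -(d.eS * deg d.S)

/-- The signed degree of `P`. -/
noncomputable def p : ℤ := d.eP * deg d.P

theorem hS_one : d.hS 1 = (d.Q : ℂ) := by simp [hS, Q, apply_one_deg]

theorem hP_one : d.hP 1 = (d.p : ℂ) := by simp [hP, p, apply_one_deg]

theorem hR_one : d.hR 1 = ((d.eR * deg d.R : ℤ) : ℂ) := by simp [hR, apply_one_deg]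

theorem not_inK_one : ¬ h.InK (1 : G) := fun e => e.1 rfl

theorem hX_one {l : h.Dual} (hl : l⁻¹ ≠ l) : d.hX l 1 = 1 + (d.Q : ℂ) := by
  rw [d.hX_of_notInK hl not_inK_one, hS_one]

theorem M_ne (hk : 4 ≤ h.k) : 1 + d.Q ≠ 0 := by
  obtain ⟨l, hl⟩ := Finset.card_pos.1 (show 0 < d.NR.card by have := d.card_NR; omega)
  rw [mem_NR] at hl
  have e : ((d.eB l * deg (d.B l) : ℤ) : ℂ) = ((1 + d.Q : ℤ) : ℂ) := by
    push_cast; rw [← d.hX_one hl, hX, apply_one_deg]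
  rw [← (Int.cast_injective e : d.eB l * deg (d.B l) = 1 + d.Q)]
  exact signed_ne (d.eB_sq l hl) _

theorem Q_ne : d.Q ≠ 0 := neg_ne_zero.2 (signed_ne d.eS_sq _)

/-- The structure sum in signed values. -/
theorem PS_eq (c : G) : h.PS c = 1 + conj (d.hS c) / (d.Q : ℂ) + conj (d.hP c) / d.hP 1 +
    conj (d.hR c) / d.hR 1 + 2 * ∑ l ∈ d.NR, conj (d.hX l c) / (1 + (d.Q : ℂ)) := by
  set T : h.K := ⟨h.t, h.htK⟩ with hTdef
  have hT1 : T ≠ 1 := fun e => ne_one_of_two h.ht (congrArg Subtype.val e)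
  refine mul_left_cancel₀ (two_ne_zero (α := ℂ)) ?_
  unfold PS
  rw [d.sum_special (fun χ => (χ : G → ℂ) h.t * (χ : G → ℂ) h.t * conj ((χ : G → ℂ) c) / (χ : G → ℂ) 1)
    (fun χ h1 h2 h3 h4 h5 => by
      rw [show (χ : G → ℂ) h.t = 0 from d.valO h1 h2 h3 h4 h5 (x := T) hT1]; simp)]
  rw [show (h.t : G) = (T : G) from rfl, d.valS hT1, d.valP hT1, d.valR hT1]
  rw [Finset.sum_congr rfl fun l hl => show
      (d.B l : G → ℂ) T * (d.B l : G → ℂ) T * conj ((d.B l : G → ℂ) c) / (d.B l : G → ℂ) 1 =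
        4 * (conj (d.hX l c) / (1 + (d.Q : ℂ))) by
    have hl' := d.mem_NR.1 hl
    have hlT : (l⁻¹ T : ℂ) = (l T : ℂ) := by
      rw [MonoidHom.inv_apply, ← map_inv]
      congr 2
      exact Subtype.ext (by rw [hTdef, Subgroup.coe_inv, inv_of_two h.ht])
    rw [d.valB hl' hT1, hlT, ← d.hX_one hl']
    simp only [hX, map_mul, map_intCast]
    have he : (d.eB l : ℂ) ≠ 0 := left_ne_zero_of_mul_eq_one (d.cB hl')
    rcases h.sign_at_t l with e | e <;> rw [← hTdef] at e <;> rw [e, mul_div_mul_left _ _ he] <;>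
      linear_combination (4 * conj ((d.B l : G → ℂ) c) / (d.B l : G → ℂ) 1) * d.cB hl']
  rw [← Finset.mul_sum, trivIrr_apply, trivIrr_apply, trivIrr_apply]
  have hε : (d.ε T : ℂ) * (d.ε T : ℂ) = 1 := by
    rcases h.sign_at_t d.ε with e | e <;> rw [← hTdef] at e <;> rw [e] <;> norm_num
  have heS : (d.eS : ℂ) ≠ 0 := left_ne_zero_of_mul_eq_one d.cS
  have heP : (d.eP : ℂ) ≠ 0 := left_ne_zero_of_mul_eq_one d.cP
  have heR : (d.eR : ℂ) ≠ 0 := left_ne_zero_of_mul_eq_one d.cR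
  rw [← d.hS_one]
  simp only [hS, hP, hR, map_mul, map_intCast, map_one, map_neg]
  rw [mul_div_mul_left _ _ (neg_ne_zero.2 heS), mul_div_mul_left _ _ heP, mul_div_mul_left _ _ heR]
  linear_combination 2 * (conj ((d.S : G → ℂ) c) / (d.S : G → ℂ) 1) * d.cS +
    2 * (conj ((d.P : G → ℂ) c) / (d.P : G → ℂ) 1) * (d.ε T : ℂ) * (d.ε T : ℂ) * d.cP +
    2 * (conj ((d.P : G → ℂ) c) / (d.P : G → ℂ) 1) * hε +
    2 * (conj ((d.R : G → ℂ) c) / (d.R : G → ℂ) 1) * (d.ε T : ℂ) * (d.ε T : ℂ) * d.cR +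
    2 * (conj ((d.R : G → ℂ) c) / (d.R : G → ℂ) 1) * hε

theorem PS_K {y : h.K} (hy : y ≠ 1) : h.PS (y : G) = 1 + 1 / (d.Q : ℂ) +
    (d.ε y : ℂ) / d.hP 1 + (d.ε y : ℂ) / d.hR 1 + 4 * (-1 - (d.ε y : ℂ)) / (1 + (d.Q : ℂ)) := by
  have hy' : y⁻¹ ≠ 1 := inv_ne_one.2 hy
  have hε : conj (d.ε y : ℂ) = (d.ε y : ℂ) := by rw [conj_dual, d.ε_inv]
  have e1 : d.hS (y : G) = 1 := by rw [hS, d.valS hy]; linear_combination d.cS
  have e2 : d.hP (y : G) = (d.ε y : ℂ) := by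
    rw [hP, d.valP hy]; linear_combination (d.ε y : ℂ) * d.cP
  have e3 : d.hR (y : G) = (d.ε y : ℂ) := by
    rw [hR, d.valR hy]; linear_combination (d.ε y : ℂ) * d.cR
  have e4 : ∀ l ∈ d.NR, conj (d.hX l (y : G)) / (1 + (d.Q : ℂ)) =
      ((l y⁻¹ : ℂ) + (l y : ℂ)) / (1 + (d.Q : ℂ)) := by
    intro l hl
    have hl' := d.mem_NR.1 hl
    congr 1
    rw [hX, d.valB hl' hy]
    simp only [map_mul, map_add, map_intCast, conj_dual, h.dual_inv_inv]
    rw [show (l y⁻¹ : ℂ) = (l⁻¹ y : ℂ) by rw [MonoidHom.inv_apply, map_inv]]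
    linear_combination ((l⁻¹ y : ℂ) + (l y : ℂ)) * d.cB hl'
  rw [d.PS_eq, e1, e2, e3, map_one, hε, Finset.sum_congr rfl e4, ← Finset.sum_div,
    Finset.sum_add_distrib]
  simp only [NR]
  rw [h.sum_dual_ne d.ε_ne d.ε_inv d.ε_uniq hy, h.sum_dual_ne d.ε_ne d.ε_inv d.ε_uniq hy']
  rw [map_inv d.ε y, ← MonoidHom.inv_apply, d.ε_inv]
  ring

theorem pairs_K_eq {y : h.K} (hy : y ≠ 1) :
    (4 : ℂ) * (h.k : ℂ) ^ 3 = (Nat.card G : ℂ) * h.PS (y : G) := by
  have e := h.pairs_eq (y : G)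
  rw [h.card_pairs_K y.2 fun e => hy (Subtype.ext e)] at e
  linear_combination e

theorem p_eq (hk : 4 ≤ h.k) : d.hR 1 = d.hP 1 ∧ 2 * d.p = 1 + d.Q ∧
    (4 : ℤ) * (h.k : ℤ) ^ 3 * (d.Q * (1 + d.Q)) = (Nat.card G : ℤ) * (d.Q - 1) ^ 2 := by
  obtain ⟨x, hx⟩ : ∃ x : h.K, x ≠ 1 ∧ x ≠ ⟨h.t, h.htK⟩ := by
    by_contra hn
    push Not at hn
    have hle : Nat.card h.K ≤ ({1, ⟨h.t, h.htK⟩} : Finset h.K).card := by
      haveI := Fintype.ofFinite h.K
      rw [Nat.card_eq_fintype_card, ← Finset.card_univ]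
      exact Finset.card_le_card fun a _ => by
        by_cases e : a = 1
        · simp [e]
        · simp [hn a e]
    have : Nat.card h.K = h.k := rfl
    have := Finset.card_le_two (a := (1 : h.K)) (b := (⟨h.t, h.htK⟩ : h.K))
    omega
  have hy0 : x * x ≠ 1 := fun e => by
    rcases h.involution_K x.2 (congrArg Subtype.val e) with e' | e'
    · exact hx.1 (Subtype.ext e')
    · exact hx.2 (Subtype.ext e')
  have hε0 : (d.ε (x * x) : ℂ) = 1 := by
    rw [map_mul, Units.val_mul]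
    rcases h.sign_of_inv d.ε_inv x with e | e <;> rw [e] <;> norm_num
  obtain ⟨y, hy⟩ : ∃ y : h.K, (d.ε y : ℂ) = -1 := by
    by_contra hn
    push Not at hn
    exact d.ε_ne (MonoidHom.ext fun a => Units.ext
      (((h.sign_of_inv d.ε_inv a).resolve_right (hn a)).trans (by simp)))
  have hy1 : y ≠ 1 := fun e => by rw [e, map_one, Units.val_one] at hy; norm_num at hy
  have A := pairs_K_eq hy0
  have B := pairs_K_eq hy1
  rw [d.PS_K hy0, hε0] at A
  rw [d.PS_K hy1, hy] at B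
  have hg : (Nat.card G : ℂ) ≠ 0 := natCard_ne_zero_complex
  have hQ : (d.Q : ℂ) ≠ 0 := Int.cast_ne_zero.2 d.Q_ne
  have hM : 1 + (d.Q : ℂ) ≠ 0 := by
    have := Int.cast_ne_zero (α := ℂ).2 (d.M_ne hk); push_cast at this; exact this
  have hp : d.hP 1 ≠ 0 := by
    rw [hP_one]; exact Int.cast_ne_zero.2 (signed_ne d.eP_sq _)
  have hr : d.hR 1 ≠ 0 := by
    rw [hR_one]; exact Int.cast_ne_zero.2 (signed_ne d.eR_sq _)
  have hsum : d.hP 1 + d.hR 1 = 1 + (d.Q : ℂ) := by rw [d.hP_add_hR not_inK_one, hS_one]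
  have hdiff : (1 : ℂ) / d.hP 1 + 1 / d.hR 1 = 4 / (1 + (d.Q : ℂ)) := by
    refine mul_left_cancel₀ (mul_ne_zero two_ne_zero hg) ?_
    linear_combination B - A
  have heq : d.hR 1 = d.hP 1 := by
    have : (d.hR 1 - d.hP 1) * (d.hR 1 - d.hP 1) = 0 := by
      rw [← hsum] at hdiff hM
      field_simp at hdiff
      linear_combination hdiff
    exact sub_eq_zero.1 (mul_self_eq_zero.1 this)
  refine ⟨heq, ?_, ?_⟩
  · rw [heq, hP_one] at hsum
    have : ((2 * d.p : ℤ) : ℂ) = ((1 + d.Q : ℤ) : ℂ) := by push_cast; linear_combination hsum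
    exact Int.cast_injective this
  · have e : (4 : ℂ) * (h.k : ℂ) ^ 3 * ((d.Q : ℂ) * (1 + (d.Q : ℂ))) =
        (Nat.card G : ℂ) * ((d.Q : ℂ) - 1) ^ 2 := by
      have : (4 : ℂ) * (h.k : ℂ) ^ 3 = (Nat.card G : ℂ) * (1 + 1 / (d.Q : ℂ) - 4 / (1 + (d.Q : ℂ))) := by
        linear_combination (A + B) / 2
      rw [this]
      field_simp
      ring
    exact_mod_cast e

theorem dvd_Q_sub_one (hk : 4 ≤ h.k) : 2 * (h.k : ℤ) ∣ d.Q - 1 := by
  haveI := Fintype.ofFinite h.K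
  have hk0 : (h.k : ℂ) ≠ 0 := Nat.cast_ne_zero.2 h.k_pos.ne'
  obtain ⟨m, hm⟩ := h.exists_mult d.P 1
  have hs : ∑ x : h.K, (d.P : G → ℂ) x * conj ((1 : h.Dual) x : ℂ) = (deg d.P : ℂ) - (d.eP : ℂ) := by
    have e : ∀ x : h.K, (d.P : G → ℂ) x * conj ((1 : h.Dual) x : ℂ) =
        (d.eP : ℂ) * (d.ε x : ℂ) + if x = 1 then (deg d.P : ℂ) - (d.eP : ℂ) else 0 := by
      intro x
      simp only [MonoidHom.one_apply, Units.val_one, map_one, mul_one]
      split_ifs with hx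
      · subst hx; simp [apply_one_deg]
      · rw [d.valP hx, add_zero]
    rw [Finset.sum_congr rfl fun x _ => e x, Finset.sum_add_distrib, ← Finset.mul_sum, sum_apply_dual,
      if_neg d.ε_ne, Finset.sum_ite_eq' Finset.univ, if_pos (Finset.mem_univ _)]
    ring
  rw [hs] at hm
  have e : deg d.P - d.eP = (h.k : ℤ) * m := by
    have : ((deg d.P - d.eP : ℤ) : ℂ) = (((h.k : ℤ) * m : ℤ) : ℂ) := by
      push_cast; rw [← hm]; field_simp
    exact Int.cast_injective this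
  refine ⟨d.eP * m, ?_⟩
  have e1 := (d.p_eq hk).2.1
  have e2 : d.p - 1 = d.eP * ((h.k : ℤ) * m) := by
    rw [← e, p]; linear_combination d.eP_sq
  linear_combination 2 * e2 - e1

theorem degree_bound (hk : 4 ≤ h.k) :
    2 + 2 * d.Q ^ 2 + ((h.k : ℤ) - 1) * (1 + d.Q) ^ 2 ≤ 2 * (Nat.card G : ℤ) := by
  set F : IrrCharacter G → ℤ := fun χ =>
    if χ = trivIrr G ∨ χ = d.S ∨ χ = d.P ∨ χ = d.R ∨ ∃ l : h.Dual, l⁻¹ ≠ l ∧ χ = d.B l
    then deg χ * deg χ else 0 with hF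
  have hs := d.sum_special F fun χ h1 h2 h3 h4 h5 => by
    rw [hF]; exact if_neg (by simp only [h1, h2, h3, h4, false_or]; exact fun ⟨l, hl, e⟩ => h5 l hl e)
  have hle : ∑ χ, F χ ≤ (Nat.card G : ℤ) := by
    have e : ((∑ χ : IrrCharacter G, deg χ * deg χ : ℤ) : ℂ) = ((Nat.card G : ℤ) : ℂ) := by
      push_cast
      rw [← sum_degree_sq (G := G)]
      exact Finset.sum_congr rfl fun χ _ => by rw [apply_one_deg, pow_two]
    rw [← (Int.cast_injective e : ∑ χ : IrrCharacter G, deg χ * deg χ = Nat.card G)]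
    refine Finset.sum_le_sum fun χ _ => ?_
    rw [hF]; dsimp only; split_ifs
    exacts [le_rfl, mul_self_nonneg _]
  have a1 : F (trivIrr G) = 1 := by simp [hF, deg_triv]
  have a2 : F d.S = d.Q ^ 2 := by
    simp only [hF, true_or, or_true, if_true, Q]
    linear_combination -(deg d.S * deg d.S) * d.eS_sq
  have a3 : F d.P = d.p ^ 2 := by
    simp only [hF, true_or, or_true, if_true, p]
    linear_combination -(deg d.P * deg d.P) * d.eP_sq
  have a4 : F d.R = d.p ^ 2 := by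
    have e : d.eR * deg d.R = d.p := by
      have := (d.p_eq hk).1
      rw [hR_one, hP_one] at this
      exact Int.cast_injective this
    simp only [hF, true_or, or_true, if_true]
    rw [← e]; linear_combination -(deg d.R * deg d.R) * d.eR_sq
  have a5 : ∑ l ∈ d.NR, F (d.B l) = ∑ l ∈ d.NR, (1 + d.Q) ^ 2 := Finset.sum_congr rfl fun l hl => by
    have hl' := d.mem_NR.1 hl
    have e : d.eB l * deg (d.B l) = 1 + d.Q := by
      refine Int.cast_injective (α := ℂ) ?_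
      push_cast; rw [← d.hX_one hl', hX, apply_one_deg]
    simp only [hF]
    rw [if_pos (Or.inr (Or.inr (Or.inr (Or.inr ⟨l, hl', rfl⟩)))), ← e]
    linear_combination -(deg (d.B l) * deg (d.B l)) * d.eB_sq l hl'
  rw [a1, a2, a3, a4, a5, Finset.sum_const, nsmul_eq_mul] at hs
  have hc : (d.NR.card : ℤ) = (h.k : ℤ) - 2 := by have := d.card_NR; omega
  rw [hc] at hs
  have e1 := (d.p_eq hk).2.1
  have h4 : 4 * d.p ^ 2 = (1 + d.Q) ^ 2 := by rw [← e1]; ring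
  nlinarith

/-- The group order. -/
theorem main (hk : 4 ≤ h.k) : ∃ δ : ℤ, (δ = 1 ∨ δ = -1) ∧ d.Q = 1 + 2 * δ * h.k ∧
    (Nat.card G : ℤ) = (h.k : ℤ) * d.Q * (1 + d.Q) := by
  obtain ⟨j, hj⟩ := d.dvd_Q_sub_one hk
  have hk4 : (4 : ℤ) ≤ h.k := by exact_mod_cast hk
  have hg : (0 : ℤ) < Nat.card G := by exact_mod_cast Nat.card_pos
  have e := (d.p_eq hk).2.2
  have hjk : (Nat.card G : ℤ) * j ^ 2 = (h.k : ℤ) * (d.Q * (1 + d.Q)) := by
    have h4 : (4 : ℤ) * (h.k : ℤ) ^ 2 ≠ 0 := by positivity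
    refine mul_left_cancel₀ h4 ?_
    rw [hj] at e
    linear_combination -e
  have hj0 : j ≠ 0 := by
    rintro rfl
    have hQ1 : d.Q = 1 := by linarith
    rw [hQ1] at hjk
    nlinarith
  have hb := d.degree_bound hk
  have hQe : d.Q = 1 + 2 * (h.k : ℤ) * j := by linarith
  by_cases hsmall : j = 1 ∨ j = -1
  · refine ⟨j, hsmall, by linarith, ?_⟩
    have hj2 : j ^ 2 = 1 := by rcases hsmall with e | e <;> simp [e]
    rw [hj2] at hjk
    linarith
  exfalso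
  have hj2 : 4 ≤ j ^ 2 := by
    have : 2 ≤ j ∨ j ≤ -2 := by omega
    rcases this with e | e <;> nlinarith
  have hb2 : 4 * ((h.k : ℤ) - 1) * (1 + d.Q) ^ 2 + 8 * d.Q ^ 2 + 8 ≤ 2 * (h.k : ℤ) * (d.Q * (1 + d.Q)) := by
    nlinarith
  rcases (show 2 ≤ j ∨ j ≤ -2 by omega) with e | e
  · have : 0 < d.Q := by nlinarith
    nlinarith [mul_pos this (show (0 : ℤ) < 1 + d.Q by linarith)]
  · have hQn : d.Q ≤ -15 := by nlinarith
    obtain ⟨m, hm⟩ : ∃ m : ℤ, d.Q = -m := ⟨-d.Q, (neg_neg _).symm⟩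
    rw [hm] at hb2 hQn
    nlinarith [mul_nonneg (show (0 : ℤ) ≤ m - 15 by linarith) (show (0 : ℤ) ≤ (h.k : ℤ) - 4 by linarith)]

end Conf.Std

end Cfsg.Agent.Lib.Characters.BSW
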