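import Cfsg.Agent.Lib.Characters.BSW.Setup
import Cfsg.Agent.Lib.Cores.PCore
import Cfsg.Agent.Lib.Involutions.DihedralKlein
import Cfsg.Agent.S0514

/-!
# Simple groups with dihedral Sylow 2-subgroups as Brauer–Suzuki–Wall configurations
-/

set_option autoImplicit false
set_option linter.style.haveILetI false
set_option linter.unusedSectionVars false

namespace Cfsg.Agent.Lib.Characters.BSW

open Cfsg Cfsg.Agent.Lib.Involutions
open DihedralGroup (r sr)

variable {G : Type*} [Group G] [Finite G] {n : ℕ}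

/-- A simple group with dihedral Sylow 2-subgroup has one class of involutions. -/
theorem isConj_involutions [IsSimpleGroup G] (d : DihSylow G n) {a b : G} (ha : orderOf a = 2)
    (hb : orderOf b = 2) : IsConj a b := by
  classical
  haveI : Fact (Nat.Prime 2) := ⟨Nat.prime_two⟩
  haveI := d.neZero
  have h4 : 4 ≤ Nat.card G := by
    refine le_trans ?_ (Nat.le_of_dvd Nat.card_pos (d.S : Subgroup G).card_subgroup_dvd_card)
    rw [d.card_S]; have := d.two_le; omega
  have hno : ∀ M : Subgroup G, M.Normal → M.index ≠ 2 := by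
    intro M hM e
    rcases IsSimpleGroup.eq_bot_or_eq_top_of_normal M hM with h | h
    · rw [h, Subgroup.index_bot] at e; omega
    · rw [h, Subgroup.index_top] at e; omega
  have haux : ∀ a : G, orderOf a = 2 → IsConj a (d.ι (r (DihSylow.half n))) := by
    intro a ha
    have hp : IsPGroup 2 (Subgroup.zpowers a) :=
      IsPGroup.of_card (n := 1) (by rw [Nat.card_zpowers, ha, pow_one])
    obtain ⟨g, hg⟩ := conj_le_sylow d.S hp
    have hg' : g * a * g⁻¹ ∈ (d.S : Subgroup G) := hg ⟨a, Subgroup.mem_zpowers a, rfl⟩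
    refine (isConj_iff.2 ⟨g, rfl⟩ : IsConj a (g * a * g⁻¹)).trans ?_
    rcases d.invol_cases ((orderOf_conj_eq g a).trans ha) hg' with e | ⟨i, e⟩
    · rw [e]
    · rw [e]
      exact (d.exists_index_two_or_conj i).resolve_left fun ⟨M, hM, hM2, _⟩ => hno M hM hM2
  exact (haux a ha).trans (haux b hb).symm

/-- A cyclic subgroup of index two through a central involution: all other elements are inverting involutions. -/
theorem cyclic_index_two (d : DihSylow G n) {R : Subgroup G} (hR : R ≤ (d.S : Subgroup G))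
    [IsCyclic R] (hrel : R.relIndex (d.S : Subgroup G) = 2) {x : G} (hx : x ∈ (d.S : Subgroup G))
    (hxR : x ∉ R) : orderOf x = 2 ∧ ∀ b ∈ R, x * b * x⁻¹ = b⁻¹ := by
  haveI := d.neZero
  have hRcard : Nat.card R = n := by
    have h := Subgroup.relIndex_mul_relIndex ⊥ R (d.S : Subgroup G) bot_le hR
    rw [Subgroup.relIndex_bot_left, Subgroup.relIndex_bot_left, hrel, d.card_S, mul_comm 2 n] at h
    exact Nat.eq_of_mul_eq_mul_right two_pos h
  have hx1 : x ≠ 1 := fun e => hxR (e ▸ R.one_mem)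
  by_cases hn2 : n = 2
  · subst hn2
    have hsq : ∀ g ∈ (d.S : Subgroup G), g * g = 1 := by
      intro g hg
      obtain ⟨g', rfl⟩ := d.exists_ι hg
      have key : ∀ x : DihedralGroup 2, x * x = 1 := by decide
      rw [← map_mul, key, map_one]
    refine ⟨orderOf_two (hsq x hx) hx1, fun b hb => ?_⟩
    have h1 := hsq _ (mul_mem hx (hR hb))
    rw [inv_eq_of_mul_eq_one_right (hsq b (hR hb)), inv_eq_of_mul_eq_one_right (hsq x hx)]
    calc x * b * x = (x * b * (x * b)) * b⁻¹ := by group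
      _ = b := by rw [h1, one_mul, inv_eq_of_mul_eq_one_right (hsq b (hR hb))]
  have hn3 : 3 ≤ n := by have := d.two_le; omega
  have hRrot : R = d.rot := by
    obtain ⟨y, hy⟩ := IsCyclic.exists_generator (α := R)
    have hyo : orderOf (y : G) = n := by
      rw [Subgroup.orderOf_coe, orderOf_eq_card_of_forall_mem_zpowers hy, hRcard]
    obtain ⟨g, hg⟩ := d.exists_ι (hR y.2)
    have hyrot : (y : G) ∈ d.rot := by
      cases g with
      | r j => exact d.mem_rot.2 ⟨j, hg⟩
      | sr j =>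
        rw [← hg, d.orderOf_sr] at hyo
        omega
    refine Subgroup.eq_of_le_of_card_ge (fun b hb => ?_) ?_
    · obtain ⟨i, hi⟩ := Subgroup.mem_zpowers_iff.1 (hy ⟨b, hb⟩)
      have : (y : G) ^ i = b := congrArg Subtype.val hi
      rw [← this]
      exact Subgroup.zpow_mem _ hyrot i
    · rw [hRcard, DihSylow.rot, Subgroup.card_map_of_injective d.inj, Nat.card_zpowers,
        DihedralGroup.orderOf_r_one]
  obtain ⟨g, rfl⟩ := d.exists_ι hx
  cases g with
  | r j => exact absurd (hRrot ▸ d.mem_rot.2 ⟨j, rfl⟩) hxR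
  | sr j =>
    refine ⟨d.orderOf_sr j, fun b hb => ?_⟩
    rw [hRrot] at hb
    obtain ⟨i, rfl⟩ := d.mem_rot.1 hb
    rw [← map_inv, ← map_mul, ← map_mul, ← map_inv]
    congr 1
    simp [DihedralGroup.inv_r, DihedralGroup.inv_sr]

/-- A cyclic subgroup of index two containing a given central involution. -/
theorem exists_cyclic_index_two (d : DihSylow G n) {t : G} (ht : orderOf t = 2) (htS : t ∈ (d.S : Subgroup G))
    (htZ : ∀ s ∈ (d.S : Subgroup G), s * t = t * s) :
    ∃ R : Subgroup G, R ≤ (d.S : Subgroup G) ∧ IsCyclic R ∧ R.relIndex (d.S : Subgroup G) = 2 ∧ t ∈ R := by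
  haveI := d.neZero
  by_cases hn2 : n = 2
  · subst hn2
    have hle : Subgroup.zpowers t ≤ (d.S : Subgroup G) := by rwa [Subgroup.zpowers_le]
    refine ⟨Subgroup.zpowers t, hle, inferInstance, ?_, Subgroup.mem_zpowers t⟩
    have h := Subgroup.relIndex_mul_relIndex ⊥ (Subgroup.zpowers t) (d.S : Subgroup G) bot_le hle
    rw [Subgroup.relIndex_bot_left, Subgroup.relIndex_bot_left, Nat.card_zpowers, ht, d.card_S] at h
    omega
  have hn3 : 3 ≤ n := by have := d.two_le; omega
  refine ⟨d.rot, d.rot_le, ?_, d.relIndex_rot, ?_⟩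
  · unfold DihSylow.rot
    exact isCyclic_of_surjective _
      (Subgroup.equivMapOfInjective (Subgroup.zpowers (r 1 : DihedralGroup n)) d.ι d.inj).surjective
  rcases d.invol_cases ht htS with e | ⟨i, e⟩
  · rw [e]; exact d.mem_rot.2 ⟨_, rfl⟩
  · exfalso
    have h1 := htZ _ (d.ι_mem (r 1))
    rw [e, ← map_mul, ← map_mul] at h1
    have h2 : (1 : ZMod n) + 1 = 0 := dihedral_commute_sr_r.1 (show Commute (sr i) (r 1) from (d.inj h1).symm)
    have h3 := congrArg ZMod.val (show ((2 : ℕ) : ZMod n) = 0 by push_cast; rw [← h2]; norm_num)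
    rw [ZMod.val_natCast, ZMod.val_zero, Nat.mod_eq_of_lt (show 2 < n by omega)] at h3
    omega

/-- The hypotheses of Brauer, Suzuki and Wall give a configuration. -/
theorem exists_conf [IsSimpleGroup G] (d : DihSylow G n) {t : G} (ht : orderOf t = 2)
    (htS : t ∈ (d.S : Subgroup G)) (htZ : ∀ s ∈ (d.S : Subgroup G), s * t = t * s) (O : Subgroup G)
    (hO : O = (Cfsg.oddCore (Subgroup.centralizer ({t} : Set G))).map (Subgroup.centralizer ({t} : Set G)).subtype)
    (ha : O ≠ ⊥ → IsCyclic ((d.S : Subgroup G) ⊓ Subgroup.centralizer (O : Set G) : Subgroup G) ∧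
      ((d.S : Subgroup G) ⊓ Subgroup.centralizer (O : Set G)).relIndex (d.S : Subgroup G) = 2)
    (hb : ∀ s ∈ (d.S : Subgroup G), s ∉ Subgroup.centralizer (O : Set G) → ∀ y ∈ O, s * y * s⁻¹ = y⁻¹)
    (hc : ∀ Y : Subgroup G, Y ≤ O → Y ≠ ⊥ → Subgroup.normalizer (Y : Set G) ≤ Subgroup.centralizer ({t} : Set G)) :
    Nonempty (Conf G) := by
  classical
  haveI : Fact (Nat.Prime 2) := ⟨Nat.prime_two⟩
  haveI := d.neZero
  set C := Subgroup.centralizer ({t} : Set G) with hC
  have hSC : (d.S : Subgroup G) ≤ C := fun s hs => Subgroup.mem_centralizer_singleton_iff.2 (htZ s hs)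
  have hOC : O ≤ C := hO ▸ Subgroup.map_subtype_le _
  have hOodd : ¬ 2 ∣ Nat.card O := by
    rw [hO, Subgroup.card_map_of_injective C.subtype_injective]
    exact Cfsg.Agent.Lib.Cores.not_dvd_card_pPrimeCore
  have hOconj : ∀ c ∈ C, ∀ o ∈ O, c * o * c⁻¹ ∈ O := by
    intro c hcC o ho
    rw [hO] at ho ⊢
    obtain ⟨a, ha', rfl⟩ := ho
    exact ⟨⟨c, hcC⟩ * a * ⟨c, hcC⟩⁻¹,
      (Cfsg.Agent.Lib.Cores.pPrimeCore_mem 2 C).1.conj_mem a ha' ⟨c, hcC⟩, rfl⟩
  -- `C = O S`
  have hCOS : ∀ c ∈ C, ∃ o ∈ O, ∃ x ∈ (d.S : Subgroup G), c = o * x := by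
    obtain ⟨N, hN, hNodd, k, hk⟩ := Cfsg.Agent.S0514.result d.S n d.two_le ⟨by
      rw [← d.range_eq]; exact (MonoidHom.ofInjective d.inj).symm⟩ t ht
    have hNO : N.map C.subtype ≤ O := by
      rw [hO]; exact Subgroup.map_mono (Cfsg.Agent.Lib.Cores.le_oddCore hN hNodd)
    have hdis : ((d.S : Subgroup G).subgroupOf C) ⊓ N = ⊥ := by
      refine Subgroup.inf_eq_bot_of_coprime ?_
      rw [Nat.card_congr (Subgroup.subgroupOfEquivOfLe hSC).toEquiv, d.S.card_eq_multiplicity]
      exact Nat.Coprime.pow_left _ (Nat.prime_two.coprime_iff_not_dvd.2 hNodd.not_two_dvd_nat)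
    have hfull : Nat.card C ≤ Nat.card N * Nat.card ((d.S : Subgroup G).subgroupOf C) := by
      rw [← N.card_mul_index, hk, Nat.card_congr (Subgroup.subgroupOfEquivOfLe hSC).toEquiv]
      refine Nat.mul_le_mul_left _ ?_
      rw [d.S.card_eq_multiplicity]
      refine Nat.pow_le_pow_right two_pos ((Nat.prime_two.pow_dvd_iff_le_factorization Nat.card_pos.ne').1 ?_)
      exact (hk ▸ N.index_dvd_card).trans C.card_subgroup_dvd_card
    intro c hcC
    let f : N × ((d.S : Subgroup G).subgroupOf C) → C := fun p => (p.1 : C) * p.2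
    have hf : Function.Injective f := by
      rintro ⟨a, b⟩ ⟨a', b'⟩ e
      have e' : (a : C) * b = (a' : C) * b' := e
      have h0 : (a' : C)⁻¹ * a = (b' : C) * (b : C)⁻¹ := by
        calc (a' : C)⁻¹ * a = (a' : C)⁻¹ * ((a : C) * b) * (b : C)⁻¹ := by group
          _ = _ := by rw [e']; group
      have h1 : (a' : C)⁻¹ * a ∈ ((d.S : Subgroup G).subgroupOf C) ⊓ N :=
        ⟨h0 ▸ Subgroup.mul_mem _ b'.2 (Subgroup.inv_mem _ b.2), N.mul_mem (N.inv_mem a'.2) a.2⟩
      rw [hdis, Subgroup.mem_bot] at h1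
      have ha : a = a' := Subtype.ext (inv_mul_eq_one.1 h1).symm
      subst ha
      exact Prod.ext rfl (Subtype.ext (mul_left_cancel e'))
    have hb' := (Nat.bijective_iff_injective_and_card f).2 ⟨hf,
      le_antisymm (Nat.card_le_card_of_injective f hf) (by rw [Nat.card_prod]; exact hfull)⟩
    obtain ⟨⟨a, b⟩, e⟩ := hb'.2 ⟨c, hcC⟩
    exact ⟨_, hNO ⟨a, a.2, rfl⟩, _, b.2, (congrArg Subtype.val e).symm⟩
  obtain ⟨R, hRS, hRc, hrel, htR, hRcent, hRout⟩ : ∃ R : Subgroup G, R ≤ (d.S : Subgroup G) ∧ IsCyclic R ∧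
      R.relIndex (d.S : Subgroup G) = 2 ∧ t ∈ R ∧ R ≤ Subgroup.centralizer (O : Set G) ∧
      ∀ x ∈ (d.S : Subgroup G), x ∉ R → ∀ y ∈ O, x * y * x⁻¹ = y⁻¹ := by
    by_cases hO1 : O = ⊥
    · obtain ⟨R, h1, h2, h3, h4⟩ := exists_cyclic_index_two d ht htS htZ
      refine ⟨R, h1, h2, h3, h4, fun r _ o ho => ?_, fun x _ _ y hy => ?_⟩
      · rw [show o = 1 by rw [SetLike.mem_coe, hO1, Subgroup.mem_bot] at ho; exact ho, one_mul, mul_one]
      · rw [hO1, Subgroup.mem_bot] at hy; rw [hy]; simp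
    · obtain ⟨h2, h3⟩ := ha hO1
      refine ⟨_, inf_le_left, h2, h3, ⟨htS, fun o ho => ?_⟩, inf_le_right, fun x hx hxR =>
        hb x hx fun e => hxR ⟨hx, e⟩⟩
      exact Subgroup.mem_centralizer_singleton_iff.1 (hOC ho)
  have hRinv : ∀ x ∈ (d.S : Subgroup G), x ∉ R → orderOf x = 2 ∧ ∀ b ∈ R, x * b * x⁻¹ = b⁻¹ :=
    fun x hx hxR => cyclic_index_two d hRS hrel hx hxR
  obtain ⟨s, hsS, hsR⟩ : ∃ s, s ∈ (d.S : Subgroup G) ∧ s ∉ R := by
    by_contra hn
    push Not at hn
    rw [Subgroup.relIndex_eq_one.2 hn] at hrel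
    omega
  obtain ⟨hs2, hsRinv⟩ := hRinv s hsS hsR
  have hsO : ∀ y ∈ O, s * y * s⁻¹ = y⁻¹ := hRout s hsS hsR
  have hOab : ∀ a ∈ O, ∀ b ∈ O, a * b = b * a := by
    intro a ha b hb
    have e := hsO (a * b) (O.mul_mem ha hb)
    rw [show s * (a * b) * s⁻¹ = (s * a * s⁻¹) * (s * b * s⁻¹) by group, hsO a ha, hsO b hb, mul_inv_rev] at e
    have := congrArg (·⁻¹) e
    simp only [mul_inv_rev, inv_inv] at this
    exact this.symm
  have hOS : ∀ a ∈ O, a ∈ (d.S : Subgroup G) → a = 1 := fun a ha hs =>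
    orderOf_eq_one_iff.1 (Nat.eq_one_of_dvd_coprimes
      (d.S.card_eq_multiplicity ▸ Nat.Coprime.pow_left _ (Nat.prime_two.coprime_iff_not_dvd.2 hOodd))
      ((d.S : Subgroup G).orderOf_dvd_natCard hs) (O.orderOf_dvd_natCard ha))
  -- the subgroup `K = O R`
  have hOR : ∀ o ∈ O, ∀ b ∈ R, o * b = b * o := fun o ho b hb => hRcent hb o ho
  have hRab : ∀ a ∈ R, ∀ b ∈ R, a * b = b * a := by
    intro a ha b hb
    haveI := hRc
    letI := IsCyclic.commGroup (α := R)
    exact congrArg Subtype.val (mul_comm (⟨a, ha⟩ : R) ⟨b, hb⟩)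
  let K : Subgroup G :=
    { carrier := {x | ∃ o ∈ O, ∃ b ∈ R, x = o * b}
      one_mem' := ⟨1, O.one_mem, 1, R.one_mem, (mul_one _).symm⟩
      mul_mem' := by
        rintro x y ⟨o, ho, b, hb, rfl⟩ ⟨o', ho', b', hb', rfl⟩
        refine ⟨o * o', O.mul_mem ho ho', b * b', R.mul_mem hb hb', ?_⟩
        calc o * b * (o' * b') = o * (b * o') * b' := by group
          _ = _ := by rw [← hOR o' ho' b hb]; group
      inv_mem' := by
        rintro x ⟨o, ho, b, hb, rfl⟩
        refine ⟨o⁻¹, O.inv_mem ho, b⁻¹, R.inv_mem hb, ?_⟩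
        rw [mul_inv_rev, hOR _ (O.inv_mem ho) _ (R.inv_mem hb)] }
  have hK : ∀ x, x ∈ K ↔ ∃ o ∈ O, ∃ b ∈ R, x = o * b := fun x => Iff.rfl
  have hRK : ∀ b ∈ R, b ∈ K := fun b hb => ⟨1, O.one_mem, b, hb, (one_mul b).symm⟩
  have hOK : ∀ o ∈ O, o ∈ K := fun o ho => ⟨o, ho, 1, R.one_mem, (mul_one o).symm⟩
  have hKab : ∀ x ∈ K, ∀ y ∈ K, x * y = y * x := by
    rintro x ⟨o, ho, b, hb, rfl⟩ y ⟨o', ho', b', hb', rfl⟩
    calc o * b * (o' * b') = o * (b * o') * b' := by group
      _ = (o * o') * (b * b') := by rw [← hOR o' ho' b hb]; group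
      _ = (o' * o) * (b' * b) := by rw [hOab o ho o' ho', hRab b hb b' hb']
      _ = o' * (o * b') * b := by group
      _ = _ := by rw [hOR o ho b' hb']; group
  have hKC : K ≤ C := by
    rintro x ⟨o, ho, b, hb, rfl⟩
    exact C.mul_mem (hOC ho) (hSC (hRS hb))
  have hsK : s ∉ K := by
    rintro ⟨o, ho, b, hb, e⟩
    have : o = 1 := hOS o ho (by
      rw [eq_mul_inv_of_mul_eq e.symm]
      exact (d.S : Subgroup G).mul_mem hsS ((d.S : Subgroup G).inv_mem (hRS hb)))
    rw [this, one_mul] at e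
    exact hsR (e ▸ hb)
  have hss := mul_self_of_two hs2
  have hdec : ∀ c ∈ C, c ∈ K ∨ c * s ∈ K := by
    intro c hc
    obtain ⟨o, ho, x, hx, rfl⟩ := hCOS c hc
    by_cases hxR : x ∈ R
    · exact Or.inl ⟨o, ho, x, hxR, rfl⟩
    · refine Or.inr ⟨o, ho, x * s, ?_, mul_assoc _ _ _⟩
      have hR2 : (R.subgroupOf (d.S : Subgroup G)).index = 2 := hrel
      have := (Subgroup.mul_mem_iff_of_index_two hR2 (a := ⟨x, hx⟩) (b := ⟨s, hsS⟩))
      simp only [Subgroup.mem_subgroupOf, Subgroup.coe_mul] at this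
      exact this.2 (iff_of_false hxR hsR)
  have hinvK : ∀ x ∈ K, s * x * s⁻¹ = x⁻¹ := by
    rintro x ⟨o, ho, b, hb, rfl⟩
    rw [show s * (o * b) * s⁻¹ = (s * o * s⁻¹) * (s * b * s⁻¹) by group, hsO o ho, hsRinv b hb, mul_inv_rev,
      hOR _ (O.inv_mem ho) _ (R.inv_mem hb)]
  have hinvol : ∀ x ∈ K, x * x = 1 → x = 1 ∨ x = t := by
    rintro x ⟨o, ho, b, hb, rfl⟩ h2
    have h3 : o * o = (b * b)⁻¹ := eq_inv_of_mul_eq_one_left (by
      rw [← h2]
      calc o * o * (b * b) = o * (o * b) * b := by group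
        _ = o * (b * o) * b := by rw [hOR o ho b hb]
        _ = _ := by group)
    have ho2 : o * o = 1 := hOS _ (O.mul_mem ho ho) (h3 ▸
      (d.S : Subgroup G).inv_mem ((d.S : Subgroup G).mul_mem (hRS hb) (hRS hb)))
    have ho1 : o = 1 := orderOf_eq_one_iff.1 (Nat.eq_one_of_dvd_coprimes
      (Nat.prime_two.coprime_iff_not_dvd.2 hOodd)
      (orderOf_dvd_of_pow_eq_one (by rw [pow_two]; exact ho2)) (O.orderOf_dvd_natCard ho))
    rw [ho1, one_mul] at h2 ⊢
    by_contra hne
    simp only [not_or] at hne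
    haveI := hRc
    haveI := Fintype.ofFinite R
    have hle := IsCyclic.card_pow_eq_one_le (α := R) (n := 2) two_pos
    have hsub : ({1, ⟨b, hb⟩, ⟨t, htR⟩} : Finset R) ⊆ Finset.univ.filter fun a => a ^ 2 = 1 := by
      intro a ha
      simp only [Finset.mem_insert, Finset.mem_singleton] at ha
      simp only [Finset.mem_filter, Finset.mem_univ, true_and]
      rcases ha with rfl | rfl | rfl
      · exact one_pow 2
      · exact Subtype.ext (by rw [Subgroup.coe_pow, pow_two]; exact h2)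
      · exact Subtype.ext (by rw [Subgroup.coe_pow, pow_two]; exact mul_self_of_two ht)
    have h4 := Finset.card_le_card hsub
    rw [Finset.card_insert_of_notMem, Finset.card_pair] at h4
    · omega
    · exact fun e => hne.2 (congrArg Subtype.val e)
    · simp only [Finset.mem_insert, Finset.mem_singleton, not_or, Subtype.ext_iff, OneMemClass.coe_one]
      exact ⟨Ne.symm hne.1, Ne.symm (ne_one_of_two ht)⟩
  refine ⟨{
    t := t, K := K, s := s, ht := ht
    ab := ⟨⟨fun a b => Subtype.ext (hKab a a.2 b b.2)⟩⟩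
    hKH := hKC, htK := hRK t htR, hs := hs2, hsH := hSC hsS, hsK := hsK
    hH := ?_, hCK := ?_, hinv := hinvK, hTI := ?_
    hconj := fun a b ha hb => isConj_involutions d ha hb }⟩
  · refine le_antisymm (sup_le hKC (by rw [Subgroup.zpowers_le]; exact hSC hsS)) fun c hcC => ?_
    rcases hdec c hcC with e | e
    · exact Subgroup.mem_sup_left e
    · rw [show c = c * s * s by rw [mul_assoc, hss, mul_one]]
      exact Subgroup.mul_mem_sup e (Subgroup.mem_zpowers s)
  · refine le_antisymm (fun x hx => ?_) ?_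
    · have e := Subgroup.mem_centralizer_singleton_iff.1 hx.2
      have e2 := hinvK x hx.1
      rw [← e, mul_inv_cancel_right] at e2
      rcases hinvol x hx.1 (by rw [← eq_inv_iff_mul_eq_one]; exact e2) with rfl | rfl
      · exact Subgroup.one_mem _
      · exact Subgroup.mem_zpowers _
    · rw [Subgroup.zpowers_le]
      refine ⟨hRK t htR, Subgroup.mem_centralizer_singleton_iff.2 ?_⟩
      exact (htZ s hsS).symm
  · intro g hg
    rw [Subgroup.eq_bot_iff_forall]
    rintro x ⟨hx, hx'⟩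
    by_contra hx1
    obtain ⟨y, hy, hyx⟩ := Subgroup.mem_map.1 hx'
    have hyx : g * y * g⁻¹ = x := by simpa using hyx
    by_cases h2 : 2 ∣ orderOf x
    · have hw2 := orderOf_pow_orderOf_div (orderOf_pos x).ne' h2
      set m := orderOf x / 2
      have hxt : x ^ m = t := (hinvol _ (K.pow_mem hx m) (mul_self_of_two hw2)).resolve_left
        (ne_one_of_two hw2)
      have hy2 : orderOf (y ^ m) = 2 := by
        rw [← hw2, ← hyx, conj_pow]
        exact (orderOf_conj_eq g _).symm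
      have hyt : y ^ m = t := (hinvol _ (K.pow_mem hy m) (mul_self_of_two hy2)).resolve_left
        (ne_one_of_two hy2)
      rw [← hyx, conj_pow, hyt] at hxt
      exact hg (Subgroup.mem_centralizer_singleton_iff.2 (mul_inv_eq_iff_eq_mul.1 hxt))
    · have hxO : x ∈ O := by
        obtain ⟨o, ho, b, hb, e⟩ := (hK x).1 hx
        have h3 : b ^ orderOf x = 1 := by
          have hp : (o * b) ^ orderOf x = 1 := by rw [← e]; exact pow_orderOf_eq_one x
          rw [(show Commute o b from hOR o ho b hb).mul_pow] at hp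
          have h5 : o ^ orderOf x ∈ (d.S : Subgroup G) := by
            rw [eq_inv_of_mul_eq_one_left hp]
            exact (d.S : Subgroup G).inv_mem ((d.S : Subgroup G).pow_mem (hRS hb) _)
          rwa [hOS _ (O.pow_mem ho _) h5, one_mul] at hp
        have hb1 : b = 1 := orderOf_eq_one_iff.1 (Nat.eq_one_of_dvd_coprimes
          (d.S.card_eq_multiplicity ▸ Nat.Coprime.pow_left _ (Nat.prime_two.coprime_iff_not_dvd.2 h2))
          ((d.S : Subgroup G).orderOf_dvd_natCard (hRS hb)) (orderOf_dvd_of_pow_eq_one h3))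
        rw [e, hb1, mul_one]; exact ho
      set t' := g * t * g⁻¹ with ht'
      have hcomm : t' * x = x * t' := by
        rw [ht', ← hyx]
        calc g * t * g⁻¹ * (g * y * g⁻¹) = g * (t * y) * g⁻¹ := by group
          _ = g * (y * t) * g⁻¹ := by rw [hKab t (hRK t htR) y hy]
          _ = _ := by group
      have hN : t' ∈ Subgroup.normalizer (Subgroup.zpowers x : Set G) := by
        refine (Subgroup.centralizer_le_normalizer _) ?_
        intro w hw
        obtain ⟨i, rfl⟩ := Subgroup.mem_zpowers_iff.1 hw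
        exact ((show Commute x t' from hcomm.symm).zpow_left i).eq
      have htC : t' ∈ C := hc _ (by rw [Subgroup.zpowers_le]; exact hxO) (by simpa using hx1) hN
      rcases hdec t' htC with e | e
      · have ht'2 : orderOf t' = 2 := (orderOf_conj_eq g t).trans ht
        have := (hinvol _ e (mul_self_of_two ht'2)).resolve_left (ne_one_of_two ht'2)
        exact hg (Subgroup.mem_centralizer_singleton_iff.2 (mul_inv_eq_iff_eq_mul.1 this))
      · have h4 : t' * x * t'⁻¹ = x⁻¹ := by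
          calc t' * x * t'⁻¹ = (t' * s) * (s⁻¹ * x * s) * (t' * s)⁻¹ := by group
            _ = (t' * s) * x⁻¹ * (t' * s)⁻¹ := by
              rw [show s⁻¹ * x * s = x⁻¹ by
                rw [inv_of_two hs2]; simpa [inv_of_two hs2] using hinvK x hx]
            _ = x⁻¹ := by rw [hKab _ e _ (K.inv_mem hx), mul_inv_cancel_right]
        rw [hcomm, mul_inv_cancel_right] at h4
        refine hx1 (orderOf_eq_one_iff.1 (Nat.eq_one_of_dvd_coprimes
          (Nat.prime_two.coprime_iff_not_dvd.2 h2) ?_ dvd_rfl))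
        exact orderOf_dvd_of_pow_eq_one (by rw [pow_two]; exact mul_eq_one_iff_eq_inv.2 h4)

end Cfsg.Agent.Lib.Characters.BSW
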