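import Cfsg.Agent.Lib.Characters.BSW.Degrees
import Cfsg.Agent.Lib.Characters.Values
import Cfsg.Agent.Lib.InvChar.GaloisChar

/-!
# Abstract Brauer–Suzuki–Wall configuration: conjugates of `K` and congruences
-/

set_option autoImplicit false
set_option linter.style.haveILetI false
set_option linter.unusedSectionVars false

namespace Cfsg.Agent.Lib.Characters.BSW

open Cfsg Cfsg.Agent.Lib.Characters Cfsg.Agent.Lib.BlockHeights
open scoped ComplexConjugate Classical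

universe u

/-- Integral character values at `g` and `g ^ (p ^ m)` are congruent modulo `p`. -/
theorem dvd_value_pow_sub {G : Type u} [Group G] [Finite G] {χ : G → ℂ} (hχ : IsCharacter G χ) {p : ℕ}
    (hp : p.Prime) (m : ℕ) {g : G} {a b : ℤ} (ha : χ g = a) (hb : χ (g ^ p ^ m) = b) :
    (p : ℤ) ∣ a ^ p ^ m - b := by
  obtain ⟨ι, hι, μ, hμ, e⟩ := exists_eigen_sum hχ g
  let R := integralClosure ℤ ℂ
  let ν : ι → R := fun i => ⟨μ i, isIntegral_of_pow_eq_one (orderOf_pos g).ne' (hμ i)⟩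
  obtain ⟨r, hr⟩ := exists_sum_pow_prime_pow hp (Finset.univ : Finset ι) ν m
  have hr' := congrArg Subtype.val hr
  simp only [SubmonoidClass.coe_pow, AddSubmonoidClass.coe_finsetSum, MulMemClass.coe_mul,
    AddMemClass.coe_add, SubringClass.coe_natCast, ν] at hr'
  have e1 := e 1
  simp only [pow_one] at e1
  rw [← e (p ^ m), ← e1, ha, hb] at hr'
  have hp0 : (p : ℂ) ≠ 0 := Nat.cast_ne_zero.2 hp.ne_zero
  have hq : (((((a ^ p ^ m - b : ℤ) : ℚ)) / p : ℚ) : ℂ) = (r : ℂ) := by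
    push_cast
    rw [div_eq_iff hp0]
    linear_combination hr'
  obtain ⟨z, hz⟩ := exists_int_of_isIntegral_rat (q := ((a ^ p ^ m - b : ℤ) : ℚ) / p) (hq ▸ r.2)
  refine ⟨z, ?_⟩
  have hpq : (p : ℚ) ≠ 0 := Nat.cast_ne_zero.2 hp.ne_zero
  rw [div_eq_iff hpq] at hz
  have : ((a ^ p ^ m - b : ℤ) : ℚ) = (((p : ℤ) * z : ℤ) : ℚ) := by rw [hz]; push_cast; ring
  exact_mod_cast this

namespace Conf

variable {G : Type u} [Group G] (h : Conf G) [Finite G]

/-- Elements of order two. -/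
theorem inK_of_two {z : G} (hz : orderOf z = 2) : h.InK z := by
  obtain ⟨c, hc⟩ := isConj_iff.1 (h.hconj _ _ hz h.ht)
  exact ⟨ne_one_of_two hz, c, by rw [hc]; exact h.htK⟩

theorem orderOf_dvd_of_inK {z : G} (hz : h.InK z) : orderOf z ∣ h.k := by
  obtain ⟨-, c, hc⟩ := hz
  have e : orderOf z = orderOf (c * z * c⁻¹) := ((MulAut.conj c).orderOf_eq z).symm
  rw [e]
  exact h.K.orderOf_dvd_natCard hc

theorem inK_conj {z : G} (hz : h.InK z) (c : G) : h.InK (c * z * c⁻¹) := by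
  obtain ⟨h1, e, he⟩ := hz
  refine ⟨fun e' => h1 (conj_eq_one_iff.1 e'), e * c⁻¹, ?_⟩
  rwa [show e * c⁻¹ * (c * z * c⁻¹) * (e * c⁻¹)⁻¹ = e * z * e⁻¹ by group]

theorem inK_inv {z : G} (hz : h.InK z) : h.InK z⁻¹ := by
  obtain ⟨h1, c, hc⟩ := hz
  exact ⟨inv_ne_one.2 h1, c, by rw [show c * z⁻¹ * c⁻¹ = (c * z * c⁻¹)⁻¹ by group]; exact h.K.inv_mem hc⟩

theorem inK_of_mem {x : G} (hx : x ∈ h.K) (hx1 : x ≠ 1) : h.InK x := ⟨hx1, 1, by simpa using hx⟩

/-- Whatever commutes with a conjugate of `K#` is one. -/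
theorem inK_of_commute {a z : G} (ha : h.InK a) (hz : Commute a z) (hz1 : z ≠ 1) : h.InK z := by
  obtain ⟨ha1, c, hc⟩ := ha
  have hH : c * z * c⁻¹ ∈ Subgroup.centralizer ({h.t} : Set G) := by
    refine h.mem_H_of_conj hc (fun e => ha1 (conj_eq_one_iff.1 e)) ?_
    have e : c * z * c⁻¹ * (c * a * c⁻¹) * (c * z * c⁻¹)⁻¹ = c * a * c⁻¹ := by
      calc _ = c * (z * a) * z⁻¹ * c⁻¹ := by group
        _ = c * (a * z) * z⁻¹ * c⁻¹ := by rw [hz.eq]
        _ = _ := by group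
    rwa [e]
  have hz1' : c * z * c⁻¹ ≠ 1 := fun e => hz1 (conj_eq_one_iff.1 e)
  have hI : h.InK (c * z * c⁻¹) := by
    by_cases hK : c * z * c⁻¹ ∈ h.K
    · exact h.inK_of_mem hK hz1'
    · obtain ⟨b, hb, e⟩ := h.exists_as hH hK
      rw [e]; exact h.inK_of_two (h.as_two hb)
  have := h.inK_conj hI c⁻¹
  rwa [show c⁻¹ * (c * z * c⁻¹) * c⁻¹⁻¹ = z by group] at this

/-- The number of conjugates of nontrivial elements of `K`. -/
theorem card_inK : Nat.card {z : G // h.InK z} * (2 * h.k) = Nat.card G * (h.k - 1) := by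
  classical
  haveI := Fintype.ofFinite G
  let f : G × {y : h.K // y ≠ 1} → {z : G // h.InK z} := fun p =>
    ⟨p.1⁻¹ * (p.2.1 : G) * p.1, fun e => p.2.2 (Subtype.ext (by
      have := congrArg (fun w => p.1 * w * p.1⁻¹) e
      simpa [mul_assoc] using this)), p.1, by simp [mul_assoc]⟩
  have hfib : ∀ z, Nat.card {p // f p = z} = 2 * h.k := by
    rintro ⟨z, hz1, c₀, hc₀⟩
    rw [← h.card_H]
    refine (Nat.card_congr ?_).symm
    refine Equiv.ofBijective (fun a => ⟨((a : G) * c₀, ⟨⟨(a : G) * c₀ * z * ((a : G) * c₀)⁻¹, ?_⟩, ?_⟩),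
      Subtype.ext ?_⟩) ⟨?_, ?_⟩
    · have hn : (a : G) ∈ Subgroup.normalizer (h.K : Set G) := by
        rw [h.normalizer_sub le_rfl h.K_ne_bot]; exact a.2
      rw [show (a : G) * c₀ * z * ((a : G) * c₀)⁻¹ = (a : G) * (c₀ * z * c₀⁻¹) * (a : G)⁻¹ by group]
      exact (Subgroup.mem_normalizer_iff.1 hn _).1 hc₀
    · intro e
      exact hz1 (conj_eq_one_iff.1 (congrArg Subtype.val e))
    · simp only [f]; group
    · intro a b e
      have := congrArg (fun p => p.1.1) e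
      exact Subtype.ext (mul_right_cancel this)
    · rintro ⟨⟨c, ⟨y, hy⟩, hy1⟩, e⟩
      have e' : c⁻¹ * y * c = z := congrArg Subtype.val e
      have hcz : c * z * c⁻¹ = y := by rw [← e']; group
      have hm : c * c₀⁻¹ ∈ Subgroup.centralizer ({h.t} : Set G) := by
        refine h.mem_H_of_conj hc₀ (fun e => hz1 (conj_eq_one_iff.1 e)) ?_
        rw [show c * c₀⁻¹ * (c₀ * z * c₀⁻¹) * (c * c₀⁻¹)⁻¹ = c * z * c⁻¹ by group, hcz]
        exact hy
      refine ⟨⟨_, hm⟩, Subtype.ext (Prod.ext (by simp) (Subtype.ext (Subtype.ext ?_)))⟩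
      simp only [inv_mul_cancel_right]
      exact hcz
  have hK : Nat.card {y : h.K // y ≠ 1} = h.k - 1 := by
    haveI := Fintype.ofFinite h.K
    rw [Nat.card_eq_fintype_card, Fintype.card_subtype_compl, Fintype.card_subtype_eq,
      ← Nat.card_eq_fintype_card]
    rfl
  rw [← hK, ← Nat.card_prod, ← Nat.card_congr (Equiv.sigmaFiberEquiv f)]
  haveI := Fintype.ofFinite {z : G // h.InK z}
  rw [Nat.card_sigma, Finset.sum_congr rfl (fun z _ => hfib z), Finset.sum_const, Finset.card_univ,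
    Nat.card_eq_fintype_card, smul_eq_mul]

end Conf

end Cfsg.Agent.Lib.Characters.BSW
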