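import Cfsg.Agent.Lib.Characters.BSW.Setup

/-!
# Abstract Brauer–Suzuki–Wall configuration: the integral vectors
-/

set_option autoImplicit false
set_option linter.style.haveILetI false
set_option linter.unusedSectionVars false

namespace Cfsg.Agent.Lib.Characters.BSW

open Cfsg Cfsg.Agent.Lib.Characters Cfsg.Agent.Lib.BlockHeights
open scoped ComplexConjugate Classical

universe u

/-- An integral vector of square length at most three has entries `0, ±1`. -/
theorem small_entries {ι : Type*} [Fintype ι] (a : ι → ℤ) {n : ℕ} (hn : n ≤ 3)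
    (h : ∑ i, a i * a i = n) :
    (∀ i, a i = 0 ∨ a i = 1 ∨ a i = -1) ∧ (Finset.univ.filter (fun i => a i ≠ 0)).card = n := by
  have h1 : ∀ i, a i = 0 ∨ a i = 1 ∨ a i = -1 := fun i => by
    have hle : a i * a i ≤ n := h ▸ Finset.single_le_sum (f := fun j => a j * a j)
      (fun j _ => mul_self_nonneg _) (Finset.mem_univ i)
    have : a i ≤ 1 := by nlinarith
    have : -1 ≤ a i := by nlinarith
    omega
  refine ⟨h1, ?_⟩
  have e : ∀ i, a i * a i = if a i ≠ 0 then (1 : ℤ) else 0 := fun i => by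
    rcases h1 i with e | e | e <;> simp [e]
  rw [Finset.sum_congr rfl (fun i _ => e i), Finset.sum_boole] at h
  exact_mod_cast h

/-- The degree of an irreducible character. -/
noncomputable def deg {G : Type u} [Group G] (χ : IrrCharacter G) : ℤ := charDegree (χ : G → ℂ)

theorem apply_one_deg {G : Type u} [Group G] (χ : IrrCharacter G) : (χ : G → ℂ) 1 = (deg χ : ℂ) := by
  rw [irr_apply_one, deg, Int.cast_natCast]

theorem deg_pos {G : Type u} [Group G] (χ : IrrCharacter G) : 0 < deg χ := by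
  rw [deg]; exact_mod_cast charDegree_irr_pos χ

theorem deg_triv (G : Type u) [Group G] : deg (trivIrr G) = 1 := by
  rw [deg, charDegree_trivIrr, Nat.cast_one]

namespace Conf

variable {G : Type u} [Group G] (h : Conf G) [Finite G] [Fintype G] [Fintype (IrrCharacter G)]

/-- The multiplicity vectors as integers. -/
noncomputable def w (χ : IrrCharacter G) (l : h.Dual) : ℤ := (h.exists_v_int χ l).choose

theorem v_eq_w (χ : IrrCharacter G) (l : h.Dual) : h.v χ l = (h.w χ l : ℂ) :=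
  (h.exists_v_int χ l).choose_spec

theorem w_one (χ : IrrCharacter G) : h.w χ 1 = 0 := by
  have := h.v_one χ
  rw [v_eq_w] at this
  exact_mod_cast this

theorem dual_inv_inv (l : h.Dual) : l⁻¹⁻¹ = l := MonoidHom.ext fun x => by simp

theorem dual_inv_one : (1 : h.Dual)⁻¹ = 1 := MonoidHom.ext fun x => by simp

theorem dual_inv_ne_one {l : h.Dual} (hl : l ≠ 1) : l⁻¹ ≠ 1 := fun e =>
  hl (by rw [← h.dual_inv_inv l, e, dual_inv_one])

theorem w_triv {l : h.Dual} (hl : l ≠ 1) : h.w (trivIrr G) l = -1 := by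
  haveI := Fintype.ofFinite h.K
  have hk : (h.k : ℂ) ≠ 0 := Nat.cast_ne_zero.2 h.k_pos.ne'
  have e : h.v (trivIrr G) l = ((-1 : ℤ) : ℂ) := by
    rw [v_eq]
    simp only [trivIrr_apply, one_mul, Finset.sum_sub_distrib, conj_dual, sum_apply_dual,
      if_neg (h.dual_inv_ne_one hl), Finset.sum_const, Finset.card_univ, nsmul_eq_mul, mul_one]
    rw [← Nat.card_eq_fintype_card, show Nat.card h.K = h.k from rfl]
    push_cast; field_simp; ring
  rw [v_eq_w] at e
  exact_mod_cast e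

theorem value_conj_inv (χ : IrrCharacter G) (x : h.K) :
    (χ : G → ℂ) ((x⁻¹ : h.K) : G) = (χ : G → ℂ) x := by
  rw [Subgroup.coe_inv, ← h.hinv x x.2]
  exact IsCharacter.conj_apply (irr_isCharacter χ) _ _

theorem w_inv (χ : IrrCharacter G) (l : h.Dual) : h.w χ l⁻¹ = h.w χ l := by
  haveI := Fintype.ofFinite h.K
  have e : h.v χ l⁻¹ = h.v χ l := by
    rw [v_eq, v_eq]; congr 1
    refine Fintype.sum_equiv (Equiv.inv h.K) _ _ fun x => ?_
    simp only [Equiv.inv_apply, value_conj_inv, conj_dual, inv_inv, MonoidHom.inv_apply, map_inv]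
  rw [v_eq_w, v_eq_w] at e
  exact_mod_cast e

theorem sum_w_mul {l m : h.Dual} (hl : l ≠ 1) (hm : m ≠ 1) :
    ∑ χ : IrrCharacter G, h.w χ l * h.w χ m =
      (if l = m then (1 : ℤ) else 0) + (if l = m⁻¹ then 1 else 0) + 2 := by
  have e := h.gram hl hm
  simp only [v_eq_w, map_intCast] at e
  have e' : ((∑ χ : IrrCharacter G, h.w χ l * h.w χ m : ℤ) : ℂ) =
      (((if l = m then (1 : ℤ) else 0) + (if l = m⁻¹ then 1 else 0) + 2 : ℤ) : ℂ) := by
    push_cast
    rw [e]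
  exact_mod_cast e'

/-- Nontrivial elements conjugate into `K`. -/
def InK (z : G) : Prop := z ≠ 1 ∧ ∃ c : G, c * z * c⁻¹ ∈ h.K

theorem sum_w_value (l : h.Dual) {z : G} (hz : ¬ h.InK z) :
    ∑ χ : IrrCharacter G, (h.w χ l : ℂ) * (χ : G → ℂ) z = 0 := by
  haveI := Fintype.ofFinite h.K
  simp only [← v_eq_w, v_eq, Finset.mul_sum, Finset.sum_mul]
  rw [Finset.sum_comm]
  refine Finset.sum_eq_zero fun x _ => ?_
  by_cases hx : x = 1
  · subst hx; simp
  rw [Finset.sum_congr rfl fun (χ : IrrCharacter G) _ => show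
    (h.k : ℂ)⁻¹ * ((χ : G → ℂ) x * (conj (l x : ℂ) - 1)) * (χ : G → ℂ) z =
      (h.k : ℂ)⁻¹ * (conj (l x : ℂ) - 1) * ((χ : G → ℂ) z * conj ((χ : G → ℂ) ((x⁻¹ : h.K) : G))) by
    rw [Subgroup.coe_inv, IsCharacter.apply_inv (irr_isCharacter χ), Complex.conj_conj]; ring,
    ← Finset.mul_sum, sum_irr_mul_conj, if_neg, mul_zero]
  intro e
  obtain ⟨c, hc⟩ := isConj_iff.1 e
  refine hz ⟨?_, c, hc ▸ (x⁻¹).2⟩
  rintro rfl
  rw [mul_one, mul_inv_cancel] at hc
  exact hx (inv_eq_one.1 (Subtype.ext hc.symm))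

theorem sum_w_deg (l : h.Dual) : ∑ χ : IrrCharacter G, h.w χ l * deg χ = 0 := by
  have e := h.sum_w_value l (z := 1) fun e => e.1 rfl
  simp only [apply_one_deg] at e
  exact_mod_cast e

theorem exists_eps : ∃ ε : h.Dual, ε ≠ 1 ∧ ε⁻¹ = ε ∧ ∀ l : h.Dual, l⁻¹ = l → l = 1 ∨ l = ε := by
  haveI := h.ab
  haveI : NeZero (Monoid.exponent h.K) := ⟨Monoid.exponent_ne_zero_of_finite⟩
  open scoped IsMulCommutative in
  obtain ⟨e⟩ := CommGroup.monoidHom_mulEquiv_of_hasEnoughRootsOfUnity h.K ℂ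
  refine ⟨e.symm ⟨h.t, h.htK⟩, ?_, ?_, fun l hl => ?_⟩
  · intro e'
    have := congrArg e e'
    rw [e.apply_symm_apply, map_one] at this
    exact ne_one_of_two h.ht (congrArg Subtype.val this)
  · exact (map_inv e.symm _).symm.trans
      (congrArg e.symm (Subtype.ext (inv_of_two h.ht)))
  · have h1 : (e l)⁻¹ = e l := by rw [← map_inv, hl]
    rcases h.involution_K (e l).2 (by
      rw [← eq_inv_iff_mul_eq_one, ← Subgroup.coe_inv, h1]) with e' | e'
    · exact Or.inl (e.injective (by rw [map_one]; exact Subtype.ext e'))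
    · exact Or.inr (e.injective (by rw [e.apply_symm_apply]; exact Subtype.ext e'))

/-- The data of the main case. -/
structure Std where
  ε : h.Dual
  ε_ne : ε ≠ 1
  ε_inv : ε⁻¹ = ε
  ε_uniq : ∀ l : h.Dual, l⁻¹ = l → l = 1 ∨ l = ε
  S : IrrCharacter G
  P : IrrCharacter G
  R : IrrCharacter G
  B : h.Dual → IrrCharacter G
  eS : ℤ
  eP : ℤ
  eR : ℤ
  eB : h.Dual → ℤ
  eS_sq : eS * eS = 1
  eP_sq : eP * eP = 1
  eR_sq : eR * eR = 1
  eB_sq : ∀ l : h.Dual, l⁻¹ ≠ l → eB l * eB l = 1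
  S_triv : S ≠ trivIrr G
  P_triv : P ≠ trivIrr G
  R_triv : R ≠ trivIrr G
  SP : S ≠ P
  SR : S ≠ R
  PR : P ≠ R
  B_triv : ∀ l : h.Dual, l⁻¹ ≠ l → B l ≠ trivIrr G
  BS : ∀ l : h.Dual, l⁻¹ ≠ l → B l ≠ S
  BP : ∀ l : h.Dual, l⁻¹ ≠ l → B l ≠ P
  BR : ∀ l : h.Dual, l⁻¹ ≠ l → B l ≠ R
  B_eq : ∀ l m : h.Dual, l⁻¹ ≠ l → m⁻¹ ≠ m → (B l = B m ↔ m = l ∨ m = l⁻¹)
  wS : ∀ l : h.Dual, l ≠ 1 → h.w S l = eS
  wP : ∀ l : h.Dual, h.w P l = if l = ε then eP else 0
  wR : ∀ l : h.Dual, h.w R l = if l = ε then eR else 0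
  wB : ∀ l : h.Dual, l⁻¹ ≠ l → ∀ m : h.Dual, h.w (B l) m = if m = l ∨ m = l⁻¹ then eB l else 0
  others : ∀ χ : IrrCharacter G, χ ≠ trivIrr G → χ ≠ S → χ ≠ P → χ ≠ R →
    (∀ l : h.Dual, l⁻¹ ≠ l → χ ≠ B l) → ∀ l : h.Dual, h.w χ l = 0

theorem two_of_ne {ε l : h.Dual} (hu : ∀ m : h.Dual, m⁻¹ = m → m = 1 ∨ m = ε) (h1 : l ≠ 1) (h2 : l ≠ ε) :
    l⁻¹ ≠ l := fun e => (hu l e).elim h1 h2

theorem card_NR {ε : h.Dual} (hε : ε ≠ 1) (hεi : ε⁻¹ = ε)
    (hu : ∀ l : h.Dual, l⁻¹ = l → l = 1 ∨ l = ε) :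
    (Finset.univ.filter fun l : h.Dual => l⁻¹ ≠ l).card + 2 = h.k := by
  have e : (Finset.univ.filter fun l : h.Dual => ¬ l⁻¹ ≠ l) = {1, ε} := by
    ext l
    simp only [ne_eq, not_not, Finset.mem_filter, Finset.mem_univ, true_and, Finset.mem_insert,
      Finset.mem_singleton]
    refine ⟨hu l, ?_⟩
    rintro (rfl | rfl)
    exacts [h.dual_inv_one, hεi]
  have := Finset.card_filter_add_card_filter_not (s := (Finset.univ : Finset h.Dual))
    (p := fun l : h.Dual => l⁻¹ ≠ l)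
  rw [e, Finset.card_pair hε.symm, Finset.card_univ, ← Nat.card_eq_fintype_card, card_dual] at this
  exact this

theorem sum_dual_ne {ε : h.Dual} (hε : ε ≠ 1) (hεi : ε⁻¹ = ε)
    (hu : ∀ l : h.Dual, l⁻¹ = l → l = 1 ∨ l = ε) {x : h.K} (hx : x ≠ 1) :
    ∑ l ∈ Finset.univ.filter (fun l : h.Dual => l⁻¹ ≠ l), (l x : ℂ) = -1 - (ε x : ℂ) := by
  have e : (Finset.univ.filter fun l : h.Dual => ¬ l⁻¹ ≠ l) = {1, ε} := by
    ext l
    simp only [ne_eq, not_not, Finset.mem_filter, Finset.mem_univ, true_and, Finset.mem_insert,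
      Finset.mem_singleton]
    refine ⟨hu l, ?_⟩
    rintro (rfl | rfl)
    exacts [h.dual_inv_one, hεi]
  have := Finset.sum_filter_add_sum_filter_not (Finset.univ : Finset h.Dual)
    (fun l : h.Dual => l⁻¹ ≠ l) (fun l => (l x : ℂ))
  rw [e, Finset.sum_pair hε.symm, h.sum_dual_apply, if_neg hx, MonoidHom.one_apply, Units.val_one] at this
  linear_combination this

/-- Signs of real linear characters. -/
theorem sign_of_inv {l : h.Dual} (hl : l⁻¹ = l) (x : h.K) : (l x : ℂ) = 1 ∨ (l x : ℂ) = -1 := by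
  have h1 : (l x : ℂ) * (l x : ℂ) = 1 := by
    calc (l x : ℂ) * (l x : ℂ) = (l⁻¹ x : ℂ) * (l x : ℂ) := by rw [hl]
      _ = 1 := by rw [MonoidHom.inv_apply, Units.inv_mul]
  exact mul_self_eq_one_iff.1 h1

theorem sign_at_t (l : h.Dual) : (l ⟨h.t, h.htK⟩ : ℂ) = 1 ∨ (l ⟨h.t, h.htK⟩ : ℂ) = -1 := by
  refine mul_self_eq_one_iff.1 ?_
  rw [← Units.val_mul, ← map_mul]
  simp [Subtype.ext_iff, mul_self_of_two h.ht, show (⟨h.t, h.htK⟩ : h.K) * ⟨h.t, h.htK⟩ = 1 from
    Subtype.ext (mul_self_of_two h.ht)]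

/-- The product of the degree, the signed multiplicity and its sign. -/
theorem signed_ne {e : ℤ} (he : e * e = 1) (χ : IrrCharacter G) : e * deg χ ≠ 0 :=
  mul_ne_zero (by rintro rfl; norm_num at he) (deg_pos χ).ne'

/-- The lattice step. -/
theorem std_or_small (hk : 4 ≤ h.k) : Nonempty h.Std := by
  obtain ⟨ε, hε, hεi, hu⟩ := h.exists_eps
  let a : h.Dual → IrrCharacter G → ℤ := fun l χ => if χ = trivIrr G then 0 else h.w χ l
  have ha : ∀ l m : h.Dual, l ≠ 1 → m ≠ 1 → ∑ χ, a l χ * a m χ =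
      (if l = m then (1 : ℤ) else 0) + (if l = m⁻¹ then 1 else 0) + 1 := by
    intro l m hl hm
    have e := h.sum_w_mul hl hm
    rw [← Finset.add_sum_erase _ _ (Finset.mem_univ (trivIrr G)), h.w_triv hl, h.w_triv hm] at e
    rw [← Finset.add_sum_erase _ _ (Finset.mem_univ (trivIrr G)),
      Finset.sum_congr rfl fun χ hχ => show a l χ * a m χ = h.w χ l * h.w χ m by
        simp [a, (Finset.mem_erase.1 hχ).1]]
    simp only [a, if_true]
    linarith
  have hd : ∀ l : h.Dual, l ≠ 1 → ∑ χ, a l χ * deg χ = 1 := by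
    intro l hl
    have e := h.sum_w_deg l
    rw [← Finset.add_sum_erase _ _ (Finset.mem_univ (trivIrr G)), h.w_triv hl, deg_triv] at e
    rw [← Finset.add_sum_erase _ _ (Finset.mem_univ (trivIrr G)),
      Finset.sum_congr rfl fun χ hχ => show a l χ * deg χ = h.w χ l * deg χ by
        simp [a, (Finset.mem_erase.1 hχ).1]]
    simp only [a, if_true]
    linarith
  have hne : ∀ l : h.Dual, l⁻¹ ≠ l → l ≠ 1 ∧ l ≠ ε := fun l hl =>
    ⟨fun e => hl (by rw [e, dual_inv_one]), fun e => hl (by rw [e]; exact hεi)⟩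
  have haε : ∑ χ, a ε χ * a ε χ = ((3 : ℕ) : ℤ) := by
    rw [ha ε ε hε hε, if_pos rfl, if_pos hεi.symm]; norm_num
  obtain ⟨hεv, hεc⟩ := small_entries (a ε) le_rfl haε
  have hex : ∀ l : h.Dual, ∃ p : IrrCharacter G × IrrCharacter G, l⁻¹ ≠ l →
      a l p.1 * a l p.1 = 1 ∧ a l p.2 * a l p.2 = 1 ∧ a ε p.1 = a l p.1 ∧ a ε p.2 = 0 ∧
        ∀ χ, χ ≠ p.1 → χ ≠ p.2 → a l χ = 0 := by
    intro l
    by_cases hl : l⁻¹ = l
    · exact ⟨(trivIrr G, trivIrr G), fun e => absurd hl e⟩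
    have hl2 : ∑ χ, a l χ * a l χ = ((2 : ℕ) : ℤ) := by
      rw [ha l l (hne l hl).1 (hne l hl).1, if_pos rfl, if_neg (Ne.symm hl)]; norm_num
    obtain ⟨hlv, hlc⟩ := small_entries (a l) (by norm_num) hl2
    obtain ⟨A, B, hAB, hset⟩ := Finset.card_eq_two.1 hlc
    have hA : a l A ≠ 0 := by
      have : A ∈ Finset.univ.filter (fun i => a l i ≠ 0) := by rw [hset]; simp
      exact (Finset.mem_filter.1 this).2
    have hB : a l B ≠ 0 := by
      have : B ∈ Finset.univ.filter (fun i => a l i ≠ 0) := by rw [hset]; simp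
      exact (Finset.mem_filter.1 this).2
    have h0 : ∀ χ, χ ≠ A → χ ≠ B → a l χ = 0 := fun χ h1 h2 => by
      by_contra h3
      have : χ ∈ Finset.univ.filter (fun i => a l i ≠ 0) := by simpa using h3
      rw [hset] at this
      simp [h1, h2] at this
    have hdot := ha l ε (hne l hl).1 hε
    rw [if_neg (hne l hl).2, if_neg (by rw [hεi]; exact (hne l hl).2),
      ← Finset.sum_subset (Finset.subset_univ {A, B}) (fun χ _ hχ => by
        simp only [Finset.mem_insert, Finset.mem_singleton, not_or] at hχ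
        rw [h0 χ hχ.1 hχ.2, zero_mul]), Finset.sum_pair hAB] at hdot
    rcases hlv A with e | e | e <;> first | exact absurd e hA | skip
    all_goals rcases hlv B with e' | e' | e' <;> first | exact absurd e' hB | skip
    all_goals rcases hεv A with f | f | f <;> rcases hεv B with f' | f' | f' <;>
      simp only [e, e', f, f'] at hdot <;> norm_num at hdot <;>
      first
      | exact ⟨(A, B), fun _ => ⟨by simp [e], by simp [e'], f.trans e.symm, f', h0⟩⟩
      | exact ⟨(B, A), fun _ => ⟨by simp [e'], by simp [e], f'.trans e'.symm, f,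
          fun χ h1 h2 => h0 χ h2 h1⟩⟩
  choose p hp using hex
  let A : h.Dual → IrrCharacter G := fun l => (p l).1
  let B : h.Dual → IrrCharacter G := fun l => (p l).2
  have hA : ∀ l : h.Dual, l⁻¹ ≠ l → a l (A l) * a l (A l) = 1 := fun l hl => (hp l hl).1
  have hB : ∀ l : h.Dual, l⁻¹ ≠ l → a l (B l) * a l (B l) = 1 := fun l hl => (hp l hl).2.1
  have hεA : ∀ l : h.Dual, l⁻¹ ≠ l → a ε (A l) = a l (A l) := fun l hl => (hp l hl).2.2.1
  have hεB : ∀ l : h.Dual, l⁻¹ ≠ l → a ε (B l) = 0 := fun l hl => (hp l hl).2.2.2.1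
  have h0 : ∀ l : h.Dual, l⁻¹ ≠ l → ∀ χ, χ ≠ A l → χ ≠ B l → a l χ = 0 := fun l hl =>
    (hp l hl).2.2.2.2
  have hεA0 : ∀ l : h.Dual, l⁻¹ ≠ l → a ε (A l) ≠ 0 := fun l hl e => by
    have := hA l hl
    rw [← hεA l hl, e] at this
    norm_num at this
  have hAB : ∀ l m : h.Dual, l⁻¹ ≠ l → m⁻¹ ≠ m → A l ≠ B m := fun l m hl hm e =>
    hεA0 l hl (by rw [e]; exact hεB m hm)
  have htriv : ∀ l χ, a l χ ≠ 0 → χ ≠ trivIrr G := fun l χ e e' => e (by simp [a, e'])
  have hw : ∀ l χ, χ ≠ trivIrr G → a l χ = h.w χ l := fun l χ e => by simp [a, e]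
  have hainv : ∀ l χ, a l⁻¹ χ = a l χ := fun l χ => by simp [a, w_inv]
  have hAt : ∀ l : h.Dual, l⁻¹ ≠ l → A l ≠ trivIrr G := fun l hl =>
    htriv l _ fun e => by have := hA l hl; rw [e] at this; norm_num at this
  have hBt : ∀ l : h.Dual, l⁻¹ ≠ l → B l ≠ trivIrr G := fun l hl =>
    htriv l _ fun e => by have := hB l hl; rw [e] at this; norm_num at this
  have hpair : ∀ l : h.Dual, l⁻¹ ≠ l → A l⁻¹ = A l ∧ B l⁻¹ = B l := by
    intro l hl
    have hl' : l⁻¹⁻¹ ≠ l⁻¹ := by rw [dual_inv_inv]; exact Ne.symm hl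
    have e1 : a l (A l⁻¹) ≠ 0 := fun e => by
      have := hA _ hl'; rw [hainv, e] at this; norm_num at this
    have e2 : a l (B l⁻¹) ≠ 0 := fun e => by
      have := hB _ hl'; rw [hainv, e] at this; norm_num at this
    constructor
    · by_contra hn
      exact e1 (h0 l hl _ hn (hAB _ _ hl' hl))
    · by_contra hn
      exact e2 (h0 l hl _ (hAB _ _ hl hl').symm hn)
  have hxor : ∀ l m : h.Dual, l⁻¹ ≠ l → m⁻¹ ≠ m → m ≠ l → m ≠ l⁻¹ →
      (A l = A m ↔ ¬ B l = B m) ∧ (B l = B m → a m (B l) = a l (B l)) := by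
    intro l m hl hm h1 h2
    have hdot := ha l m (hne l hl).1 (hne m hm).1
    rw [if_neg h1.symm, if_neg (fun e => h2 (by rw [e, dual_inv_inv])),
      ← Finset.sum_subset (Finset.subset_univ {A l, B l}) (fun χ _ hχ => by
        simp only [Finset.mem_insert, Finset.mem_singleton, not_or] at hχ
        rw [h0 l hl χ hχ.1 hχ.2, zero_mul]), Finset.sum_pair (hAB l l hl hl)] at hdot
    have e1 : a l (A l) * a m (A l) = if A l = A m then 1 else 0 := by
      split_ifs with e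
      · rw [show a m (A l) = a l (A l) by
          conv_lhs => rw [e]
          rw [← hεA m hm, ← hεA l hl, e]]
        exact hA l hl
      · rw [h0 m hm _ e (hAB l m hl hm), mul_zero]
    rw [e1] at hdot
    by_cases eB : B l = B m
    · have hx : a l (B l) * a m (B l) = 1 ∨ a l (B l) * a m (B l) = -1 := by
        rw [← mul_self_eq_one_iff]
        calc _ = (a l (B l) * a l (B l)) * (a m (B l) * a m (B l)) := by ring
          _ = 1 := by rw [hB l hl, eB, hB m hm, one_mul]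
      split_ifs at hdot with e
      · exfalso; rcases hx with hx | hx <;> rw [hx] at hdot <;> norm_num at hdot
      · refine ⟨iff_of_false e (not_not.2 eB), fun _ => ?_⟩
        have hq : a l (B l) * a m (B l) = 1 := by linarith
        calc a m (B l) = (a l (B l) * a l (B l)) * a m (B l) := by rw [hB l hl, one_mul]
          _ = a l (B l) := by rw [mul_assoc, hq, mul_one]
    · rw [h0 m hm _ (hAB m l hm hl).symm eB, mul_zero, add_zero] at hdot
      split_ifs at hdot with e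
      · exact ⟨iff_of_true e eB, fun e' => absurd e' eB⟩
      · norm_num at hdot
  have hcard := h.card_NR hε hεi hu
  obtain ⟨l₀, hl₀⟩ : ∃ l : h.Dual, l⁻¹ ≠ l := by
    obtain ⟨l, hl⟩ := Finset.card_pos.1 (show 0 < (Finset.univ.filter fun l : h.Dual => l⁻¹ ≠ l).card by omega)
    exact ⟨l, (Finset.mem_filter.1 hl).2⟩
  by_cases hI : ∀ l : h.Dual, l⁻¹ ≠ l → A l = A l₀
  · have hS : A l₀ ∈ Finset.univ.filter (fun χ => a ε χ ≠ 0) := by simpa using hεA0 l₀ hl₀
    obtain ⟨P, R, hPR, hset⟩ := Finset.card_eq_two.1 (show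
      ((Finset.univ.filter fun χ => a ε χ ≠ 0).erase (A l₀)).card = 2 by
        rw [Finset.card_erase_of_mem hS, hεc])
    have hP : P ≠ A l₀ ∧ a ε P ≠ 0 := by
      have : P ∈ (Finset.univ.filter fun χ => a ε χ ≠ 0).erase (A l₀) := by rw [hset]; simp
      simpa using this
    have hR : R ≠ A l₀ ∧ a ε R ≠ 0 := by
      have : R ∈ (Finset.univ.filter fun χ => a ε χ ≠ 0).erase (A l₀) := by rw [hset]; simp
      simpa using this
    have hzero : ∀ χ, a ε χ ≠ 0 → χ ≠ A l₀ → ∀ l : h.Dual, l⁻¹ ≠ l → a l χ = 0 := by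
      intro χ h1 h2 l hl
      refine h0 l hl χ (hI l hl ▸ h2) fun e => h1 ?_
      rw [e]; exact hεB l hl
    have hwx : ∀ χ, a ε χ ≠ 0 → χ ≠ A l₀ → ∀ l : h.Dual,
        h.w χ l = if l = ε then a ε χ else 0 := by
      intro χ h1 h2 l
      have ht := htriv _ _ h1
      by_cases e1 : l = 1
      · subst e1; rw [if_neg hε.symm, w_one]
      by_cases e2 : l = ε
      · subst e2; rw [if_pos rfl, ← hw _ _ ht]
      rw [if_neg e2, ← hw _ _ ht]
      exact hzero χ h1 h2 l (h.two_of_ne hu e1 e2)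
    refine ⟨{
      ε := ε, ε_ne := hε, ε_inv := hεi, ε_uniq := hu, S := A l₀, P := P, R := R, B := B
      eS := a ε (A l₀), eP := a ε P, eR := a ε R, eB := fun l => a l (B l)
      eS_sq := by rcases hεv (A l₀) with e | e | e <;> first | exact absurd e (hεA0 l₀ hl₀) | simp [e]
      eP_sq := by rcases hεv P with e | e | e <;> first | exact absurd e hP.2 | simp [e]
      eR_sq := by rcases hεv R with e | e | e <;> first | exact absurd e hR.2 | simp [e]
      eB_sq := hB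
      S_triv := hAt l₀ hl₀
      P_triv := htriv _ _ hP.2
      R_triv := htriv _ _ hR.2
      SP := hP.1.symm, SR := hR.1.symm, PR := hPR
      B_triv := hBt
      BS := fun l hl => (hAB l₀ l hl₀ hl).symm
      BP := fun l hl e => hP.2 (e ▸ hεB l hl)
      BR := fun l hl e => hR.2 (e ▸ hεB l hl)
      B_eq := fun l m hl hm => ?_
      wS := fun l hl => ?_
      wP := hwx P hP.2 hP.1
      wR := hwx R hR.2 hR.1
      wB := fun l hl m => ?_
      others := fun χ h1 h2 h3 h4 h5 l => ?_ }⟩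
    · constructor
      · intro e
        by_contra hn
        simp only [not_or] at hn
        exact ((hxor l m hl hm hn.1 hn.2).1.1 (by rw [hI l hl, hI m hm])) e
      · rintro (rfl | rfl)
        · rfl
        · exact (hpair l hl).2.symm
    · rw [← hw _ _ (hAt l₀ hl₀)]
      by_cases e : l = ε
      · rw [e]
      · have hl' := h.two_of_ne hu hl e
        rw [← hI l hl', hεA l hl']
    · rw [← hw _ _ (hBt l hl)]
      split_ifs with e
      · rcases e with rfl | rfl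
        · rfl
        · exact hainv l _
      · by_cases e1 : m = 1
        · subst e1; rw [hw _ _ (hBt l hl), w_one]
        by_cases e2 : m = ε
        · subst e2; exact hεB l hl
        have hm := h.two_of_ne hu e1 e2
        simp only [not_or] at e
        exact h0 m hm _ (hAB m l hm hl).symm ((hxor l m hl hm e.1 e.2).1.1 (by rw [hI l hl, hI m hm]))
    · rw [← hw _ _ h1]
      by_cases e1 : l = 1
      · subst e1; rw [hw _ _ h1, w_one]
      by_cases e2 : l = ε
      · rw [e2]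
        by_contra hn
        have : χ ∈ (Finset.univ.filter fun χ => a ε χ ≠ 0).erase (A l₀) := by simp [hn, h2]
        rw [hset] at this
        simp [h3, h4] at this
      have hl := h.two_of_ne hu e1 e2
      exact h0 l hl χ (hI l hl ▸ h2) (h5 l hl)
  · exfalso
    push Not at hI
    obtain ⟨m₀, hm₀, hA0⟩ := hI
    have hne1 : m₀ ≠ l₀ := fun e => hA0 (by rw [e])
    have hne2 : m₀ ≠ l₀⁻¹ := fun e => hA0 (by rw [e, (hpair l₀ hl₀).1])
    have hB0 : B l₀ = B m₀ := by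
      by_contra e
      exact hA0 ((hxor l₀ m₀ hl₀ hm₀ hne1 hne2).1.2 e).symm
    -- every further pair has a new first entry and the common second one
    have hthird : ∀ l : h.Dual, l⁻¹ ≠ l → l ≠ l₀ → l ≠ l₀⁻¹ → l ≠ m₀ → l ≠ m₀⁻¹ →
        A l ≠ A l₀ ∧ A l ≠ A m₀ ∧ B l = B l₀ := by
      intro l hl h1 h2 h3 h4
      have x1 := (hxor l₀ l hl₀ hl h1 h2).1
      have x2 := (hxor m₀ l hm₀ hl h3 h4).1
      rw [← hB0] at x2
      have e : A l ≠ A l₀ := fun e => hA0 ((x2.2 (x1.1 e.symm)).trans e)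
      have hBl : B l₀ = B l := by by_contra e'; exact e (x1.2 e').symm
      exact ⟨e, fun e' => x2.1 e'.symm hBl, hBl.symm⟩
    have hTmem : ∀ l : h.Dual, l⁻¹ ≠ l → A l ∈ Finset.univ.filter (fun χ => a ε χ ≠ 0) :=
      fun l hl => by simpa using hεA0 l hl
    obtain ⟨C, hC⟩ := Finset.card_eq_one.1 (show
      (((Finset.univ.filter fun χ => a ε χ ≠ 0).erase (A l₀)).erase (A m₀)).card = 1 by
        rw [Finset.card_erase_of_mem, Finset.card_erase_of_mem (hTmem l₀ hl₀), hεc]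
        exact Finset.mem_erase.2 ⟨hA0, hTmem m₀ hm₀⟩)
    have hC' : C ≠ A l₀ ∧ C ≠ A m₀ ∧ a ε C ≠ 0 := by
      have : C ∈ ((Finset.univ.filter fun χ => a ε χ ≠ 0).erase (A l₀)).erase (A m₀) := by
        rw [hC]; simp
      simp only [Finset.mem_erase, Finset.mem_filter, Finset.mem_univ, true_and] at this
      exact ⟨this.2.1, this.1, this.2.2⟩
    have hT : ∀ χ, a ε χ ≠ 0 → χ = A l₀ ∨ χ = A m₀ ∨ χ = C := by
      intro χ hχ
      by_contra hn
      simp only [not_or] at hn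
      have : χ ∈ ((Finset.univ.filter fun χ => a ε χ ≠ 0).erase (A l₀)).erase (A m₀) := by
        simp [hn.1, hn.2.1, hχ]
      rw [hC] at this
      exact hn.2.2 (Finset.mem_singleton.1 this)
    have hdε : a ε (A l₀) * deg (A l₀) + a ε (A m₀) * deg (A m₀) + a ε C * deg C = 1 := by
      have e := hd ε hε
      rw [← Finset.sum_subset (Finset.subset_univ {A l₀, A m₀, C}) (fun χ _ hχ => by
        simp only [Finset.mem_insert, Finset.mem_singleton] at hχ
        by_contra hn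
        exact hχ (hT χ fun e => hn (by rw [e, zero_mul]))), Finset.sum_insert, Finset.sum_pair hC'.2.1.symm] at e
      · linarith
      · simp [hA0.symm, hC'.1.symm]
    have hdl : ∀ l : h.Dual, l⁻¹ ≠ l →
        a ε (A l) * deg (A l) + a l (B l) * deg (B l) = 1 := by
      intro l hl
      have e := hd l (hne l hl).1
      rwa [← Finset.sum_subset (Finset.subset_univ {A l, B l}) (fun χ _ hχ => by
        simp only [Finset.mem_insert, Finset.mem_singleton, not_or] at hχ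
        rw [h0 l hl χ hχ.1 hχ.2, zero_mul]), Finset.sum_pair (hAB l l hl hl), ← hεA l hl] at e
    have hd1 := hdl l₀ hl₀
    have hd2 := hdl m₀ hm₀
    rw [← hB0, (hxor l₀ m₀ hl₀ hm₀ hne1 hne2).2 hB0] at hd2
    by_cases hthree : ∃ l : h.Dual, l⁻¹ ≠ l ∧ l ≠ l₀ ∧ l ≠ l₀⁻¹ ∧ l ≠ m₀ ∧ l ≠ m₀⁻¹
    · obtain ⟨l, hl, h1, h2, h3, h4⟩ := hthree
      obtain ⟨x1, x2, x3⟩ := hthird l hl h1 h2 h3 h4
      have hd3 := hdl l hl
      have hAC : A l = C := ((hT _ (hεA0 l hl)).resolve_left x1).resolve_left x2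
      have hsame : a l (B l₀) = a l₀ (B l₀) := (hxor l₀ l hl₀ hl h1 h2).2 x3.symm
      rw [hAC, x3, hsame] at hd3
      omega
    push Not at hthree
    -- exactly two pairs, so `k = 6`
    have hNR : (Finset.univ.filter fun l : h.Dual => l⁻¹ ≠ l) = {l₀, l₀⁻¹, m₀, m₀⁻¹} := by
      ext l
      simp only [ne_eq, Finset.mem_filter, Finset.mem_univ, true_and, Finset.mem_insert,
        Finset.mem_singleton]
      constructor
      · intro hl
        by_contra hn
        simp only [not_or] at hn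
        exact hn.2.2.2 (hthree l hl hn.1 hn.2.1 hn.2.2.1)
      · rintro (rfl | rfl | rfl | rfl)
        · exact hl₀
        · rw [dual_inv_inv]; exact Ne.symm hl₀
        · exact hm₀
        · rw [dual_inv_inv]; exact Ne.symm hm₀
    have h12 : m₀⁻¹ ≠ l₀ := fun e => hne2 (by rw [← e, dual_inv_inv])
    have h13 : m₀⁻¹ ≠ l₀⁻¹ := fun e => hne1 (inv_injective e)
    have hk6 : h.k = 6 := by
      rw [hNR, Finset.card_insert_of_notMem, Finset.card_insert_of_notMem, Finset.card_pair hm₀.symm] at hcard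
      · omega
      · simp [hne2.symm, h13.symm]
      · simp [(Ne.symm hl₀ : l₀ ≠ l₀⁻¹), hne1.symm, h12.symm]
    -- values on `K`
    have hdual : ∀ (F : h.Dual → ℂ), ∑ l, F l = F 1 + F ε +
        (F l₀ + (F l₀⁻¹ + (F m₀ + F m₀⁻¹))) := by
      intro F
      rw [← Finset.sum_filter_add_sum_filter_not (Finset.univ : Finset h.Dual) (fun l => l⁻¹ ≠ l) F, hNR]
      rw [show (Finset.univ.filter fun l : h.Dual => ¬ l⁻¹ ≠ l) = {1, ε} by
        ext l
        simp only [ne_eq, not_not, Finset.mem_filter, Finset.mem_univ, true_and, Finset.mem_insert,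
          Finset.mem_singleton]
        refine ⟨hu l, ?_⟩
        rintro (rfl | rfl)
        exacts [h.dual_inv_one, hεi]]
      rw [Finset.sum_pair hε.symm, Finset.sum_insert, Finset.sum_insert, Finset.sum_pair hm₀.symm]
      · ring
      · simp [hne2.symm, h13.symm]
      · simp [(Ne.symm hl₀ : l₀ ≠ l₀⁻¹), hne1.symm, h12.symm]
    have hval : ∀ χ : IrrCharacter G, χ ≠ trivIrr G → ∀ x : h.K, x ≠ 1 → (χ : G → ℂ) x =
        (a ε χ : ℂ) * (ε x : ℂ) + (a l₀ χ : ℂ) * ((l₀ x : ℂ) + (l₀⁻¹ x : ℂ)) +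
          (a m₀ χ : ℂ) * ((m₀ x : ℂ) + (m₀⁻¹ x : ℂ)) := by
      intro χ hχ x hx
      rw [h.value_K χ hx, hdual]
      simp only [v_eq_w, w_one, w_inv, hw _ _ hχ]
      push_cast; ring
    set eA := a ε (A l₀) with heA
    set eA' := a ε (A m₀) with heA'
    set eC := a ε C with heC
    set eb := a l₀ (B l₀) with heb
    have zA : a m₀ (A l₀) = 0 := h0 m₀ hm₀ _ hA0.symm (hAB l₀ m₀ hl₀ hm₀)
    have zA' : a l₀ (A m₀) = 0 := h0 l₀ hl₀ _ hA0 (hAB m₀ l₀ hm₀ hl₀)
    have hCB : C ≠ B l₀ := fun e => hC'.2.2 (by rw [heC, e]; exact hεB l₀ hl₀)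
    have zC : a l₀ C = 0 := h0 l₀ hl₀ _ hC'.1 hCB
    have zC' : a m₀ C = 0 := h0 m₀ hm₀ _ hC'.2.1 (hB0 ▸ hCB)
    have hbm : a m₀ (B l₀) = eb := (hxor l₀ m₀ hl₀ hm₀ hne1 hne2).2 hB0
    have vA : ∀ x : h.K, x ≠ 1 → (A l₀ : G → ℂ) x = (eA : ℂ) * ((ε x : ℂ) + ((l₀ x : ℂ) + (l₀⁻¹ x : ℂ))) := by
      intro x hx
      rw [hval _ (hAt l₀ hl₀) x hx, zA, ← hεA l₀ hl₀]; push_cast; ring
    have vA' : ∀ x : h.K, x ≠ 1 → (A m₀ : G → ℂ) x = (eA' : ℂ) * ((ε x : ℂ) + ((m₀ x : ℂ) + (m₀⁻¹ x : ℂ))) := by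
      intro x hx
      rw [hval _ (hAt m₀ hm₀) x hx, zA', ← hεA m₀ hm₀]; push_cast; ring
    have vC : ∀ x : h.K, x ≠ 1 → (C : G → ℂ) x = (eC : ℂ) * (ε x : ℂ) := by
      intro x hx
      rw [hval _ (htriv _ _ hC'.2.2) x hx, zC, zC']; push_cast; ring
    have vB : ∀ x : h.K, x ≠ 1 → (B l₀ : G → ℂ) x = (eb : ℂ) * (-1 - (ε x : ℂ)) := by
      intro x hx
      have hs := h.sum_dual_apply x
      rw [if_neg hx, hdual, MonoidHom.one_apply, Units.val_one] at hs
      rw [hval _ (hBt l₀ hl₀) x hx, hεB l₀ hl₀, hbm]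
      push_cast
      linear_combination (eb : ℂ) * hs
    have vo : ∀ χ : IrrCharacter G, χ ≠ trivIrr G → χ ≠ A l₀ → χ ≠ A m₀ → χ ≠ C → χ ≠ B l₀ →
        ∀ x : h.K, x ≠ 1 → (χ : G → ℂ) x = 0 := by
      intro χ h1 h2 h3 h4 h5 x hx
      have z1 : a ε χ = 0 := by by_contra hn; rcases hT χ hn with e | e | e <;> contradiction
      rw [hval χ h1 x hx, z1, h0 l₀ hl₀ χ h2 h5, h0 m₀ hm₀ χ h3 (hB0 ▸ h5)]
      simp
    have hsum : ∀ (F : IrrCharacter G → ℂ), (∀ χ, χ ≠ trivIrr G → χ ≠ A l₀ → χ ≠ A m₀ → χ ≠ C →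
        χ ≠ B l₀ → F χ = 0) →
        ∑ χ, F χ = F (trivIrr G) + (F (A l₀) + (F (A m₀) + (F C + F (B l₀)))) := by
      intro F hF
      rw [← Finset.sum_subset (Finset.subset_univ {trivIrr G, A l₀, A m₀, C, B l₀}) (fun χ _ hχ => by
        simp only [Finset.mem_insert, Finset.mem_singleton, not_or] at hχ
        exact hF χ hχ.1 hχ.2.1 hχ.2.2.1 hχ.2.2.2.1 hχ.2.2.2.2),
        Finset.sum_insert, Finset.sum_insert, Finset.sum_insert, Finset.sum_pair hCB]
      · simp [hC'.2.1.symm, hAB m₀ l₀ hm₀ hl₀]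
      · simp [hA0.symm, hC'.1.symm, hAB l₀ l₀ hl₀ hl₀]
      · simp [(hAt l₀ hl₀).symm, (hAt m₀ hm₀).symm, (htriv _ _ hC'.2.2).symm, (hBt l₀ hl₀).symm]
    set T : h.K := ⟨h.t, h.htK⟩ with hTdef
    have hT1 : T ≠ 1 := fun e => ne_one_of_two h.ht (congrArg Subtype.val e)
    -- the data as signed integers
    set X := eA * deg (A l₀) with hX
    set Z := eC * deg C with hZ
    set F := eb * deg (B l₀) with hF
    have sqA : eA * eA = 1 := by rw [heA, hεA l₀ hl₀]; exact hA l₀ hl₀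
    have sqA' : eA' * eA' = 1 := by rw [heA', hεA m₀ hm₀]; exact hA m₀ hm₀
    have sqC : eC * eC = 1 := by
      rcases hεv C with e | e | e <;> first | exact absurd e hC'.2.2 | simp [heC, e]
    have sqb : eb * eb = 1 := hB l₀ hl₀
    have hXX' : eA' * deg (A m₀) = X := by linarith
    have hZX : Z = 1 - 2 * X := by linarith
    have hFX : F = 1 - X := by linarith
    have hX0 : X ≠ 0 := signed_ne sqA _
    have hF0 : F ≠ 0 := signed_ne sqb _
    have hZ0 : Z ≠ 0 := signed_ne sqC _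
    have sv : ∀ (e : ℤ) (χ : IrrCharacter G), e * e = 1 → (χ : G → ℂ) 1 = (e : ℂ) * ((e * deg χ : ℤ) : ℂ) := by
      intro e χ he
      rw [apply_one_deg, ← Int.cast_mul, ← mul_assoc, he, one_mul]
    have cA : ((eA : ℂ)) * eA = 1 := by exact_mod_cast sqA
    have cA' : ((eA' : ℂ)) * eA' = 1 := by exact_mod_cast sqA'
    have cC : ((eC : ℂ)) * eC = 1 := by exact_mod_cast sqC
    have cb : ((eb : ℂ)) * eb = 1 := by exact_mod_cast sqb
    -- signs at `t`
    have hl2 : ∀ l : h.Dual, (l⁻¹ T : ℂ) = (l T : ℂ) := by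
      intro l
      rw [MonoidHom.inv_apply, ← map_inv]
      congr 2
      exact Subtype.ext (by rw [hTdef, Subgroup.coe_inv, inv_of_two h.ht])
    have hnorm := sum_irr_mul_conj h.t h.t
    rw [if_pos (IsConj.refl _), h.card_H, hk6] at hnorm
    rw [hsum _ (fun χ h1 h2 h3 h4 h5 => by
      rw [show (χ : G → ℂ) h.t = 0 from vo χ h1 h2 h3 h4 h5 T hT1, zero_mul])] at hnorm
    rw [show (h.t : G) = (T : G) from rfl, vA T hT1, vA' T hT1, vC T hT1, vB T hT1, hl2, hl2,
      trivIrr_apply] at hnorm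
    have hεT : (ε T : ℂ) = -1 ∧ (((l₀ T : ℂ) = 1 ∧ (m₀ T : ℂ) = -1) ∨
        ((l₀ T : ℂ) = -1 ∧ (m₀ T : ℂ) = 1)) := by
      simp only [map_one, map_mul, map_intCast, map_add, map_sub, map_neg] at hnorm
      rcases h.sign_at_t ε with e | e <;> rcases h.sign_at_t l₀ with e1 | e1 <;>
        rcases h.sign_at_t m₀ with e2 | e2 <;>
        rw [← hTdef] at e e1 e2 <;> rw [e, e1, e2] at hnorm <;>
        simp only [map_one, map_neg] at hnorm <;>
        first
        | exact ⟨e, Or.inl ⟨e1, e2⟩⟩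
        | exact ⟨e, Or.inr ⟨e1, e2⟩⟩
        | (exfalso; ring_nf at hnorm; simp only [pow_two, cA, cA', cC, cb] at hnorm; norm_num at hnorm)
    -- an element of order three
    haveI : Fact (Nat.Prime 3) := ⟨Nat.prime_three⟩
    obtain ⟨x, hx⟩ := exists_prime_orderOf_dvd_card' (G := h.K) 3 (by
      rw [show Nat.card h.K = h.k from rfl, hk6]; norm_num)
    set y : h.K := x * x with hy
    have hy1 : y ≠ 1 := fun e => by
      have : orderOf x ∣ 2 := orderOf_dvd_of_pow_eq_one (by rw [pow_two]; exact e)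
      rw [hx] at this; norm_num at this
    have hεy : (ε y : ℂ) = 1 := by
      rw [hy, map_mul, Units.val_mul]
      rcases h.sign_of_inv hεi x with e | e <;> rw [e] <;> norm_num
    have hyT : ¬ IsConj (y : G) h.t := fun e => by
      have h2 := h.isConj_iff_two.1 e.symm
      rw [Subgroup.orderOf_coe] at h2
      have hy3 : orderOf y ∣ 3 := orderOf_dvd_of_pow_eq_one (by
        rw [hy, ← pow_two, ← pow_mul, mul_comm, pow_mul,
          show x ^ 3 = 1 from hx ▸ pow_orderOf_eq_one x, one_pow])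
      rw [h2] at hy3; norm_num at hy3
    set a1 : ℂ := (ε y : ℂ) + ((l₀ y : ℂ) + (l₀⁻¹ y : ℂ)) with ha1
    set a2 : ℂ := (ε y : ℂ) + ((m₀ y : ℂ) + (m₀⁻¹ y : ℂ)) with ha2
    have horth1 := sum_irr_mul_conj (y : G) (1 : G)
    rw [if_neg (fun e => hy1 (Subtype.ext (isConj_one_left.1 e))),
      hsum _ (fun χ h1 h2 h3 h4 h5 => by rw [vo χ h1 h2 h3 h4 h5 y hy1, zero_mul])] at horth1
    rw [trivIrr_apply, trivIrr_apply, vA y hy1, vA' y hy1, vC y hy1, vB y hy1, ← ha1, ← ha2, hεy,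
      sv eA (A l₀) sqA, sv eA' (A m₀) sqA', sv eC C sqC, sv eb (B l₀) sqb, hXX', ← hX, ← hZ, ← hF] at horth1
    simp only [map_one, map_mul, map_intCast] at horth1
    have horth2 := sum_irr_mul_conj (y : G) h.t
    rw [if_neg hyT,
      hsum _ (fun χ h1 h2 h3 h4 h5 => by rw [vo χ h1 h2 h3 h4 h5 y hy1, zero_mul])] at horth2
    rw [trivIrr_apply, trivIrr_apply, vA y hy1, vA' y hy1, vC y hy1, vB y hy1, ← ha1, ← ha2, hεy,
      show (h.t : G) = (T : G) from rfl, vA T hT1, vA' T hT1, vC T hT1, vB T hT1, hl2, hl2, hεT.1] at horth2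
    simp only [map_one, map_mul, map_intCast, map_add, map_sub, map_neg] at horth2
    have hXc : ((X : ℤ) : ℂ) ≠ 0 := Int.cast_ne_zero.2 hX0
    have hZc : ((Z : ℤ) : ℂ) ≠ 0 := Int.cast_ne_zero.2 hZ0
    have hFc : ((F : ℤ) : ℂ) ≠ 0 := Int.cast_ne_zero.2 hF0
    have hsumA : a1 + a2 = 0 := by
      have : (X : ℂ) * (a1 + a2) = 0 := by
        rw [hZX, hFX] at horth1
        push_cast at horth1
        linear_combination horth1 - (X : ℂ) * a1 * cA - (X : ℂ) * a2 * cA' -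
          (1 - 2 * (X : ℂ)) * cC + 2 * (1 - (X : ℂ)) * cb
      exact (mul_eq_zero.1 this).resolve_left hXc
    have hlinA : ((-1 : ℂ) + ((l₀ T : ℂ) + (l₀ T : ℂ))) * a1 + ((-1 : ℂ) + ((m₀ T : ℂ) + (m₀ T : ℂ))) * a2 = 0 := by
      rcases hεT.2 with ⟨e1, e2⟩ | ⟨e1, e2⟩ <;> rw [e1, e2] at horth2 ⊢ <;>
        simp only [map_one, map_neg] at horth2
      · linear_combination horth2 - a1 * cA + 3 * a2 * cA' + cC
      · linear_combination horth2 + 3 * a1 * cA - a2 * cA' + cC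
    have ha12 : a1 = 0 ∧ a2 = 0 := by
      rcases hεT.2 with ⟨e1, e2⟩ | ⟨e1, e2⟩ <;> rw [e1, e2] at hlinA
      · constructor
        · linear_combination (3 * hsumA + hlinA) / 4
        · linear_combination (hsumA - hlinA) / 4
      · constructor
        · linear_combination (hsumA - hlinA) / 4
        · linear_combination (3 * hsumA + hlinA) / 4
    have pK : ∀ c : h.K, c ≠ 1 →
        (h.k : ℂ) * (4 * (h.k : ℂ) ^ 2) = (Nat.card G : ℂ) * h.PS c := by
      intro c hc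
      have e := h.pairs_eq (c : G)
      rwa [h.card_pairs_K c.2 fun e => hc (Subtype.ext e)] at e
    have hPS : h.PS (T : G) = h.PS (y : G) :=
      mul_left_cancel₀ (natCard_ne_zero_complex (G := G)) ((pK T hT1).symm.trans (pK y hy1))
    unfold PS at hPS
    rw [hsum _ (fun χ h1 h2 h3 h4 h5 => by
        rw [show (χ : G → ℂ) h.t = 0 from vo χ h1 h2 h3 h4 h5 T hT1]; simp),
      hsum _ (fun χ h1 h2 h3 h4 h5 => by
        rw [show (χ : G → ℂ) h.t = 0 from vo χ h1 h2 h3 h4 h5 T hT1]; simp)] at hPS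
    rw [show (h.t : G) = (T : G) from rfl, vA T hT1, vA' T hT1, vC T hT1, vB T hT1, hl2, hl2,
      vA y hy1, vA' y hy1, vC y hy1, vB y hy1, ← ha1, ← ha2, hεy, hεT.1, ha12.1, ha12.2, trivIrr_apply,
      trivIrr_apply, trivIrr_apply, sv eA (A l₀) sqA, sv eA' (A m₀) sqA', sv eC C sqC,
      sv eb (B l₀) sqb, hXX', ← hX, ← hZ, ← hF] at hPS
    simp only [map_one, map_zero, map_mul, map_intCast, map_add, map_sub, map_neg] at hPS
    have hA1 : (eA : ℂ) ≠ 0 := left_ne_zero_of_mul_eq_one cA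
    have hA2 : (eA' : ℂ) ≠ 0 := left_ne_zero_of_mul_eq_one cA'
    have hC1 : (eC : ℂ) ≠ 0 := left_ne_zero_of_mul_eq_one cC
    have key : (-26 : ℂ) * (Z : ℂ) = 2 * (X : ℂ) := by
      rcases hεT.2 with ⟨e1, e2⟩ | ⟨e1, e2⟩ <;> rw [e1, e2] at hPS <;>
        simp only [map_one, map_neg] at hPS <;>
        field_simp at hPS <;> simp only [pow_succ, pow_zero, one_mul, cA, cA', cC] at hPS <;>
        (refine mul_right_cancel₀ hFc ?_; linear_combination hPS)
    have : (-26) * Z = 2 * X := by exact_mod_cast key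
    omega

end Conf

end Cfsg.Agent.Lib.Characters.BSW
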