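import Cfsg.Agent.Lib.Characters.BSW.Plus
import Cfsg.Agent.S3277

/-!
# Abstract Brauer–Suzuki–Wall configuration: the case `k = 2`
-/

set_option autoImplicit false
set_option linter.style.haveILetI false
set_option linter.unusedSectionVars false

namespace Cfsg.Agent.Lib.Characters.BSW

open Cfsg Cfsg.Agent.Lib.Characters

universe u

theorem alt5_five : ∃ x : alternatingGroup (Fin 5), x ^ 5 = 1 ∧ x ≠ 1 := by decide +kernel

set_option synthInstance.maxSize 4096 in
set_option synthInstance.maxHeartbeats 400000 in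
theorem alt5_facts : ∀ x : alternatingGroup (Fin 5), x ^ 5 = 1 → x ≠ 1 →
    (∀ y : alternatingGroup (Fin 5), y * x = x * y → y ^ 5 = 1) ∧
    (∀ y : alternatingGroup (Fin 5), y * x * y⁻¹ ≠ x ^ 2 ∧ y * x * y⁻¹ ≠ x ^ 3) ∧
    ∃ u : alternatingGroup (Fin 5), u ≠ 1 ∧ u * u = 1 ∧ u * x * u = x⁻¹ := by decide +kernel

variable {G : Type u} [Group G]

theorem inv_pow_four {x : G} (h : x ^ 5 = 1) : x⁻¹ = x ^ 4 :=
  (eq_inv_of_mul_eq_one_left (by rw [← pow_succ]; exact h)).symm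

namespace Conf

variable [Finite G] (h : Conf G) (hk : h.k = 2)

include hk

theorem sq_of_H {c : G} (hc : c ∈ Subgroup.centralizer ({h.t} : Set G)) : c * c = 1 := by
  by_cases hK : c ∈ h.K
  · have : orderOf c ∣ 2 := hk ▸ h.K.orderOf_dvd_natCard hK
    rw [← pow_two]
    exact orderOf_dvd_iff_pow_eq_one.1 this
  · obtain ⟨a, ha, rfl⟩ := h.exists_as hc hK
    exact mul_self_of_two (h.as_two ha)

theorem no_complement : ¬ HasNormalPComplement 2 G := by
  rintro ⟨P, N, hN, hc⟩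
  haveI : Fact (Nat.Prime 2) := ⟨Nat.prime_two⟩
  have h2G : 2 ∣ Nat.card G := h.ht ▸ orderOf_dvd_natCard h.t
  have hNodd : ¬ 2 ∣ Nat.card N := by
    intro e
    have e1 := hc.card_mul
    rw [P.card_eq_multiplicity] at e1
    have e2 := mul_dvd_mul_right e (2 ^ (Nat.card G).factorization 2)
    rw [e1, ← pow_succ'] at e2
    exact Nat.pow_succ_factorization_not_dvd Nat.card_pos.ne' Nat.prime_two e2
  have hPne : (P : Subgroup G) ≠ ⊥ := P.ne_bot_of_dvd_card h2G
  haveI : Nontrivial (P : Subgroup G) := (Subgroup.nontrivial_iff_ne_bot _).2 hPne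
  haveI := P.2.center_nontrivial
  have h2Z : 2 ∣ Nat.card (Subgroup.center (P : Subgroup G)) := by
    obtain ⟨m, hm, hZ⟩ := (IsPGroup.nontrivial_iff_card (P.2.to_subgroup _)).1 (inferInstance :
      Nontrivial (Subgroup.center (P : Subgroup G)))
    rw [hZ]; exact dvd_pow_self 2 hm.ne'
  obtain ⟨y, hy⟩ := exists_prime_orderOf_dvd_card' (G := Subgroup.center (P : Subgroup G)) 2 h2Z
  have hy2 : orderOf ((y : (P : Subgroup G)) : G) = 2 := by
    rw [Subgroup.orderOf_coe, Subgroup.orderOf_coe]; exact hy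
  set y₀ : G := ((y : (P : Subgroup G)) : G) with hy0
  have key : ∀ g : G, g * y₀ * g⁻¹ * y₀⁻¹ ∈ N := by
    intro g
    obtain ⟨a, ha, b, hb, rfl⟩ := Subgroup.mem_sup_of_normal_left.1 (show g ∈ N ⊔ (P : Subgroup G) by
      rw [hc.sup_eq_top]; trivial)
    have hby : b * y₀ = y₀ * b :=
      congrArg Subtype.val (Subgroup.mem_center_iff.1 y.2 ⟨b, hb⟩)
    have e : a * b * y₀ * (a * b)⁻¹ * y₀⁻¹ = a * (y₀ * a⁻¹ * y₀⁻¹) := by
      calc _ = a * (b * y₀) * b⁻¹ * a⁻¹ * y₀⁻¹ := by group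
        _ = _ := by rw [hby]; group
    rw [e]
    exact N.mul_mem ha (hN.conj_mem _ (N.inv_mem ha) y₀)
  obtain ⟨c1, e1⟩ := isConj_iff.1 (h.hconj _ _ hy2 h.ht)
  obtain ⟨c2, e2⟩ := isConj_iff.1 (h.hconj _ _ hy2 h.hs)
  have hts : h.t * h.s⁻¹ ∈ N := by
    have := N.mul_mem (key c1) (N.inv_mem (key c2))
    rw [e1, e2] at this
    rwa [show h.t * y₀⁻¹ * (h.s * y₀⁻¹)⁻¹ = h.t * h.s⁻¹ by group] at this
  rw [inv_of_two h.hs] at hts
  exact hNodd (h.as_two h.htK ▸ N.orderOf_dvd_natCard hts)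

theorem no_central {E : Subgroup G} (hE : E.Normal) : Nat.card E ≠ 2 := by
  intro e
  haveI : Fact (Nat.Prime 2) := ⟨Nat.prime_two⟩
  obtain ⟨y, hy⟩ := exists_prime_orderOf_dvd_card' (G := E) 2 (by rw [e])
  rw [← Subgroup.orderOf_coe] at hy
  have hall : ∀ a ∈ E, a = 1 ∨ a = (y : G) := by
    have hEy : Subgroup.zpowers (y : G) = E := by
      refine Subgroup.eq_of_le_of_card_ge ?_ (by rw [e, Nat.card_zpowers, hy])
      rw [Subgroup.zpowers_le]; exact y.2
    intro a ha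
    rw [← hEy] at ha
    obtain ⟨i, rfl⟩ := Subgroup.mem_zpowers_iff.1 ha
    rw [← zpow_mod_orderOf, hy]
    rcases Int.emod_two_eq_zero_or_one i with e | e <;> simp [e]
  have hfix : ∀ c : G, c * (y : G) * c⁻¹ = y := fun c =>
    (hall _ (hE.conj_mem _ y.2 c)).resolve_left fun e => ne_one_of_two hy (conj_eq_one_iff.1 e)
  obtain ⟨c1, e1⟩ := isConj_iff.1 (h.hconj _ _ hy h.ht)
  obtain ⟨c2, e2⟩ := isConj_iff.1 (h.hconj _ _ hy h.hs)
  rw [hfix] at e1 e2
  exact h.hsK (by rw [← e2, e1]; exact h.htK)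

theorem concl_four {E : Subgroup G} (hE : E.Normal) (hab : IsMulCommutative E) (he : ∀ a ∈ E, a ^ 2 = 1)
    (hE4 : Nat.card E = 4) : h.Concl := by
  classical
  obtain ⟨a, ha, ha1⟩ := E.bot_or_exists_ne_one.resolve_left (fun e => by
    rw [e, Subgroup.card_bot] at hE4; norm_num at hE4)
  have ha2 : orderOf a = 2 := orderOf_two (by rw [← pow_two]; exact he a ha) ha1
  obtain ⟨c, hc⟩ := isConj_iff.1 (h.hconj _ _ ha2 h.ht)
  have htE : h.t ∈ E := hc ▸ hE.conj_mem _ ha c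
  have hEH : E = Subgroup.centralizer ({h.t} : Set G) := by
    refine Subgroup.eq_of_le_of_card_ge (fun x hx => Subgroup.mem_centralizer_singleton_iff.2 ?_) (by
      rw [hE4, h.card_H, hk])
    exact congrArg Subtype.val (hab.is_comm.comm (⟨x, hx⟩ : E) ⟨h.t, htE⟩)
  have hinvE : ∀ v : G, orderOf v = 2 → v ∈ E := fun v hv => by
    obtain ⟨e, he'⟩ := isConj_iff.1 (h.hconj _ _ h.ht hv)
    exact he' ▸ hE.conj_mem _ htE e
  have hg : Nat.card G = 12 := by
    have e := h.card_class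
    rw [hk, Nat.card_congr (show {x : G // IsConj h.t x} ≃ {x : E // x ≠ 1} from
      { toFun := fun x => ⟨⟨x.1, hinvE _ (h.isConj_iff_two.1 x.2)⟩, fun e =>
          ne_one_of_two (h.isConj_iff_two.1 x.2) (congrArg Subtype.val e)⟩
        invFun := fun x => ⟨(x.1 : G), h.isConj_iff_two.2 (orderOf_two (by
          rw [← pow_two]; exact he _ x.1.2) fun e => x.2 (Subtype.ext e))⟩
        left_inv := fun x => rfl
        right_inv := fun x => rfl })] at e
    haveI := Fintype.ofFinite E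
    rw [Nat.card_eq_fintype_card, Fintype.card_subtype_compl, Fintype.card_subtype_eq,
      ← Nat.card_eq_fintype_card, hE4] at e
    omega
  haveI : Fact (Nat.Prime 3) := ⟨Nat.prime_three⟩
  obtain ⟨x, hx⟩ := exists_prime_orderOf_dvd_card' (G := G) 3 (by rw [hg]; norm_num)
  set Q := Subgroup.zpowers x with hQ
  have hQc : Nat.card Q = 3 := by rw [hQ, Nat.card_zpowers, hx]
  have hQ1 : ∀ y ∈ Q, y ≠ 1 → orderOf y = 3 := by
    intro y hy hy1
    have hd : orderOf y ∣ 3 := hQc ▸ Q.orderOf_dvd_natCard hy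
    exact ((Nat.dvd_prime Nat.prime_three).1 hd).resolve_left fun e => hy1 (orderOf_eq_one_iff.1 e)
  have hnocomm : ∀ y v : G, orderOf y = 3 → orderOf v = 2 → ¬ Commute y v := by
    intro y v hy hv hc'
    have hyH : y ∈ Subgroup.centralizer ({v} : Set G) := Subgroup.mem_centralizer_singleton_iff.2 hc'.eq
    have hc2 : Nat.card (Subgroup.centralizer ({v} : Set G)) = 4 := by
      have e1 := card_conj_mul_card_centralizer v
      have e2 := h.card_class
      have : Nat.card {x : G // IsConj v x} = Nat.card {x : G // IsConj h.t x} :=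
        Nat.card_congr (Equiv.subtypeEquivRight fun w =>
          ⟨(h.hconj _ _ h.ht hv).trans, (h.hconj _ _ hv h.ht).trans⟩)
      rw [this, hg] at e1
      rw [hg, hk] at e2
      haveI : Nonempty {x : G // IsConj h.t x} := ⟨⟨h.t, IsConj.refl _⟩⟩
      exact Nat.eq_of_mul_eq_mul_left Nat.card_pos (e1.trans e2.symm)
    have := Subgroup.orderOf_dvd_natCard _ hyH
    rw [hy, hc2] at this
    norm_num at this
  haveI : Fact (Nat.Prime 2) := ⟨Nat.prime_two⟩
  have hC : ∀ y ∈ Q, y ≠ 1 → Subgroup.centralizer ({y} : Set G) = Q := by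
    intro y hy hy1
    have hy3 := hQ1 y hy hy1
    have hle : Q ≤ Subgroup.centralizer ({y} : Set G) := fun a ha => by
      rw [Subgroup.mem_centralizer_singleton_iff]
      obtain ⟨i, rfl⟩ := Subgroup.mem_zpowers_iff.1 ha
      obtain ⟨j, rfl⟩ := Subgroup.mem_zpowers_iff.1 hy
      exact ((Commute.refl x).zpow_zpow i j).eq
    refine (Subgroup.eq_of_le_of_card_ge hle ?_).symm
    rw [hQc]
    refine Nat.le_of_dvd (by norm_num) ?_
    have h1 : Nat.card (Subgroup.centralizer ({y} : Set G)) ∣ 2 ^ 2 * 3 := by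
      rw [show 2 ^ 2 * 3 = Nat.card G by rw [hg]; norm_num]; exact Subgroup.card_subgroup_dvd_card _
    refine Nat.Coprime.dvd_of_dvd_mul_left (Nat.Coprime.pow_right 2 ?_) h1
    refine (Nat.coprime_comm.1 (Nat.prime_two.coprime_iff_not_dvd.2 fun e => ?_))
    obtain ⟨v, hv⟩ := exists_prime_orderOf_dvd_card' (G := Subgroup.centralizer ({y} : Set G)) 2 e
    rw [← Subgroup.orderOf_coe] at hv
    exact hnocomm y v hy3 hv (Commute.symm (Subgroup.mem_centralizer_singleton_iff.1 v.2))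
  have hN : Subgroup.normalizer (Q : Set G) = Q := by
    refine (Subgroup.eq_of_le_of_card_ge Subgroup.le_normalizer ?_).symm
    rw [hQc]
    refine Nat.le_of_dvd (by norm_num) ?_
    have h1 : Nat.card (Subgroup.normalizer (Q : Set G)) ∣ 2 ^ 2 * 3 := by
      rw [show 2 ^ 2 * 3 = Nat.card G by rw [hg]; norm_num]; exact Subgroup.card_subgroup_dvd_card _
    refine Nat.Coprime.dvd_of_dvd_mul_left (Nat.Coprime.pow_right 2 ?_) h1
    refine (Nat.coprime_comm.1 (Nat.prime_two.coprime_iff_not_dvd.2 fun e => ?_))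
    obtain ⟨v, hv⟩ := exists_prime_orderOf_dvd_card' (G := Subgroup.normalizer (Q : Set G)) 2 e
    rw [← Subgroup.orderOf_coe] at hv
    have hxQ : x ∈ Q := Subgroup.mem_zpowers x
    have m1 : (v : G) * x * (v : G)⁻¹ * x⁻¹ ∈ Q :=
      Q.mul_mem ((Subgroup.mem_normalizer_iff.1 v.2 x).1 hxQ) (Q.inv_mem hxQ)
    have m2 : (v : G) * x * (v : G)⁻¹ * x⁻¹ ∈ E := by
      rw [show (v : G) * x * (v : G)⁻¹ * x⁻¹ = (v : G) * (x * (v : G)⁻¹ * x⁻¹) by group]
      exact E.mul_mem (hinvE _ hv) (hE.conj_mem _ (E.inv_mem (hinvE _ hv)) x)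
    have e0 : (v : G) * x * (v : G)⁻¹ * x⁻¹ = 1 := orderOf_eq_one_iff.1
      (Nat.eq_one_of_dvd_coprimes (show Nat.Coprime 3 4 by norm_num)
        (hQc ▸ Q.orderOf_dvd_natCard m1) (hE4 ▸ E.orderOf_dvd_natCard m2))
    refine hnocomm x v hx hv ?_
    show x * (v : G) = (v : G) * x
    rw [mul_inv_eq_one, mul_inv_eq_iff_eq_mul] at e0
    exact e0.symm
  refine ⟨Q, ⊥, by rw [hQc, hg], hC, inferInstance, by rw [Subgroup.card_bot, hQc], inf_bot_eq _,
    by rw [hN, sup_bot_eq], fun X hX hX1 => absurd (le_bot_iff.1 hX) hX1⟩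

theorem concl_small : h.Concl := by
  classical
  by_cases hE : ∃ E : Subgroup G, E.Normal ∧ IsElementaryAbelian 2 E ∧ Nat.card E = 4
  · obtain ⟨E, hE1, ⟨hE2, hE3⟩, hE4⟩ := hE
    exact h.concl_four hk hE1 hE2 hE3 hE4
  push Not at hE
  obtain ⟨e⟩ := Cfsg.Agent.S3277.result h.t h.ht (by rw [h.card_H, hk])
    (fun c hc => by rw [pow_two]; exact h.sq_of_H hk hc) (h.no_complement hk)
    (fun E hN hA => ⟨h.no_central hk hN, hE E hN hA⟩)
  have hg : Nat.card G = 60 := by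
    rw [Nat.card_congr e.toEquiv, Nat.card_eq_fintype_card]
    decide +kernel
  obtain ⟨x₀, hx₀, hx₀1⟩ := alt5_five
  obtain ⟨-, -, u, hu1, hu2, hux⟩ := alt5_facts x₀ hx₀ hx₀1
  have hfacts : ∀ x : G, x ^ 5 = 1 → x ≠ 1 → (∀ y : G, y * x = x * y → y ^ 5 = 1) ∧
      ∀ y : G, y * x * y⁻¹ ≠ x ^ 2 ∧ y * x * y⁻¹ ≠ x ^ 3 := by
    intro x hx hx1
    obtain ⟨h1, h2, -⟩ := alt5_facts (e x) (by rw [← map_pow, hx, map_one])
      (fun e' => hx1 (e.injective (by rw [e', map_one])))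
    refine ⟨fun y hy => e.injective ?_, fun y => ⟨fun e' => (h2 (e y)).1 ?_, fun e' => (h2 (e y)).2 ?_⟩⟩
    · rw [map_pow, map_one]; exact h1 _ (by rw [← map_mul, hy, map_mul])
    · rw [← map_inv, ← map_mul, ← map_mul, e', map_pow]
    · rw [← map_inv, ← map_mul, ← map_mul, e', map_pow]
  have hu : orderOf (e.symm u) = 2 := orderOf_two (by rw [← map_mul, hu2, map_one])
    (fun e' => hu1 (e.symm.injective (by rw [e', map_one])))
  obtain ⟨c, hc⟩ := isConj_iff.1 (h.hconj _ _ hu h.ht)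
  set x := c * e.symm x₀ * c⁻¹ with hxdef
  have hx5 : x ^ 5 = 1 := by rw [hxdef, conj_pow, ← map_pow, hx₀, map_one, mul_one, mul_inv_cancel]
  have hx1 : x ≠ 1 := fun e' => hx₀1 (e.symm.injective (by rw [conj_eq_one_iff.1 e', map_one]))
  have htx : h.t * x * h.t⁻¹ = x⁻¹ := by
    have e1 : e.symm u * e.symm x₀ * (e.symm u)⁻¹ = (e.symm x₀)⁻¹ := by
      rw [← map_inv, ← map_mul, ← map_mul, ← map_inv,
        show u⁻¹ = u from inv_eq_of_mul_eq_one_right hu2, hux]
    rw [← hc, hxdef]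
    calc c * e.symm u * c⁻¹ * (c * e.symm x₀ * c⁻¹) * (c * e.symm u * c⁻¹)⁻¹
        = c * (e.symm u * e.symm x₀ * (e.symm u)⁻¹) * c⁻¹ := by group
      _ = _ := by rw [e1]; group
  haveI : Fact (Nat.Prime 5) := ⟨Nat.prime_five⟩
  have hcard5 : ∀ y : G, y ^ 5 = 1 → y ≠ 1 → Nat.card (Subgroup.centralizer ({y} : Set G)) = 5 := by
    intro y hy hy1
    have hp : IsPGroup 5 (Subgroup.centralizer ({y} : Set G)) := fun a => ⟨1, Subtype.ext (by
      rw [pow_one, Subgroup.coe_pow]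
      exact (hfacts y hy hy1).1 a (Subgroup.mem_centralizer_singleton_iff.1 a.2))⟩
    obtain ⟨m, hm⟩ := IsPGroup.iff_card.1 hp
    have h1 : 5 ^ m ∣ 60 := by rw [← hm, ← hg]; exact Subgroup.card_subgroup_dvd_card _
    have hy5 : orderOf y = 5 := orderOf_eq_prime hy hy1
    have h2 : 5 ∣ 5 ^ m := by
      rw [← hm, ← hy5]
      exact Subgroup.orderOf_dvd_natCard _ (Subgroup.mem_centralizer_singleton_iff.2 rfl)
    have hm2 : m ≤ 1 := by
      by_contra hn
      have : 5 ^ 2 ∣ 60 := (pow_dvd_pow 5 (show 2 ≤ m by omega)).trans h1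
      norm_num at this
    rcases (show m = 0 ∨ m = 1 by omega) with rfl | rfl
    · norm_num at h2
    · rw [hm, pow_one]
  set Q := Subgroup.centralizer ({x} : Set G) with hQdef
  have hQz : Subgroup.zpowers x = Q := by
    refine Subgroup.eq_of_le_of_card_ge ?_ ?_
    · rw [Subgroup.zpowers_le]; exact Subgroup.mem_centralizer_singleton_iff.2 rfl
    · rw [hcard5 x hx5 hx1, Nat.card_zpowers, orderOf_eq_prime hx5 hx1]
  have hC : ∀ y ∈ Q, y ≠ 1 → Subgroup.centralizer ({y} : Set G) = Q := by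
    intro y hy hy1
    have hy5 : y ^ 5 = 1 := (hfacts x hx5 hx1).1 y (Subgroup.mem_centralizer_singleton_iff.1 hy)
    refine (Subgroup.eq_of_le_of_card_ge (fun a ha => ?_) ?_).symm
    · rw [Subgroup.mem_centralizer_singleton_iff]
      rw [← hQz] at ha hy
      obtain ⟨i, rfl⟩ := Subgroup.mem_zpowers_iff.1 ha
      obtain ⟨j, rfl⟩ := Subgroup.mem_zpowers_iff.1 hy
      exact ((Commute.refl x).zpow_zpow i j).eq
    · rw [hcard5 y hy5 hy1, hcard5 x hx5 hx1]
  have htN : h.t ∈ Subgroup.normalizer (Q : Set G) := by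
    rw [Subgroup.mem_normalizer_iff]
    have hstep : ∀ a ∈ Q, h.t * a * h.t⁻¹ ∈ Q := by
      intro a ha
      rw [← hQz] at ha ⊢
      obtain ⟨i, rfl⟩ := Subgroup.mem_zpowers_iff.1 ha
      rw [← conj_zpow, htx]
      exact Subgroup.zpow_mem _ (Subgroup.inv_mem _ (Subgroup.mem_zpowers x)) i
    intro a
    refine ⟨hstep a, fun ha => ?_⟩
    have := hstep _ ha
    rw [inv_of_two h.ht] at this
    rwa [show h.t * (h.t * a * h.t) * h.t = (h.t * h.t) * a * (h.t * h.t) by group,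
      mul_self_of_two h.ht, one_mul, mul_one] at this
  refine h.concl_K Q (by rw [hcard5 x hx5 hx1, hk]) (by rw [hg, hk]) hC ?_
  refine le_antisymm (fun g hg' => ?_) (sup_le Subgroup.le_normalizer fun a ha => ?_)
  · have hgx : g * x * g⁻¹ ∈ Subgroup.zpowers x := by
      rw [hQz]
      exact (Subgroup.mem_normalizer_iff.1 hg' x).1 (Subgroup.mem_centralizer_singleton_iff.2 rfl)
    rw [mem_zpowers_iff_mem_range_orderOf, orderOf_eq_prime hx5 hx1] at hgx
    obtain ⟨i, hi, e'⟩ := Finset.mem_image.1 hgx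
    rw [Finset.mem_range] at hi
    interval_cases i
    · rw [pow_zero] at e'; exact absurd (conj_eq_one_iff.1 e'.symm) hx1
    · rw [pow_one] at e'
      exact Subgroup.mem_sup_left (Subgroup.mem_centralizer_singleton_iff.2 (mul_inv_eq_iff_eq_mul.1 e'.symm))
    · exact absurd e'.symm ((hfacts x hx5 hx1).2 g).1
    · exact absurd e'.symm ((hfacts x hx5 hx1).2 g).2
    · rw [← inv_pow_four hx5] at e'
      have hm : h.t * g ∈ Q := by
        rw [hQdef, Subgroup.mem_centralizer_singleton_iff, ← mul_inv_eq_iff_eq_mul,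
          show h.t * g * x * (h.t * g)⁻¹ = h.t * (g * x * g⁻¹) * h.t⁻¹ by group, ← e']
        calc h.t * x⁻¹ * h.t⁻¹ = (h.t * x * h.t⁻¹)⁻¹ := by group
          _ = x := by rw [htx, inv_inv]
      have e2 : g = h.t * (h.t * g) := by rw [← mul_assoc, mul_self_of_two h.ht, one_mul]
      rw [e2]
      exact Subgroup.mul_mem _ (Subgroup.mem_sup_right h.htK) (Subgroup.mem_sup_left hm)
  · have : orderOf a ∣ 2 := hk ▸ h.K.orderOf_dvd_natCard ha
    rcases h.involution_K ha (by rw [← pow_two]; exact orderOf_dvd_iff_pow_eq_one.1 this) with rfl | rfl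
    · exact Subgroup.one_mem _
    · exact htN

end Conf

end Cfsg.Agent.Lib.Characters.BSW
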