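import Cfsg.Agent.Lib.Characters.BSW.Minus
import Cfsg.Agent.Lib.Characters.BSW.Small

/-!
# The abstract Brauer–Suzuki–Wall theorem
-/

set_option autoImplicit false

namespace Cfsg.Agent.Lib.Characters.BSW

universe u

open Cfsg in
/-- The abstract Brauer–Suzuki–Wall theorem. -/
theorem Conf.concl {G : Type u} [Group G] [Finite G] (h : Conf G) : h.Concl := by
  classical
  by_cases hk : h.k = 2
  · exact h.concl_small hk
  have hk4 : 4 ≤ h.k := by have := h.even_k; have := h.k_pos; omega
  haveI := Fintype.ofFinite G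
  haveI := Fintype.ofFinite (IrrCharacter G)
  obtain ⟨d⟩ := h.std_or_small hk4
  rcases d.cases' hk4 with ⟨e, -, -⟩ | ⟨e, -, -⟩
  · exact d.concl_plus hk4 e
  · exact d.concl_minus hk4 e

end Cfsg.Agent.Lib.Characters.BSW
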