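import Cfsg.Agent.Lib.Characters.BSW.MinusValues

/-!
# Abstract Brauer–Suzuki–Wall configuration: the case `q = 2k - 1`
-/

set_option autoImplicit false
set_option linter.style.haveILetI false
set_option linter.unusedSectionVars false

namespace Cfsg.Agent.Lib.Characters.BSW

open Cfsg Cfsg.Agent.Lib.Characters

universe u

namespace Conf.Std

variable {G : Type u} [Group G] {h : Conf G} [Finite G] [Fintype G] [Fintype (IrrCharacter G)] (d : h.Std)
  (hk : 4 ≤ h.k) (hQ : d.Q = 1 - 2 * h.k)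

include hk hQ

/-- The case `q = 2k - 1`. -/
theorem concl_minus : h.Concl := by
  classical
  obtain ⟨hq, hn⟩ := d.minus_arith hk hQ
  have hn3 : 3 ≤ d.n := by omega
  obtain ⟨⟨z, hz⟩⟩ : Nonempty {z : G // d.InU z} := by
    refine (Nat.card_pos_iff.1 ?_).1
    rw [d.card_U hk]
    have := h.k_pos
    positivity
  set Q := Subgroup.centralizer ({z} : Set G) with hQdef
  have hzQ : z ∈ Q := Subgroup.mem_centralizer_singleton_iff.2 rfl
  have hcard : Nat.card Q = d.q := d.card_C_U hk hz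
  have hab := d.abelian_minus hk hQ hz
  have hC : ∀ x ∈ Q, x ≠ 1 → Subgroup.centralizer ({x} : Set G) = Q := fun x hx hx1 =>
    d.centralizer_eq hk hz hab hx hx1
  have hQU : ∀ x ∈ Q, x ≠ 1 → d.InU x := fun x hx hx1 =>
    d.inU_of_pow hk hx1 (hcard ▸ Q.orderOf_dvd_natCard hx)
  set N := Subgroup.normalizer (Q : Set G) with hNdef
  -- the normalizer has index `2k`
  have hidx : Nat.card (G ⧸ N) = 2 * h.k ∧ Nat.card N = d.q * d.n := by
    obtain ⟨f, hf, hsurj⟩ := d.exists_conj_map hk hQU hC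
    have hbij : Function.Bijective f := by
      refine ⟨hf, fun ⟨x, hx⟩ => ?_⟩
      obtain ⟨y, hy, hy1, e⟩ : ∃ y, y ∈ Q ∧ y ≠ 1 ∧ IsConj y x := by
        rcases d.inU_cover hk hQ hz hx with e | e
        · exact ⟨z, hzQ, hz.1.1, e⟩
        · obtain ⟨c, hc⟩ := isConj_iff.1 e
          exact ⟨z⁻¹, Q.inv_mem hzQ, inv_ne_one.2 hz.1.1,
            isConj_iff.2 ⟨c, by rw [← inv_inv x, ← hc]; group⟩⟩
      obtain ⟨c, rfl⟩ := isConj_iff.1 e
      obtain ⟨p, hp⟩ := hsurj c ⟨y, hy⟩ (fun e => hy1 (congrArg Subtype.val e))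
      exact ⟨p, Subtype.ext hp⟩
    have e := Nat.card_congr (Equiv.ofBijective f hbij)
    rw [Nat.card_prod, card_ne_one, hcard, d.card_U hk] at e
    have h1 : Nat.card (G ⧸ N) = 2 * h.k := by
      refine Nat.eq_of_mul_eq_mul_right (show 0 < d.q - 1 by omega) ?_
      rw [e, show d.q - 1 = 2 * d.n by omega]; ring
    refine ⟨h1, Nat.eq_of_mul_eq_mul_left (show 0 < 2 * h.k by omega) ?_⟩
    rw [← h1, ← N.card_eq_card_quotient_mul_card_subgroup, h1, d.card_G hk]; ring
  obtain ⟨hindex, hcardN⟩ := hidx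
  have hQN : Q ≤ N := Subgroup.le_normalizer
  have hodd : ¬ 2 ∣ Nat.card N := by
    rw [hcardN]
    intro e
    rcases Nat.prime_two.dvd_mul.1 e with e | e
    exacts [d.q_odd hk e, d.n_odd hk e]
  have hQonly : ∀ y ∈ N, orderOf y ∣ d.q → y ∈ Q := by
    intro y hy hyq
    haveI : (Q.subgroupOf N).Normal := Subgroup.normal_in_normalizer
    have hindex' : (Q.subgroupOf N).index = d.n := by
      have e1 := (Q.subgroupOf N).index_mul_card
      rw [Nat.card_congr (Subgroup.subgroupOfEquivOfLe hQN).toEquiv, hcard, hcardN, mul_comm d.q] at e1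
      exact Nat.eq_of_mul_eq_mul_right (by omega) e1
    have hm := Subgroup.pow_index_mem (Q.subgroupOf N) (⟨y, hy⟩ : N)
    rw [hindex', Subgroup.mem_subgroupOf, Subgroup.coe_pow] at hm
    have hcop : Nat.Coprime (orderOf y) d.n := (d.cop_q_n hk).coprime_dvd_left hyq
    obtain ⟨m, hm'⟩ := exists_pow_eq_self_of_coprime hcop.symm
    have hm'' : (y ^ d.n) ^ m = y := hm'
    rw [← hm'']
    exact Q.pow_mem hm m
  have hsemi : ∀ x ∈ Q, x ≠ 1 → ∀ c : G, c⁻¹ * x * c ∈ N → c ∈ N := by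
    intro x hx hx1 c hc
    have hm : c⁻¹ * x * c ∈ Q := by
      refine hQonly _ hc ?_
      have e : orderOf (c⁻¹ * x * c) = orderOf x := by
        have := (MulAut.conj c⁻¹).orderOf_eq x
        simpa using this
      rw [e, ← hcard]
      exact Q.orderOf_dvd_natCard hx
    have := conj_sameCoset hC (c := c⁻¹) hx hx1 hm (by group)
    simpa using N.inv_mem this
  obtain ⟨c₀, hc₀⟩ : ∃ c : G, c ∉ N := by
    by_contra hn
    push Not at hn
    have : N = ⊤ := eq_top_iff.2 fun a _ => hn a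
    rw [this, Subgroup.card_top, d.card_G hk] at hcardN
    have : 2 * h.k * (d.q * d.n) = 1 * (d.q * d.n) := by rw [one_mul, ← mul_assoc]; exact hcardN
    have := Nat.eq_of_mul_eq_mul_right (Nat.mul_pos (show 0 < d.q by omega) (show 0 < d.n by omega)) this
    omega
  have htrans : ∀ c : G, c ∉ N → ∃ x ∈ Q, (x * c₀)⁻¹ * c ∈ N := by
    intro c hc
    let f : Q → {p : G ⧸ N // p ≠ ((1 : G) : G ⧸ N)} := fun x => ⟨(((x : G) * c₀ : G) : G ⧸ N), fun e => hc₀ (by
      have := QuotientGroup.eq.1 e.symm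
      rw [inv_one, one_mul] at this
      simpa using N.mul_mem (N.inv_mem (hQN x.2)) this)⟩
    have hf : Function.Injective f := by
      intro a b e
      have e' : ((a : G) * c₀)⁻¹ * ((b : G) * c₀) ∈ N := QuotientGroup.eq.1 (congrArg Subtype.val e)
      by_contra hne
      refine hc₀ (hsemi ((a : G)⁻¹ * b) (Q.mul_mem (Q.inv_mem a.2) b.2)
        (fun e2 => hne (Subtype.ext (inv_mul_eq_one.1 e2))) c₀ ?_)
      rwa [show c₀⁻¹ * ((a : G)⁻¹ * b) * c₀ = ((a : G) * c₀)⁻¹ * ((b : G) * c₀) by group]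
    have hcd : Nat.card {p : G ⧸ N // p ≠ ((1 : G) : G ⧸ N)} = d.q := by
      haveI := Fintype.ofFinite (G ⧸ N)
      rw [Nat.card_eq_fintype_card, Fintype.card_subtype_compl, Fintype.card_subtype_eq,
        ← Nat.card_eq_fintype_card, hindex]
      omega
    have hb := (Nat.bijective_iff_injective_and_card f).2 ⟨hf, by rw [hcard, hcd]⟩
    obtain ⟨x, hx⟩ := hb.2 ⟨(c : G ⧸ N), fun e => hc (by
      have := QuotientGroup.eq.1 e.symm
      simpa using this)⟩
    exact ⟨x, x.2, QuotientGroup.eq.1 (congrArg Subtype.val hx)⟩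
  set T : Subgroup G := N ⊓ N.map (MulAut.conj c₀).toMonoidHom with hTdef
  have hT : ∀ a, a ∈ T ↔ a ∈ N ∧ c₀⁻¹ * a * c₀ ∈ N := by
    intro a
    rw [hTdef, Subgroup.mem_inf, Subgroup.mem_map]
    refine and_congr_right fun _ => ⟨?_, fun e => ⟨_, e, by simp [mul_assoc]⟩⟩
    rintro ⟨b, hb, rfl⟩
    simpa [mul_assoc] using hb
  have hQT : ∀ a, a ∈ Q → a ∈ T → a = 1 := by
    intro a ha haT
    by_contra ha1
    exact hc₀ (hsemi a ha ha1 c₀ ((hT a).1 haT).2)
  have hdec : ∀ a ∈ N, ∃ x ∈ Q, ∃ b ∈ T, a = x * b := by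
    intro a ha
    obtain ⟨x, hx, hm⟩ := htrans (a * c₀) fun e => hc₀ (by simpa using N.mul_mem (N.inv_mem ha) e)
    refine ⟨x, hx, x⁻¹ * a, (hT _).2 ⟨N.mul_mem (N.inv_mem (hQN hx)) ha, ?_⟩, by group⟩
    rwa [show c₀⁻¹ * (x⁻¹ * a) * c₀ = (x * c₀)⁻¹ * (a * c₀) by group]
  have hTcard : Nat.card T = d.n := by
    let f : Q × T → N := fun p => ⟨(p.1 : G) * p.2, N.mul_mem (hQN p.1.2) ((hT _).1 p.2.2).1⟩
    have hf : Function.Bijective f := by
      refine ⟨?_, ?_⟩
      · rintro ⟨a, b⟩ ⟨a', b'⟩ e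
        have e' : (a : G) * b = (a' : G) * b' := congrArg Subtype.val e
        have h0 : (a' : G)⁻¹ * a = (b' : G) * (b : G)⁻¹ := by
          calc (a' : G)⁻¹ * a = (a' : G)⁻¹ * ((a : G) * b) * (b : G)⁻¹ := by group
            _ = _ := by rw [e']; group
        have h1 := hQT _ (Q.mul_mem (Q.inv_mem a'.2) a.2) (h0 ▸ T.mul_mem b'.2 (T.inv_mem b.2))
        have ha : a = a' := Subtype.ext (inv_mul_eq_one.1 h1).symm
        subst ha
        exact Prod.ext rfl (Subtype.ext (mul_left_cancel e'))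
      · rintro ⟨a, ha⟩
        obtain ⟨x, hx, b, hb, rfl⟩ := hdec a ha
        exact ⟨(⟨x, hx⟩, ⟨b, hb⟩), rfl⟩
    have e := Nat.card_congr (Equiv.ofBijective f hf)
    rw [Nat.card_prod, hcard, hcardN] at e
    exact Nat.eq_of_mul_eq_mul_left (by omega) e
  -- fixed cosets of an element of `T#`
  have hfix : ∀ w ∈ T, w ≠ 1 →
      Nat.card (Subgroup.centralizer ({w} : Set G)) = d.n ∧
      (∀ a ∈ Subgroup.centralizer ({w} : Set G), ∀ b ∈ Subgroup.centralizer ({w} : Set G), a * b = b * a) ∧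
      (∃ u : G, orderOf u = 2 ∧ ∀ a ∈ Subgroup.centralizer ({w} : Set G), u * a * u⁻¹ = a⁻¹) ∧
      (∀ c : G, c⁻¹ * w * c ∈ N → c ∈ N ∨ c₀⁻¹ * c ∈ N) := by
    intro w hw hw1
    have hwn : orderOf w ∣ d.n := hTcard ▸ T.orderOf_dvd_natCard hw
    have hwN := d.N0_of_coprime hk hw1 ((d.cop_n_2k hk).coprime_dvd_left hwn)
    have hwq : Nat.Coprime (orderOf w) d.q := (d.cop_q_n hk).symm.coprime_dvd_left hwn
    have hdvd := d.card_C_dvd_n hk hwN hwq
    obtain ⟨h1, h2, h3⟩ := h.abelian_of_pairs (show 0 < d.n by omega) (d.pairs_W hk hwN hwq)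
      (Nat.le_of_dvd (by omega) hdvd)
    refine ⟨h1, h2, h3, fun c hc => ?_⟩
    by_contra hn
    simp only [not_or] at hn
    obtain ⟨x, hx, hm⟩ := htrans c hn.1
    have hx' : x⁻¹ * w * x ∈ T := by
      refine (hT _).2 ⟨N.mul_mem (N.mul_mem (N.inv_mem (hQN hx)) ((hT w).1 hw).1) (hQN hx), ?_⟩
      have := N.mul_mem (N.mul_mem hm hc) (N.inv_mem hm)
      rwa [show (x * c₀)⁻¹ * c * (c⁻¹ * w * c) * ((x * c₀)⁻¹ * c)⁻¹ = c₀⁻¹ * (x⁻¹ * w * x) * c₀ by group]
        at this
    have hcm : w⁻¹ * (x⁻¹ * w * x) = 1 := by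
      refine hQT _ ?_ (T.mul_mem (T.inv_mem hw) hx')
      have hwn' : w⁻¹ ∈ N := N.inv_mem ((hT w).1 hw).1
      have := (Subgroup.mem_normalizer_iff.1 hwn' x⁻¹).1 (Q.inv_mem hx)
      rw [inv_inv] at this
      rw [show w⁻¹ * (x⁻¹ * w * x) = w⁻¹ * x⁻¹ * w * x by group]
      exact Q.mul_mem this hx
    have hxC : x ∈ Subgroup.centralizer ({w} : Set G) := by
      rw [Subgroup.mem_centralizer_singleton_iff]
      have : w = x⁻¹ * w * x := inv_mul_eq_one.1 hcm
      conv_lhs => rw [this]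
      group
    have hx1 : x = 1 := orderOf_eq_one_iff.1 (Nat.eq_one_of_dvd_coprimes (d.cop_q_n hk)
      (hcard ▸ Q.orderOf_dvd_natCard hx) (h1 ▸ Subgroup.orderOf_dvd_natCard _ hxC))
    rw [hx1, one_mul] at hm
    exact hn.2 hm
  have hCT : ∀ w ∈ T, w ≠ 1 → Subgroup.centralizer ({w} : Set G) = T := by
    intro w hw hw1
    obtain ⟨h1, -, -, h4⟩ := hfix w hw hw1
    obtain ⟨hwN, hwc⟩ := (hT w).1 hw
    refine Subgroup.eq_of_le_of_card_ge (fun a ha => ?_) (by rw [h1, hTcard])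
    have hcomm : ∀ b ∈ Subgroup.centralizer ({w} : Set G), b⁻¹ * w * b = w := by
      intro b hb
      rw [mul_assoc, ← Subgroup.mem_centralizer_singleton_iff.1 hb, inv_mul_cancel_left]
    have haN : a ∈ N := by
      by_contra haN
      have e1 := (h4 a (by rw [hcomm a ha]; exact hwN)).resolve_left haN
      have hm2 : a * a ∈ Subgroup.centralizer ({w} : Set G) := Subgroup.mul_mem _ ha ha
      rcases h4 (a * a) (by rw [hcomm _ hm2]; exact hwN) with e2 | e2
      · obtain ⟨m, hm⟩ : ∃ m, d.n = 2 * m + 1 := ⟨d.n / 2, by have := d.n_odd hk; omega⟩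
        refine haN ?_
        have hpow : a ^ d.n = 1 :=
          orderOf_dvd_iff_pow_eq_one.1 (h1 ▸ Subgroup.orderOf_dvd_natCard _ ha)
        have e3 : a = (a * a) ^ (m + 1) := by
          rw [← pow_two, ← pow_mul, show 2 * (m + 1) = d.n + 1 by omega, pow_succ, hpow, one_mul]
        rw [e3]; exact N.pow_mem e2 _
      · refine haN ?_
        have := N.mul_mem (N.inv_mem e1) e2
        rwa [show (c₀⁻¹ * a)⁻¹ * (c₀⁻¹ * (a * a)) = a by group] at this
    refine (hT a).2 ⟨haN, ?_⟩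
    rcases h4 (a * c₀) (by
      rw [show (a * c₀)⁻¹ * w * (a * c₀) = c₀⁻¹ * (a⁻¹ * w * a) * c₀ by group, hcomm a ha]
      exact hwc) with e | e
    · exact absurd (by simpa using N.mul_mem (N.inv_mem haN) e) hc₀
    · rwa [mul_assoc]
  obtain ⟨w, hw, hw1⟩ := T.bot_or_exists_ne_one.resolve_left (fun e => by
    rw [e, Subgroup.card_bot] at hTcard; omega)
  obtain ⟨h1, h2, ⟨u, hu, huinv⟩, h4⟩ := hfix w hw hw1
  rw [hCT w hw hw1] at h2 huinv
  have huN : u ∉ N := fun e => hodd (hu ▸ N.orderOf_dvd_natCard e)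
  have huT : u ∉ T := fun e => huN ((hT u).1 e).1
  have huT' : u ∈ Subgroup.normalizer (T : Set G) := by
    rw [Subgroup.mem_normalizer_iff]
    intro a
    refine ⟨fun ha => by rw [huinv a ha]; exact T.inv_mem ha, fun ha => ?_⟩
    have e : a = u * (u * a * u⁻¹) * u⁻¹ := by
      rw [inv_of_two hu]
      calc a = (u * u) * a * (u * u) := by rw [mul_self_of_two hu, one_mul, mul_one]
        _ = _ := by group
    rw [e, huinv _ ha]; exact T.inv_mem ha
  have huw : u⁻¹ * w * u = w⁻¹ := by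
    have := huinv w hw
    rw [inv_of_two hu] at this ⊢
    exact this
  have hu0 : c₀⁻¹ * u ∈ N :=
    (h4 u (by rw [huw]; exact N.inv_mem ((hT w).1 hw).1)).resolve_left huN
  have hNT : ∀ g ∈ Subgroup.normalizer (T : Set G), g ∈ T ∨ u * g ∈ T := by
    have key : ∀ e ∈ Subgroup.normalizer (T : Set G), e ∈ N → e ∈ T := by
      intro e he heN
      refine (hT e).2 ⟨heN, ?_⟩
      have hm : e⁻¹ * w * e ∈ T := by
        have := (Subgroup.mem_normalizer_iff.1 (Subgroup.inv_mem _ he) w).1 hw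
        simpa using this
      rcases h4 (e * c₀) (by
        rw [show (e * c₀)⁻¹ * w * (e * c₀) = c₀⁻¹ * (e⁻¹ * w * e) * c₀ by group]
        exact ((hT _).1 hm).2) with e' | e'
      · exact absurd (by simpa using N.mul_mem (N.inv_mem heN) e') hc₀
      · rwa [mul_assoc]
    intro g hg
    have hm : g⁻¹ * w * g ∈ T := by
      have := (Subgroup.mem_normalizer_iff.1 (Subgroup.inv_mem _ hg) w).1 hw
      simpa using this
    rcases h4 g ((hT _).1 hm).1 with e | e
    · exact Or.inl (key g hg e)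
    · refine Or.inr (key _ (Subgroup.mul_mem _ huT' hg) ?_)
      have := N.mul_mem (N.inv_mem hu0) e
      rwa [show (c₀⁻¹ * u)⁻¹ * (c₀⁻¹ * g) = u⁻¹ * g by group, inv_of_two hu] at this
  have hNTeq : Subgroup.normalizer (T : Set G) = T ⊔ Subgroup.zpowers u := by
    refine le_antisymm (fun g hg => ?_) (sup_le Subgroup.le_normalizer ?_)
    · rcases hNT g hg with e | e
      · exact Subgroup.mem_sup_left e
      · have e2 : g = u * (u * g) := by rw [← mul_assoc, mul_self_of_two hu, one_mul]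
        rw [e2]
        exact Subgroup.mul_mem _ (Subgroup.mem_sup_right (Subgroup.mem_zpowers u)) (Subgroup.mem_sup_left e)
    · rw [Subgroup.zpowers_le]; exact huT'
  refine ⟨Q, T, ?_, hC, ⟨⟨fun a b => Subtype.ext (h2 a a.2 b b.2)⟩⟩, by rw [hcard, hTcard]; omega,
    ?_, ?_, fun X hX hX1 => ?_⟩
  · rw [hcard, d.card_G hk, hq, show d.q - 1 = 2 * d.n by omega]; ring
  · rw [Subgroup.eq_bot_iff_forall]
    exact fun a ha => hQT a ha.1 ha.2
  · refine le_antisymm (fun g hg => ?_) (sup_le hQN fun a ha => ((hT a).1 ha).1)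
    obtain ⟨x, hx, b, hb, rfl⟩ := hdec g hg
    exact Subgroup.mul_mem_sup hx hb
  · refine ⟨le_antisymm (fun g hg => ?_) (fun g hg => ?_), u, hu, huT, huinv, hNTeq⟩
    · obtain ⟨x, hx, hx1⟩ := X.bot_or_exists_ne_one.resolve_left hX1
      have hy : g * x * g⁻¹ ∈ X := (Subgroup.mem_normalizer_iff.1 hg x).1 hx
      have hCy := hCT _ (hX hy) fun e => hx1 (conj_eq_one_iff.1 e)
      rw [Subgroup.mem_normalizer_iff]
      intro a
      show a ∈ T ↔ g * a * g⁻¹ ∈ T
      conv_rhs => rw [← hCy, conj_centralizer, hCT x (hX hx) hx1]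
    · have hact : ∀ g ∈ Subgroup.normalizer (T : Set G), ∀ a ∈ X, g * a * g⁻¹ ∈ X := by
        intro g hg a ha
        rcases hNT g hg with e | e
        · rw [h2 g e a (hX ha), mul_inv_cancel_right]; exact ha
        · have e2 : g * a * g⁻¹ = u * (u * g * a * (u * g)⁻¹) * u⁻¹ := by
            rw [inv_of_two hu, mul_inv_rev, inv_of_two hu]
            calc g * a * g⁻¹ = (u * u) * g * a * g⁻¹ * (u * u) := by rw [mul_self_of_two hu, one_mul, mul_one]
              _ = _ := by group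
          rw [e2, h2 _ e a (hX ha), mul_inv_cancel_right, huinv a (hX ha)]
          exact X.inv_mem ha
      rw [Subgroup.mem_normalizer_iff]
      intro a
      refine ⟨hact g hg a, fun ha => ?_⟩
      have := hact g⁻¹ (Subgroup.inv_mem _ hg) _ ha
      simpa [mul_assoc] using this

end Conf.Std

end Cfsg.Agent.Lib.Characters.BSW
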