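import Cfsg.Agent.Lib.Characters.BSW.Plus

/-!
# Abstract Brauer–Suzuki–Wall configuration: `q = 2k - 1`, the centraliser is abelian
-/

set_option autoImplicit false
set_option linter.style.haveILetI false
set_option linter.unusedSectionVars false

namespace Cfsg.Agent.Lib.Characters.BSW

open Cfsg Cfsg.Agent.Lib.Characters Cfsg.Agent.Lib.BlockHeights Cfsg.Agent.Lib.InvChar
open scoped ComplexConjugate Classical

universe u

namespace Conf.Std

variable {G : Type u} [Group G] {h : Conf G} [Finite G] [Fintype G] [Fintype (IrrCharacter G)] (d : h.Std)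

/-- The characters vanishing on `K#`. -/
noncomputable def O : Finset (IrrCharacter G) :=
  Finset.univ.filter fun χ => χ ≠ trivIrr G ∧ χ ≠ d.S ∧ χ ≠ d.P ∧ χ ≠ d.R ∧
    ∀ l : h.Dual, l⁻¹ ≠ l → χ ≠ d.B l

theorem sum_all {R : Type*} [CommRing R] (F : IrrCharacter G → R) :
    2 * ∑ χ, F χ = 2 * (F (trivIrr G) + F d.S + F d.P + F d.R) + ∑ l ∈ d.NR, F (d.B l) +
      2 * ∑ χ ∈ d.O, F χ := by
  have e := d.sum_special (fun χ => if χ ∈ d.O then 0 else F χ) fun χ h1 h2 h3 h4 h5 =>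
    if_pos (Finset.mem_filter.2 ⟨Finset.mem_univ _, h1, h2, h3, h4, h5⟩)
  have n1 : trivIrr G ∉ d.O := fun e => (Finset.mem_filter.1 e).2.1 rfl
  have n2 : d.S ∉ d.O := fun e => (Finset.mem_filter.1 e).2.2.1 rfl
  have n3 : d.P ∉ d.O := fun e => (Finset.mem_filter.1 e).2.2.2.1 rfl
  have n4 : d.R ∉ d.O := fun e => (Finset.mem_filter.1 e).2.2.2.2.1 rfl
  simp only [if_neg n1, if_neg n2, if_neg n3, if_neg n4] at e
  rw [Finset.sum_congr rfl (fun l hl => if_neg
    (fun e : d.B l ∈ d.O => (Finset.mem_filter.1 e).2.2.2.2.2 l (d.mem_NR.1 hl) rfl))] at e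
  rw [← e, ← mul_add]
  congr 1
  have e2 : ∑ χ ∈ d.O, F χ = ∑ χ, if χ ∈ d.O then F χ else 0 := by
    rw [← Finset.sum_filter, Finset.filter_mem_eq_inter, Finset.univ_inter]
  rw [e2, ← Finset.sum_add_distrib]
  exact Finset.sum_congr rfl fun χ _ => by split_ifs <;> simp

variable (hk : 4 ≤ h.k)

include hk

/-- An irreducible character with the values of `P` on `K#` is `P` or `R`. -/
theorem eq_P_or_R (χ : IrrCharacter G) (hv : ∀ l, h.w χ l = h.w d.P l) : χ = d.P ∨ χ = d.R := by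
  have hε := hv d.ε
  rw [d.wP, if_pos rfl] at hε
  have heP : d.eP ≠ 0 := fun e => by have := d.eP_sq; rw [e] at this; norm_num at this
  have heS : d.eS ≠ 0 := fun e => by have := d.eS_sq; rw [e] at this; norm_num at this
  obtain ⟨l, hl⟩ := Finset.card_pos.1 (show 0 < d.NR.card by have := d.card_NR; omega)
  rw [mem_NR] at hl
  have hl' := hv l
  rw [d.wP, if_neg (d.ne_eps hl)] at hl'
  by_contra hne
  simp only [not_or] at hne
  by_cases h1 : χ = trivIrr G
  · rw [h1, h.w_triv (ne_one hl)] at hl'; norm_num at hl'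
  by_cases h2 : χ = d.S
  · rw [h2, d.wS _ (ne_one hl)] at hl'; exact heS hl'
  by_cases h4 : ∃ j : h.Dual, j⁻¹ ≠ j ∧ χ = d.B j
  · obtain ⟨j, hj, e⟩ := h4
    rw [e, d.wB j hj, if_neg] at hε
    · exact heP hε.symm
    · rintro (e' | e')
      · exact d.ne_eps hj e'.symm
      · exact d.ne_eps hj (by rw [← h.dual_inv_inv j, ← e']; exact d.ε_inv)
  · push Not at h4
    rw [d.others χ h1 h2 hne.1 hne.2 h4] at hε
    exact heP hε.symm

variable (hQ : d.Q = 1 - 2 * h.k)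

include hQ

theorem minus_arith : d.q + 1 = 2 * h.k ∧ d.n + 1 = h.k := by
  rcases d.cases' hk with ⟨a, -, -⟩ | ⟨-, b, c⟩
  · omega
  · exact ⟨b, c⟩

theorem not_conj_inv {z : G} (hz : d.InU z) : ¬ IsConj z z⁻¹ := by
  intro e
  obtain ⟨c, hc⟩ := isConj_iff.1 e
  have hzq : orderOf z ∣ d.q := d.card_C_U hk hz ▸ orderOf_dvd_C z
  have hzz : z ≠ z⁻¹ := by
    intro e
    refine hz.1.1 (orderOf_eq_one_iff.1 (Nat.eq_one_of_dvd_coprimes
      (Nat.prime_two.coprime_iff_not_dvd.2 (d.q_odd hk)) ?_ hzq))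
    exact orderOf_dvd_of_pow_eq_one (by rw [pow_two]; conv_lhs => arg 2; rw [e]
                                        exact mul_inv_cancel z)
  have hc2 : (c ^ 2) ^ d.q = 1 := by
    have hm : c ^ 2 ∈ Subgroup.centralizer ({z} : Set G) := by
      rw [Subgroup.mem_centralizer_singleton_iff, ← mul_inv_eq_iff_eq_mul]
      calc c ^ 2 * z * (c ^ 2)⁻¹ = c * (c * z * c⁻¹) * c⁻¹ := by rw [pow_two]; group
        _ = (c * z * c⁻¹)⁻¹ := by rw [hc, show c * z⁻¹ * c⁻¹ = (c * z * c⁻¹)⁻¹ by group, hc]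
        _ = z := by rw [hc, inv_inv]
    exact orderOf_dvd_iff_pow_eq_one.1 (d.card_C_U hk hz ▸ Subgroup.orderOf_dvd_natCard _ hm)
  have hodd : ∀ m : ℕ, c ^ (2 * m + 1) * z * (c ^ (2 * m + 1))⁻¹ = z⁻¹ := by
    intro m
    induction m with
    | zero => simpa using hc
    | succ m ih =>
      rw [show 2 * (m + 1) + 1 = 2 + (2 * m + 1) by ring, pow_add]
      calc c ^ 2 * c ^ (2 * m + 1) * z * (c ^ 2 * c ^ (2 * m + 1))⁻¹
          = c ^ 2 * (c ^ (2 * m + 1) * z * (c ^ (2 * m + 1))⁻¹) * (c ^ 2)⁻¹ := by group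
        _ = c * (c * z * c⁻¹)⁻¹ * c⁻¹ := by rw [ih, pow_two]; group
        _ = (c * z * c⁻¹) := by conv_lhs => rw [hc, inv_inv]
        _ = z⁻¹ := hc
  obtain ⟨m, hm⟩ : ∃ m, d.q = 2 * m + 1 := ⟨d.q / 2, by have := d.q_odd hk; omega⟩
  set u := c ^ d.q with hu
  have hu2 : u * u = 1 := by rw [hu, ← pow_add, ← two_mul, pow_mul]; exact hc2
  have huz : u * z * u⁻¹ = z⁻¹ := by rw [hu, hm]; exact hodd m
  have hu1 : u ≠ 1 := fun e => hzz (by rw [e] at huz; simpa using huz)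
  have hou : orderOf u = 2 := orderOf_two hu2 hu1
  rw [inv_of_two hou] at huz
  have hov : orderOf (u * z) = 2 := by
    refine orderOf_two ?_ fun e => ?_
    · rw [← mul_assoc, huz, inv_mul_cancel]
    · have e' : z = u := by rw [eq_inv_of_mul_eq_one_right e, inv_of_two hou]
      rw [e', hou] at hzq
      exact d.q_odd hk hzq
  have hne : Nonempty (h.Pairs z) := ⟨⟨(u, u * z), h.isConj_iff_two.2 hou, h.isConj_iff_two.2 hov,
    by rw [← mul_assoc, hu2, one_mul]⟩⟩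
  have := Nat.card_pos (α := h.Pairs z)
  rw [d.pairs_U_minus hk hz hQ] at this
  omega

theorem card_class {z : G} (hz : d.InU z) : Nat.card {x : G // IsConj z x} = 2 * h.k * d.n := by
  have e := card_conj_mul_card_centralizer z
  rw [d.card_C_U hk hz, d.card_G hk] at e
  refine Nat.eq_of_mul_eq_mul_right (show 0 < d.q by have := d.q_odd hk; omega) ?_
  rw [e]; ring

theorem inU_cover {z : G} (hz : d.InU z) {x : G} (hx : d.InU x) : IsConj z x ∨ IsConj z x⁻¹ := by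
  by_contra hn
  have hA : Nat.card {y : G // IsConj z y} = (Finset.univ.filter fun y => IsConj z y).card := by
    rw [Nat.card_eq_fintype_card, Fintype.card_subtype]
  have hU : Nat.card {y : G // d.InU y} = (Finset.univ.filter fun y => d.InU y).card := by
    rw [Nat.card_eq_fintype_card, Fintype.card_subtype]
  rw [d.card_class hk hQ hz] at hA
  rw [d.card_U hk] at hU
  set A := Finset.univ.filter fun y => IsConj z y with hAdef
  have hB : (A.image fun y => y⁻¹).card = A.card := Finset.card_image_of_injective _ inv_injective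
  have hdis : Disjoint A (A.image fun y => y⁻¹) := by
    rw [Finset.disjoint_left]
    intro y hy hy'
    obtain ⟨w, hw, rfl⟩ := Finset.mem_image.1 hy'
    simp only [hAdef, Finset.mem_filter, Finset.mem_univ, true_and] at hy hw
    obtain ⟨c, hc⟩ := isConj_iff.1 hw
    refine d.not_conj_inv hk hQ hz (hy.trans (isConj_iff.2 ⟨c⁻¹, ?_⟩))
    rw [← hc]; group
  have hinvU : ∀ y : G, IsConj z y → d.InU y ∧ d.InU y⁻¹ := by
    intro y hy
    obtain ⟨c, rfl⟩ := isConj_iff.1 hy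
    have h1 := d.inU_conj hk hz c
    have ho : orderOf (c * z * c⁻¹)⁻¹ = orderOf (c * z * c⁻¹) := orderOf_inv _
    refine ⟨h1, ⟨d.N0_of_coprime hk (inv_ne_one.2 h1.1.1) ?_, ho ▸ h1.2⟩⟩
    rw [ho]; exact (d.card_C_coprime hk h1.1).coprime_dvd_left (orderOf_dvd_C _)
  have hsub : A ∪ (A.image fun y => y⁻¹) ⊆ (Finset.univ.filter fun y => d.InU y).erase x := by
    intro y hy
    rw [Finset.mem_erase, Finset.mem_filter]
    rcases Finset.mem_union.1 hy with hy | hy
    · simp only [hAdef, Finset.mem_filter, Finset.mem_univ, true_and] at hy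
      exact ⟨fun e => hn (Or.inl (e ▸ hy)), Finset.mem_univ _, (hinvU y hy).1⟩
    · obtain ⟨w, hw, rfl⟩ := Finset.mem_image.1 hy
      simp only [hAdef, Finset.mem_filter, Finset.mem_univ, true_and] at hw
      exact ⟨fun e => hn (Or.inr (by rw [← e, inv_inv]; exact hw)), Finset.mem_univ _, (hinvU w hw).2⟩
  have := Finset.card_le_card hsub
  rw [Finset.card_union_of_disjoint hdis, hB, ← hA, Finset.card_erase_of_mem (by simp [hx]), ← hU] at this
  have := h.k_pos
  have : 0 < 4 * h.k * d.n := by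
    have := d.n_odd hk
    have : 0 < d.n := by omega
    positivity
  have e4 : 2 * h.k * d.n + 2 * h.k * d.n = 4 * h.k * d.n := by ring
  omega

theorem P_real_part {z : G} (hz : d.InU z) :
    (d.hP z).re = 1 / 2 ∧ (d.hR z).re = 1 / 2 ∧
      (∀ χ ∈ d.O, ((χ : G → ℂ) z).re = (deg χ : ℝ) / (2 * (h.k : ℝ))) ∧
      ((d.hP z).im ^ 2 + (d.hR z).im ^ 2 + ∑ χ ∈ d.O, ((χ : G → ℂ) z).im ^ 2 = (d.q : ℝ) / 2) := by
  obtain ⟨hq, hn⟩ := d.minus_arith hk hQ
  have hqR : (d.q : ℝ) = 2 * (h.k : ℝ) - 1 := by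
    have : ((d.q + 1 : ℕ) : ℝ) = ((2 * h.k : ℕ) : ℝ) := by rw [hq]
    push_cast at this; linarith
  have hkR : (4 : ℝ) ≤ (h.k : ℝ) := by exact_mod_cast hk
  have hsh : d.hS z = 0 := by rw [d.sh_cast hk, ((d.inU_iff hk z).1 hz).2, Int.cast_zero]
  have hS0 : (d.S : G → ℂ) z = 0 := by
    rw [hS] at hsh
    exact (mul_eq_zero.1 hsh).resolve_left (neg_ne_zero.2 (left_ne_zero_of_mul_eq_one d.cS))
  have hB1 : ∀ l ∈ d.NR, (d.B l : G → ℂ) z = (d.eB l : ℂ) := by
    intro l hl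
    have hl' := d.mem_NR.1 hl
    have e := d.hX_of_notInK hl' hz.1.2
    rw [hsh, add_zero, hX] at e
    linear_combination (d.eB l : ℂ) * e - (d.B l : G → ℂ) z * d.cB hl'
  have hPR : d.hP z + d.hR z = 1 := by rw [d.hP_add_hR hz.1.2, hsh, add_zero]
  have hc : (d.NR.card : ℝ) = (h.k : ℝ) - 2 := by
    have := d.card_NR
    have : ((d.NR.card + 2 : ℕ) : ℝ) = (h.k : ℝ) := by rw [this]
    push_cast at this; linarith
  have sP : (d.eP : ℝ) * d.eP = 1 := by exact_mod_cast d.eP_sq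
  have sR : (d.eR : ℝ) * d.eR = 1 := by exact_mod_cast d.eR_sq
  have sB : ∀ l ∈ d.NR, (d.eB l : ℝ) * d.eB l = 1 := fun l hl => by
    exact_mod_cast d.eB_sq l (d.mem_NR.1 hl)
  have hp : (d.p : ℝ) = 1 - (h.k : ℝ) := by
    have := (d.p_eq hk).2.1
    rw [hQ] at this
    have : ((2 * d.p : ℤ) : ℝ) = ((1 + (1 - 2 * (h.k : ℤ)) : ℤ) : ℝ) := by rw [this]
    push_cast at this; linarith
  have hr : d.eR * deg d.R = d.p := by
    have := (d.p_eq hk).1
    rw [hR_one, hP_one] at this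
    exact Int.cast_injective this
  -- the column against the degrees
  have h1 : ∑ χ ∈ d.O, ((χ : G → ℂ) z).re * (deg χ : ℝ) = (h.k : ℝ) * ((h.k : ℝ) - 2) := by
    have e0 := sum_irr_mul_conj z (1 : G)
    rw [if_neg fun e => hz.1.1 (isConj_one_left.1 e)] at e0
    have e1 := d.sum_all (fun χ => ((χ : G → ℂ) z).re * (deg χ : ℝ))
    have e2 : ∑ χ : IrrCharacter G, ((χ : G → ℂ) z).re * (deg χ : ℝ) = 0 := by
      have := congrArg Complex.re e0
      rw [Complex.re_sum, Complex.zero_re] at this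
      rw [← this]
      exact Finset.sum_congr rfl fun χ _ => by
        rw [apply_one_deg, map_intCast, Complex.mul_re, Complex.intCast_re, Complex.intCast_im,
          mul_zero, sub_zero]
    rw [e2] at e1
    rw [Finset.sum_congr rfl (fun l hl => show ((d.B l : G → ℂ) z).re * (deg (d.B l) : ℝ) =
        2 - 2 * (h.k : ℝ) by
      rw [hB1 l hl, Complex.intCast_re]
      have e := d.hX_one (d.mem_NR.1 hl)
      rw [hX, apply_one_deg, hQ] at e
      have e' : d.eB l * deg (d.B l) = 1 + (1 - 2 * (h.k : ℤ)) := by exact_mod_cast e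
      have e'' : ((d.eB l * deg (d.B l) : ℤ) : ℝ) = ((1 + (1 - 2 * (h.k : ℤ)) : ℤ) : ℝ) := by rw [e']
      push_cast at e''; linarith),
      Finset.sum_const, nsmul_eq_mul, hc, hS0, trivIrr_apply] at e1
    simp only [Complex.one_re, Complex.zero_re, deg_triv, Int.cast_one, one_mul, zero_mul] at e1
    have eP : ((d.P : G → ℂ) z).re * (deg d.P : ℝ) = (d.hP z).re * (d.p : ℝ) := by
      simp only [hP, p, Int.cast_mul, Complex.mul_re, Complex.intCast_re, Complex.intCast_im, zero_mul,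
        sub_zero]
      linear_combination -((d.P : G → ℂ) z).re * (deg d.P : ℝ) * sP
    have eR : ((d.R : G → ℂ) z).re * (deg d.R : ℝ) = (d.hR z).re * (d.p : ℝ) := by
      rw [← hr]
      simp only [hR, Int.cast_mul, Complex.mul_re, Complex.intCast_re, Complex.intCast_im, zero_mul,
        sub_zero]
      linear_combination -((d.R : G → ℂ) z).re * (deg d.R : ℝ) * sR
    rw [eP, eR, hp] at e1
    have e3 : (d.hP z).re + (d.hR z).re = 1 := by rw [← Complex.add_re, hPR, Complex.one_re]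
    linear_combination -e1 / 2 - (1 - (h.k : ℝ)) * e3
  -- the degrees
  have h2 : ∑ χ ∈ d.O, (deg χ : ℝ) ^ 2 = 2 * (h.k : ℝ) ^ 2 * ((h.k : ℝ) - 2) := by
    have e1 := d.sum_all (fun χ => (deg χ : ℝ) ^ 2)
    have e2 : ∑ χ : IrrCharacter G, (deg χ : ℝ) ^ 2 = (Nat.card G : ℝ) := by
      have := sum_degree_sq (G := G)
      rw [Finset.sum_congr rfl fun (χ : IrrCharacter G) _ => show ((χ : G → ℂ) 1) ^ 2 = (((deg χ : ℝ) ^ 2 : ℝ) : ℂ) by
        rw [apply_one_deg]; push_cast; rfl, ← Complex.ofReal_sum] at this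
      exact_mod_cast this
    have eS : (deg d.S : ℝ) ^ 2 = (1 - 2 * (h.k : ℝ)) ^ 2 := by
      have e : ((-(d.eS * deg d.S) : ℤ) : ℝ) = ((1 - 2 * (h.k : ℤ) : ℤ) : ℝ) := by rw [← hQ, Q]
      have s : (d.eS : ℝ) * d.eS = 1 := by exact_mod_cast d.eS_sq
      push_cast at e
      rw [← e]; linear_combination -(deg d.S : ℝ) ^ 2 * s
    have eP : (deg d.P : ℝ) ^ 2 = (d.p : ℝ) ^ 2 := by
      rw [p]; push_cast; linear_combination -(deg d.P : ℝ) ^ 2 * sP
    have eR : (deg d.R : ℝ) ^ 2 = (d.p : ℝ) ^ 2 := by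
      rw [← hr]; push_cast; linear_combination -(deg d.R : ℝ) ^ 2 * sR
    rw [Finset.sum_congr rfl (fun l hl => show (deg (d.B l) : ℝ) ^ 2 = (2 - 2 * (h.k : ℝ)) ^ 2 by
      have e := d.hX_one (d.mem_NR.1 hl)
      rw [hX, apply_one_deg, hQ] at e
      have e' : d.eB l * deg (d.B l) = 1 + (1 - 2 * (h.k : ℤ)) := by exact_mod_cast e
      have e'' : ((d.eB l * deg (d.B l) : ℤ) : ℝ) = ((1 + (1 - 2 * (h.k : ℤ)) : ℤ) : ℝ) := by rw [e']
      push_cast at e''
      rw [show (2 : ℝ) - 2 * (h.k : ℝ) = (d.eB l : ℝ) * (deg (d.B l) : ℝ) by linarith]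
      linear_combination -(deg (d.B l) : ℝ) ^ 2 * sB l hl),
      Finset.sum_const, nsmul_eq_mul, hc, e2, deg_triv, Int.cast_one, eS, eP, eR, hp] at e1
    have hg : (Nat.card G : ℝ) = 2 * (h.k : ℝ) * (2 * (h.k : ℝ) - 1) * ((h.k : ℝ) - 1) := by
      have hnR : ((d.n + 1 : ℕ) : ℝ) = (h.k : ℝ) := by rw [hn]
      rw [d.card_G hk]; push_cast at hnR ⊢
      rw [hqR, show (d.n : ℝ) = (h.k : ℝ) - 1 by linarith]
    rw [hg] at e1
    linear_combination -e1 / 2
  -- the column against itself and against its inverse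
  have hRe : ∑ χ : IrrCharacter G, ((χ : G → ℂ) z).re ^ 2 = (d.q : ℝ) / 2 ∧
      ∑ χ : IrrCharacter G, ((χ : G → ℂ) z).im ^ 2 = (d.q : ℝ) / 2 := by
    have e1 := congrArg Complex.re (sum_irr_mul_conj z z)
    rw [if_pos (IsConj.refl z), d.card_C_U hk hz, Complex.re_sum, Complex.natCast_re] at e1
    have e2 := congrArg Complex.re (sum_irr_mul_conj z z⁻¹)
    rw [if_neg (d.not_conj_inv hk hQ hz), Complex.re_sum, Complex.zero_re] at e2
    simp only [IsCharacter.apply_inv (irr_isCharacter _), Complex.conj_conj, Complex.mul_re,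
      Complex.conj_re, Complex.conj_im] at e1 e2
    simp only [Finset.sum_sub_distrib, mul_neg, sub_neg_eq_add, Finset.sum_add_distrib] at e1 e2
    simp only [pow_two]
    constructor <;> linarith
  have h3 : (d.hP z).re ^ 2 + (d.hR z).re ^ 2 + ∑ χ ∈ d.O, ((χ : G → ℂ) z).re ^ 2 =
      (d.q : ℝ) / 2 - 1 - ((h.k : ℝ) - 2) / 2 := by
    have e1 := d.sum_all (fun χ => ((χ : G → ℂ) z).re ^ 2)
    rw [hRe.1, Finset.sum_congr rfl (fun l hl => show ((d.B l : G → ℂ) z).re ^ 2 = 1 by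
      rw [hB1 l hl, Complex.intCast_re, pow_two]; exact sB l hl),
      Finset.sum_const, nsmul_eq_mul, hc, hS0, trivIrr_apply] at e1
    simp only [Complex.one_re, Complex.zero_re, hP, hR, Complex.mul_re, Complex.intCast_re,
      Complex.intCast_im, zero_mul, sub_zero] at e1 ⊢
    linear_combination -e1 / 2 + ((d.P : G → ℂ) z).re ^ 2 * sP + ((d.R : G → ℂ) z).re ^ 2 * sR
  have e3 : (d.hP z).re + (d.hR z).re = 1 := by rw [← Complex.add_re, hPR, Complex.one_re]
  have hsq : ∑ χ ∈ d.O, (2 * (h.k : ℝ) * ((χ : G → ℂ) z).re - (deg χ : ℝ)) ^ 2 =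
      -8 * (h.k : ℝ) ^ 2 * ((d.hP z).re - 1 / 2) ^ 2 := by
    have e : ∀ χ : IrrCharacter G, (2 * (h.k : ℝ) * ((χ : G → ℂ) z).re - (deg χ : ℝ)) ^ 2 =
        4 * (h.k : ℝ) ^ 2 * ((χ : G → ℂ) z).re ^ 2 - 4 * (h.k : ℝ) * (((χ : G → ℂ) z).re * (deg χ : ℝ)) +
          (deg χ : ℝ) ^ 2 := fun χ => by ring
    rw [Finset.sum_congr rfl fun χ _ => e χ, Finset.sum_add_distrib, Finset.sum_sub_distrib,
      ← Finset.mul_sum, ← Finset.mul_sum, h1, h2,
      show ∑ χ ∈ d.O, ((χ : G → ℂ) z).re ^ 2 = (d.q : ℝ) / 2 - 1 - ((h.k : ℝ) - 2) / 2 -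
        (d.hP z).re ^ 2 - (d.hR z).re ^ 2 by linarith, hqR,
      show (d.hR z).re = 1 - (d.hP z).re by linarith]
    ring
  have hge : 0 ≤ ∑ χ ∈ d.O, (2 * (h.k : ℝ) * ((χ : G → ℂ) z).re - (deg χ : ℝ)) ^ 2 :=
    Finset.sum_nonneg fun χ _ => sq_nonneg _
  have hhalf : (d.hP z).re = 1 / 2 := by
    have : ((d.hP z).re - 1 / 2) ^ 2 = 0 := by
      have h16 : (16 : ℝ) ≤ (h.k : ℝ) ^ 2 := by nlinarith
      nlinarith [sq_nonneg ((d.hP z).re - 1 / 2),
        mul_le_mul_of_nonneg_right h16 (sq_nonneg ((d.hP z).re - 1 / 2))]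
    linarith [pow_eq_zero_iff (two_ne_zero) |>.1 this]
  refine ⟨hhalf, by linarith, fun χ hχ => ?_, ?_⟩
  · rw [hhalf, sub_self] at hsq
    simp only [ne_eq, OfNat.ofNat_ne_zero, not_false_eq_true, zero_pow, mul_zero] at hsq
    have := (Finset.sum_eq_zero_iff_of_nonneg fun χ _ => sq_nonneg _).1 hsq χ hχ
    rw [pow_eq_zero_iff two_ne_zero, sub_eq_zero] at this
    rw [← this]; field_simp
  · have e1 := d.sum_all (fun χ => ((χ : G → ℂ) z).im ^ 2)
    rw [hRe.2, Finset.sum_congr rfl (fun l hl => show ((d.B l : G → ℂ) z).im ^ 2 = 0 by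
      rw [hB1 l hl, Complex.intCast_im, pow_two, mul_zero]),
      Finset.sum_const, nsmul_zero, hS0, trivIrr_apply] at e1
    simp only [Complex.one_im, Complex.zero_im, hP, hR, Complex.mul_im, Complex.intCast_re,
      Complex.intCast_im, zero_mul, add_zero] at e1 ⊢
    linear_combination -e1 / 2 + ((d.P : G → ℂ) z).im ^ 2 * sP + ((d.R : G → ℂ) z).im ^ 2 * sR

theorem conj_P (z₀ : G) (hz₀ : d.InU z₀) :
    d.eR = d.eP ∧ ∀ g, (d.R : G → ℂ) g = conj ((d.P : G → ℂ) g) := by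
  haveI := Fintype.ofFinite h.K
  have hg1 : 0 < Nat.card G := Nat.card_pos
  have hm : Nat.Coprime (Nat.card G - 1) (Nat.card G) := by
    refine coprime_of_primes fun r hr h1 h2 => hr.ne_one (Nat.dvd_one.1 ?_)
    have := Nat.dvd_sub h2 h1
    rwa [show Nat.card G - (Nat.card G - 1) = 1 by omega] at this
  have hinvg : ∀ g : G, g ^ (Nat.card G - 1) = g⁻¹ := fun g => by
    refine eq_inv_of_mul_eq_one_left ?_
    rw [← pow_succ, Nat.sub_add_cancel hg1, pow_card_eq_one']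
  let χ : IrrCharacter G :=
    ⟨fun g => (d.P : G → ℂ) (g ^ (Nat.card G - 1)), isIrr_comp_pow d.P.2 hm⟩
  have hχ : ∀ g, (χ : G → ℂ) g = conj ((d.P : G → ℂ) g) := fun g => by
    show (d.P : G → ℂ) (g ^ (Nat.card G - 1)) = _
    rw [hinvg, IsCharacter.apply_inv (irr_isCharacter d.P)]
  have hK : ∀ x : h.K, (χ : G → ℂ) x = (d.P : G → ℂ) x := fun x => by
    rw [hχ, ← IsCharacter.apply_inv (irr_isCharacter d.P), ← Subgroup.coe_inv, h.value_conj_inv]
  have hv : ∀ l, h.w χ l = h.w d.P l := by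
    intro l
    have e : h.v χ l = h.v d.P l := by
      rw [v_eq, v_eq]; simp only [hK]
    rw [v_eq_w, v_eq_w] at e
    exact_mod_cast e
  rcases d.eq_P_or_R hk χ hv with e | e
  · exfalso
    have h0 : (d.hP z₀).im = 0 := by
      have := (hχ z₀).symm
      rw [e] at this
      have := Complex.conj_eq_iff_im.1 this
      simp [hP, Complex.mul_im, this]
    have hhalf : d.hP z₀ = ((1 / 2 : ℚ) : ℂ) := by
      apply Complex.ext
      · rw [(d.P_real_part hk hQ hz₀).1]; simp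
      · rw [h0]; simp
    obtain ⟨a, ha⟩ := exists_int_of_isIntegral_rat (q := (1 / 2 : ℚ)) (by
      rw [← hhalf, hP]
      exact IsIntegral.mul (isIntegral_algebraMap (R := ℤ) (A := ℂ) (x := d.eP))
        (IsCharacter.isIntegral (irr_isCharacter d.P) z₀))
    have h2 : ((2 * a : ℤ) : ℚ) = ((1 : ℤ) : ℚ) := by push_cast; rw [← ha]; norm_num
    have : 2 * a = 1 := by exact_mod_cast h2
    omega
  · refine ⟨?_, fun g => by rw [← hχ, e]⟩
    obtain ⟨y, hy⟩ : ∃ y : h.K, y ≠ 1 :=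
      ⟨⟨h.t, h.htK⟩, fun e => ne_one_of_two h.ht (congrArg Subtype.val e)⟩
    have := hK y
    rw [e, d.valR hy, d.valP hy] at this
    exact_mod_cast (mul_left_inj' (Units.ne_zero _)).1 this

theorem values_U {z : G} (hz : d.InU z) :
    d.hP z * d.hR z = (h.k : ℂ) / 2 ∧ d.hR z = conj (d.hP z) ∧
      ∀ χ ∈ d.O, (χ : G → ℂ) z = (deg χ : ℂ) / (2 * (h.k : ℂ)) := by
  obtain ⟨hq, hn⟩ := d.minus_arith hk hQ
  obtain ⟨hre, -, hO, him⟩ := d.P_real_part hk hQ hz
  obtain ⟨heR, hR'⟩ := d.conj_P hk hQ z hz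
  have hconj : d.hR z = conj (d.hP z) := by rw [hR, hP, heR, hR', map_mul, map_intCast]
  -- the norm of `P - R`
  let f : G → ℂ := fun g => (d.P : G → ℂ) g - (d.R : G → ℂ) g
  have hnorm : ∑ g, f g * conj (f g) = 2 * (Nat.card G : ℂ) := by
    have hg : (Nat.card G : ℂ) ≠ 0 := natCard_ne_zero_complex
    have e := fun χ ψ : IrrCharacter G => classInner_irr (G := G) χ ψ
    have ePP := e d.P d.P
    have eRR := e d.R d.R
    have ePR := e d.P d.R
    have eRP := e d.R d.P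
    rw [if_pos rfl] at ePP eRR
    rw [if_neg d.PR] at ePR
    rw [if_neg d.PR.symm] at eRP
    rw [classInner, inv_mul_eq_iff_eq_mul₀ hg] at ePP eRR ePR eRP
    simp only [f, map_sub, sub_mul, mul_sub, Finset.sum_sub_distrib, ePP, eRR, ePR, eRP]
    ring
  have hzero : ∀ g, ¬ d.InU g → f g = 0 := by
    intro g hg
    by_cases h1 : g = 1
    · subst h1
      simp only [f, apply_one_deg, sub_eq_zero]
      have := (d.p_eq hk).1
      rw [hR_one, hP_one, p, heR] at this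
      have := mul_left_cancel₀ (signed_ne d.eP_sq (trivIrr G) |> fun h => left_ne_zero_of_mul h)
        (Int.cast_injective this : d.eP * deg d.R = d.eP * deg d.P)
      rw [this]
    by_cases h2 : h.InK g
    · obtain ⟨hg1, c, hc⟩ := h2
      simp only [f, sub_eq_zero]
      rw [← IsCharacter.conj_apply (irr_isCharacter d.P) g c,
        ← IsCharacter.conj_apply (irr_isCharacter d.R) g c]
      have hx : (⟨_, hc⟩ : h.K) ≠ 1 := fun e => hg1 (conj_eq_one_iff.1 (congrArg Subtype.val e))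
      rw [show c * g * c⁻¹ = ((⟨_, hc⟩ : h.K) : G) from rfl, d.valP hx, d.valR hx, heR]
    · have hN : N0 (h := h) g := ⟨h1, h2⟩
      have hcop : Nat.Coprime (orderOf g) d.q := by by_contra hn; exact hg ⟨hN, hn⟩
      have hp := d.pairs_W hk hN hcop
      obtain ⟨pr⟩ : Nonempty (h.Pairs g) := (Nat.card_pos_iff.1 (by rw [hp]; omega)).1
      obtain ⟨hu, hinv, -⟩ := h.pairs_inverts pr
      have e : (d.P : G → ℂ) g⁻¹ = (d.P : G → ℂ) g := by
        rw [← IsCharacter.conj_apply (irr_isCharacter d.P) g pr.1.1, inv_of_two hu, hinv]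
      simp only [f, hR', ← IsCharacter.apply_inv (irr_isCharacter d.P), e, sub_self]
  have hval : ∀ g, d.InU g → f g * conj (f g) = f z * conj (f z) := by
    intro g hg
    rcases d.inU_cover hk hQ hz hg with e | e
    · simp only [f, IsClassFunction.eq_of_isConj (irr_isClassFunction _) e]
    · simp only [f]
      rw [IsClassFunction.eq_of_isConj (irr_isClassFunction d.P) e,
        IsClassFunction.eq_of_isConj (irr_isClassFunction d.R) e,
        IsCharacter.apply_inv (irr_isCharacter d.P), IsCharacter.apply_inv (irr_isCharacter d.R)]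
      simp only [map_sub, Complex.conj_conj]
      ring
  have hsum : ∑ g, f g * conj (f g) = (4 * h.k * d.n : ℕ) * (f z * conj (f z)) := by
    rw [← d.card_U hk, Nat.card_eq_fintype_card, Fintype.card_subtype, ← nsmul_eq_mul,
      ← Finset.sum_const, ← Finset.sum_subset (Finset.subset_univ (Finset.univ.filter fun g => d.InU g))
        (fun g _ hg => by rw [hzero g (by simpa using hg), zero_mul])]
    exact Finset.sum_congr rfl fun g hg => hval g (Finset.mem_filter.1 hg).2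
  have hkn : (4 * h.k * d.n : ℕ) ≠ 0 := by
    have := d.n_odd hk
    have : d.n ≠ 0 := by omega
    have : h.k ≠ 0 := by omega
    positivity
  have hb : f z * conj (f z) = (d.q : ℂ) := by
    refine mul_left_cancel₀ (Nat.cast_ne_zero.2 hkn) ?_
    rw [← hsum, hnorm, d.card_G hk]
    push_cast; ring
  have himP : 4 * (d.hP z).im ^ 2 = (d.q : ℝ) := by
    have := congrArg Complex.re hb
    simp only [f, hR', Complex.mul_re, Complex.sub_re, Complex.sub_im, Complex.conj_re, Complex.conj_im,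
      Complex.natCast_re] at this
    have s : (d.eP : ℝ) * d.eP = 1 := by exact_mod_cast d.eP_sq
    simp only [hP, Complex.mul_im, Complex.intCast_re, Complex.intCast_im, zero_mul, add_zero]
    linear_combination this + 4 * ((d.P : G → ℂ) z).im ^ 2 * s
  have himR : (d.hR z).im = -(d.hP z).im := by rw [hconj, Complex.conj_im]
  have hO0 : ∑ χ ∈ d.O, ((χ : G → ℂ) z).im ^ 2 = 0 := by
    rw [himR, neg_sq] at him; linarith
  refine ⟨?_, hconj, fun χ hχ => ?_⟩
  · rw [hconj, Complex.mul_conj, Complex.normSq_apply]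
    have hqR : (d.q : ℝ) = 2 * (h.k : ℝ) - 1 := by
      have : ((d.q + 1 : ℕ) : ℝ) = ((2 * h.k : ℕ) : ℝ) := by rw [hq]
      push_cast at this; linarith
    rw [hre, show (1 / 2 : ℝ) * (1 / 2) + (d.hP z).im * (d.hP z).im = (h.k : ℝ) / 2 by
      nlinarith [himP]]
    push_cast; ring
  · have h0 := (Finset.sum_eq_zero_iff_of_nonneg fun χ _ => sq_nonneg _).1 hO0 χ hχ
    rw [pow_eq_zero_iff two_ne_zero] at h0
    have e : (deg χ : ℂ) / (2 * (h.k : ℂ)) = (((deg χ : ℝ) / (2 * (h.k : ℝ)) : ℝ) : ℂ) := by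
      push_cast; rfl
    rw [e, ← hO χ hχ]
    apply Complex.ext
    · simp
    · simp [h0]

/-- The number of products of two conjugates of `z^{±1}`. -/
theorem count_products {z : G} (hz : d.InU z) :
    2 * Nat.card {p : G × G // IsConj z p.1 ∧ IsConj z p.2 ∧ p.1 * p.2 = z} = h.k - 2 ∧
      2 * Nat.card {p : G × G // IsConj z p.1 ∧ IsConj z⁻¹ p.2 ∧ p.1 * p.2 = z} = h.k - 2 := by
  obtain ⟨hq, hn⟩ := d.minus_arith hk hQ
  obtain ⟨hprod, hconj, hO⟩ := d.values_U hk hQ hz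
  have hk2 : 2 ≤ h.k := by omega
  have hkC : (h.k : ℂ) ≠ 0 := Nat.cast_ne_zero.2 h.k_pos.ne'
  have hk1 : (h.k : ℂ) - 1 ≠ 0 := by
    intro e
    have : ((h.k : ℕ) : ℂ) = ((1 : ℕ) : ℂ) := by push_cast; linear_combination e
    have := Nat.cast_injective this
    omega
  have hqC : (d.q : ℂ) = 2 * (h.k : ℂ) - 1 := by
    have : ((d.q + 1 : ℕ) : ℂ) = ((2 * h.k : ℕ) : ℂ) := by rw [hq]
    push_cast at this; linear_combination this
  have hnC : (d.n : ℂ) = (h.k : ℂ) - 1 := by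
    have : ((d.n + 1 : ℕ) : ℂ) = ((h.k : ℕ) : ℂ) := by rw [hn]
    push_cast at this; linear_combination this
  have hsh : d.hS z = 0 := by rw [d.sh_cast hk, ((d.inU_iff hk z).1 hz).2, Int.cast_zero]
  have hS0 : (d.S : G → ℂ) z = 0 := by
    rw [hS] at hsh
    exact (mul_eq_zero.1 hsh).resolve_left (neg_ne_zero.2 (left_ne_zero_of_mul_eq_one d.cS))
  have hsum : d.hP z + d.hR z = 1 := by rw [d.hP_add_hR hz.1.2, hsh, add_zero]
  have hP1 : d.hP 1 = 1 - (h.k : ℂ) := by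
    have := (d.p_eq hk).2.1
    rw [hQ] at this
    have e : ((2 * d.p : ℤ) : ℂ) = ((1 + (1 - 2 * (h.k : ℤ)) : ℤ) : ℂ) := by rw [this]
    push_cast at e
    rw [hP_one]; linear_combination e / 2
  have hX1 : ∀ l ∈ d.NR, (d.eB l : ℂ) * (d.B l : G → ℂ) 1 = 2 - 2 * (h.k : ℂ) := by
    intro l hl
    have e := d.hX_one (d.mem_NR.1 hl)
    rw [hX, hQ] at e
    push_cast at e; linear_combination e
  have hXz : ∀ l ∈ d.NR, (d.eB l : ℂ) * (d.B l : G → ℂ) z = 1 := by
    intro l hl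
    have e := d.hX_of_notInK (d.mem_NR.1 hl) hz.1.2
    rwa [hsh, add_zero] at e
  have hcard : (d.NR.card : ℂ) = (h.k : ℂ) - 2 := by
    rw [← d.card_NR]; push_cast; ring
  -- a common evaluation
  have main : ∀ F : IrrCharacter G → ℂ, F (trivIrr G) = 1 → F d.S = 0 →
      F d.P + F d.R = d.hP z * d.hR z * (d.hP z + d.hR z) / d.hP 1 →
      (∀ l ∈ d.NR, F (d.B l) = 1 / (2 - 2 * (h.k : ℂ))) →
      (∀ χ ∈ d.O, F χ = (deg χ : ℂ) ^ 2 / (8 * (h.k : ℂ) ^ 3)) →
      2 * ((2 * h.k * d.n : ℕ) : ℂ) * ((2 * h.k * d.n : ℕ) : ℂ) / (Nat.card G : ℂ) * ∑ χ, F χ =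
        (h.k : ℂ) - 2 := by
    intro F f1 f2 f3 f4 f5
    have e := d.sum_all F
    rw [Finset.sum_congr rfl f4, Finset.sum_congr rfl f5, Finset.sum_const, nsmul_eq_mul, hcard, f1, f2,
      ← Finset.sum_div] at e
    have hO2 : ∑ χ ∈ d.O, (deg χ : ℂ) ^ 2 = 2 * (h.k : ℂ) ^ 2 * ((h.k : ℂ) - 2) := by
      have e1 := d.sum_all (fun χ => (deg χ : ℂ) ^ 2)
      have e2 : ∑ χ : IrrCharacter G, (deg χ : ℂ) ^ 2 = (Nat.card G : ℂ) := by
        rw [← sum_degree_sq (G := G)]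
        exact Finset.sum_congr rfl fun χ _ => by rw [apply_one_deg]
      have eS : (deg d.S : ℂ) ^ 2 = (1 - 2 * (h.k : ℂ)) ^ 2 := by
        have e : ((-(d.eS * deg d.S) : ℤ) : ℂ) = ((1 - 2 * (h.k : ℤ) : ℤ) : ℂ) := by rw [← hQ, Q]
        push_cast at e
        rw [← e]; linear_combination -(deg d.S : ℂ) ^ 2 * d.cS
      have eP : (deg d.P : ℂ) ^ 2 = (1 - (h.k : ℂ)) ^ 2 := by
        rw [← hP1, hP, apply_one_deg]; linear_combination -(deg d.P : ℂ) ^ 2 * d.cP
      have eR : (deg d.R : ℂ) ^ 2 = (1 - (h.k : ℂ)) ^ 2 := by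
        rw [← hP1, ← (d.p_eq hk).1, hR, apply_one_deg]; linear_combination -(deg d.R : ℂ) ^ 2 * d.cR
      rw [Finset.sum_congr rfl (fun l hl => show (deg (d.B l) : ℂ) ^ 2 = (2 - 2 * (h.k : ℂ)) ^ 2 by
          rw [← hX1 l hl, apply_one_deg]
          linear_combination -(deg (d.B l) : ℂ) ^ 2 * d.cB (d.mem_NR.1 hl)),
        Finset.sum_const, nsmul_eq_mul, hcard, e2, deg_triv, Int.cast_one, eS, eP, eR, d.card_G hk] at e1
      push_cast at e1
      rw [hqC, hnC] at e1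
      linear_combination -e1 / 2
    rw [hprod, hsum, hP1] at f3
    rw [add_zero, add_assoc (1 : ℂ), f3, hO2] at e
    rw [d.card_G hk]
    push_cast
    rw [hqC, hnC]
    have hq0 : 2 * (h.k : ℂ) - 1 ≠ 0 := by
      rw [← hqC]; exact Nat.cast_ne_zero.2 fun e => d.q_odd hk (e ▸ dvd_zero 2)
    have h2k : 2 - 2 * (h.k : ℂ) ≠ 0 := fun e => hk1 (by linear_combination -e / 2)
    have h1k : 1 - (h.k : ℂ) ≠ 0 := fun e => hk1 (by linear_combination -e)
    rw [show ∑ χ, F χ = (2 * ∑ χ, F χ) / 2 by ring, e]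
    field_simp
    ring
  have hcl : Nat.card {x : G // IsConj z x} = 2 * h.k * d.n := d.card_class hk hQ hz
  have hclinv : Nat.card {x : G // IsConj z⁻¹ x} = 2 * h.k * d.n := by
    rw [← hcl]
    refine Nat.card_congr (Equiv.subtypeEquiv (Equiv.inv G) fun x => ?_)
    simp only [Equiv.inv_apply]
    constructor
    · intro e
      obtain ⟨c, hc⟩ := isConj_iff.1 e
      exact isConj_iff.2 ⟨c, by rw [← hc]; group⟩
    · intro e
      obtain ⟨c, hc⟩ := isConj_iff.1 e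
      exact isConj_iff.2 ⟨c, by rw [← inv_inv x, ← hc]; group⟩
  have fin : ∀ N : ℕ, (2 : ℂ) * (N : ℂ) = (h.k : ℂ) - 2 → 2 * N = h.k - 2 := by
    intro N e
    have : ((2 * N : ℕ) : ℂ) = ((h.k - 2 : ℕ) : ℂ) := by rw [Nat.cast_sub hk2]; push_cast; exact e
    exact_mod_cast this
  have heP : (d.eP : ℂ) ≠ 0 := left_ne_zero_of_mul_eq_one d.cP
  have heR : (d.eR : ℂ) ≠ 0 := left_ne_zero_of_mul_eq_one d.cR
  have hr1 := (d.p_eq hk).1
  have hO' : ∀ χ ∈ d.O, (χ : G → ℂ) z * (χ : G → ℂ) z * conj ((χ : G → ℂ) z) / (χ : G → ℂ) 1 =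
      (deg χ : ℂ) ^ 2 / (8 * (h.k : ℂ) ^ 3) ∧
      (χ : G → ℂ) z * conj ((χ : G → ℂ) z) * conj ((χ : G → ℂ) z) / (χ : G → ℂ) 1 =
      (deg χ : ℂ) ^ 2 / (8 * (h.k : ℂ) ^ 3) := by
    intro χ hχ
    have hd : (deg χ : ℂ) ≠ 0 := Int.cast_ne_zero.2 (deg_pos χ).ne'
    rw [hO χ hχ, apply_one_deg, map_div₀, map_mul, map_intCast, map_natCast, map_ofNat]
    constructor <;> (field_simp; ring)
  have hcP : d.hP 1 = (d.eP : ℂ) * (d.P : G → ℂ) 1 := rfl
  have hX' : ∀ l ∈ d.NR, (d.B l : G → ℂ) z * (d.B l : G → ℂ) z * conj ((d.B l : G → ℂ) z) /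
      (d.B l : G → ℂ) 1 = 1 / (2 - 2 * (h.k : ℂ)) ∧
      (d.B l : G → ℂ) z * conj ((d.B l : G → ℂ) z) * conj ((d.B l : G → ℂ) z) /
      (d.B l : G → ℂ) 1 = 1 / (2 - 2 * (h.k : ℂ)) := by
    intro l hl
    have hcB := d.cB (d.mem_NR.1 hl)
    have hb : (d.B l : G → ℂ) z = (d.eB l : ℂ) := by
      linear_combination (d.eB l : ℂ) * hXz l hl - (d.B l : G → ℂ) z * hcB
    have hb1 : (d.B l : G → ℂ) 1 = (d.eB l : ℂ) * (2 - 2 * (h.k : ℂ)) := by
      linear_combination (d.eB l : ℂ) * hX1 l hl - (d.B l : G → ℂ) 1 * hcB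
    rw [hb, hb1, map_intCast, hcB, one_mul]
    constructor <;>
      rw [show (d.eB l : ℂ) = (d.eB l : ℂ) * 1 by ring, mul_one,
        div_mul_eq_div_div, div_self (left_ne_zero_of_mul_eq_one hcB)]
  refine ⟨fin _ ?_, fin _ ?_⟩
  · rw [card_class_mul, hcl]
    rw [← main (fun χ => (χ : G → ℂ) z * (χ : G → ℂ) z * conj ((χ : G → ℂ) z) / (χ : G → ℂ) 1)
      (by simp) (by simp [hS0]) ?_ (fun l hl => (hX' l hl).1) (fun χ hχ => (hO' χ hχ).1)]
    · ring
    · have eP : (d.P : G → ℂ) z * (d.P : G → ℂ) z * conj ((d.P : G → ℂ) z) / (d.P : G → ℂ) 1 =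
          d.hP z * d.hP z * conj (d.hP z) / d.hP 1 := by
        simp only [hP, map_mul, map_intCast]
        rw [show (d.eP : ℂ) * (d.P : G → ℂ) z * ((d.eP : ℂ) * (d.P : G → ℂ) z) *
          ((d.eP : ℂ) * conj ((d.P : G → ℂ) z)) = (d.eP : ℂ) * (((d.eP : ℂ) * d.eP) *
          ((d.P : G → ℂ) z * (d.P : G → ℂ) z * conj ((d.P : G → ℂ) z))) by ring, d.cP, one_mul,
          mul_div_mul_left _ _ heP]
      have eR : (d.R : G → ℂ) z * (d.R : G → ℂ) z * conj ((d.R : G → ℂ) z) / (d.R : G → ℂ) 1 =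
          d.hR z * d.hR z * conj (d.hR z) / d.hR 1 := by
        simp only [hR, map_mul, map_intCast]
        rw [show (d.eR : ℂ) * (d.R : G → ℂ) z * ((d.eR : ℂ) * (d.R : G → ℂ) z) *
          ((d.eR : ℂ) * conj ((d.R : G → ℂ) z)) = (d.eR : ℂ) * (((d.eR : ℂ) * d.eR) *
          ((d.R : G → ℂ) z * (d.R : G → ℂ) z * conj ((d.R : G → ℂ) z))) by ring, d.cR, one_mul,
          mul_div_mul_left _ _ heR]
      rw [eP, eR, hr1, hconj, Complex.conj_conj]
      ring
  · rw [card_class_mul, hcl, hclinv]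
    rw [← main (fun χ => (χ : G → ℂ) z * conj ((χ : G → ℂ) z) * conj ((χ : G → ℂ) z) / (χ : G → ℂ) 1)
      (by simp) (by simp [hS0]) ?_ (fun l hl => (hX' l hl).2) (fun χ hχ => (hO' χ hχ).2)]
    · simp only [IsCharacter.apply_inv (irr_isCharacter _)]
      ring
    · have eP : (d.P : G → ℂ) z * conj ((d.P : G → ℂ) z) * conj ((d.P : G → ℂ) z) / (d.P : G → ℂ) 1 =
          d.hP z * conj (d.hP z) * conj (d.hP z) / d.hP 1 := by
        simp only [hP, map_mul, map_intCast]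
        rw [show (d.eP : ℂ) * (d.P : G → ℂ) z * ((d.eP : ℂ) * conj ((d.P : G → ℂ) z)) *
          ((d.eP : ℂ) * conj ((d.P : G → ℂ) z)) = (d.eP : ℂ) * (((d.eP : ℂ) * d.eP) *
          ((d.P : G → ℂ) z * conj ((d.P : G → ℂ) z) * conj ((d.P : G → ℂ) z))) by ring, d.cP, one_mul,
          mul_div_mul_left _ _ heP]
      have eR : (d.R : G → ℂ) z * conj ((d.R : G → ℂ) z) * conj ((d.R : G → ℂ) z) / (d.R : G → ℂ) 1 =
          d.hR z * conj (d.hR z) * conj (d.hR z) / d.hR 1 := by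
        simp only [hR, map_mul, map_intCast]
        rw [show (d.eR : ℂ) * (d.R : G → ℂ) z * ((d.eR : ℂ) * conj ((d.R : G → ℂ) z)) *
          ((d.eR : ℂ) * conj ((d.R : G → ℂ) z)) = (d.eR : ℂ) * (((d.eR : ℂ) * d.eR) *
          ((d.R : G → ℂ) z * conj ((d.R : G → ℂ) z) * conj ((d.R : G → ℂ) z))) by ring, d.cR, one_mul,
          mul_div_mul_left _ _ heR]
      rw [eP, eR, hr1, hconj, Complex.conj_conj]
      ring

/-- The centraliser of an element of `U` is abelian. -/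
theorem abelian_minus {z : G} (hz : d.InU z) :
    ∀ a ∈ Subgroup.centralizer ({z} : Set G), ∀ b ∈ Subgroup.centralizer ({z} : Set G), a * b = b * a := by
  obtain ⟨hq, hn⟩ := d.minus_arith hk hQ
  set Q := Subgroup.centralizer ({z} : Set G) with hQdef
  have hzQ : z ∈ Q := Subgroup.mem_centralizer_singleton_iff.2 rfl
  have hcardQ : Nat.card Q = d.q := d.card_C_U hk hz
  have hU : ∀ x ∈ Q, x ≠ 1 → d.InU x := fun x hx hx1 =>
    d.inU_of_pow hk hx1 (hcardQ ▸ Q.orderOf_dvd_natCard hx)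
  -- half of `Q#` lies in the class of `z`
  set A := Finset.univ.filter fun x => x ∈ Q ∧ IsConj z x with hA
  have hAcard : 2 * A.card + 1 = d.q := by
    have hunion : A ∪ A.image (fun x => x⁻¹) = (Finset.univ.filter fun x => x ∈ Q).erase 1 := by
      ext x
      simp only [hA, Finset.mem_union, Finset.mem_filter, Finset.mem_univ, true_and, Finset.mem_image,
        Finset.mem_erase]
      constructor
      · rintro (⟨h1, h2⟩ | ⟨y, ⟨h1, h2⟩, rfl⟩)
        · exact ⟨fun e => hz.1.1 (by rw [e] at h2; exact isConj_one_left.1 h2), h1⟩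
        · exact ⟨fun e => hz.1.1 (by rw [inv_eq_one.1 e] at h2; exact isConj_one_left.1 h2), Q.inv_mem h1⟩
      · rintro ⟨h1, h2⟩
        rcases d.inU_cover hk hQ hz (hU x h2 h1) with e | e
        · exact Or.inl ⟨h2, e⟩
        · exact Or.inr ⟨x⁻¹, ⟨Q.inv_mem h2, e⟩, inv_inv x⟩
    have hdis : Disjoint A (A.image fun x => x⁻¹) := by
      rw [Finset.disjoint_left]
      intro y hy hy'
      obtain ⟨w, hw, rfl⟩ := Finset.mem_image.1 hy'
      simp only [hA, Finset.mem_filter, Finset.mem_univ, true_and] at hy hw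
      obtain ⟨c, hc⟩ := isConj_iff.1 hw.2
      refine d.not_conj_inv hk hQ hz (hy.2.trans (isConj_iff.2 ⟨c⁻¹, ?_⟩))
      rw [← hc]; group
    have := congrArg Finset.card hunion
    rw [Finset.card_union_of_disjoint hdis, Finset.card_image_of_injective _ inv_injective,
      Finset.card_erase_of_mem (by simp), show (Finset.univ.filter fun x => x ∈ Q).card = d.q by
        rw [← Fintype.card_subtype, ← Nat.card_eq_fintype_card]; exact hcardQ] at this
    omega
  obtain ⟨hN1, hN2⟩ := d.count_products hk hQ hz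
  set S1 := {p : G × G // IsConj z p.1 ∧ IsConj z p.2 ∧ p.1 * p.2 = z}
  set S2 := {p : G × G // IsConj z p.1 ∧ IsConj z⁻¹ p.2 ∧ p.1 * p.2 = z}
  -- all these products are inside `Q`
  have hinside : (∀ p : S1, p.1.1 ∈ Q) ∧ ∀ p : S2, p.1.1 ∈ Q := by
    have hcls : ∀ x : {x // x ∈ A.erase z},
        IsConj z x.1 ∧ (IsConj z (x.1⁻¹ * z) ∨ IsConj z⁻¹ (x.1⁻¹ * z)) := by
      intro x
      have hx := Finset.mem_erase.1 x.2
      have hxA := (Finset.mem_filter.1 hx.2).2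
      refine ⟨hxA.2, ?_⟩
      rcases d.inU_cover hk hQ hz (hU _ (Q.mul_mem (Q.inv_mem hxA.1) hzQ)
        fun e => hx.1 (inv_mul_eq_one.1 e)) with e | e
      · exact Or.inl e
      · refine Or.inr ?_
        obtain ⟨c, hc⟩ := isConj_iff.1 e
        exact isConj_iff.2 ⟨c, by rw [← inv_inv (x.1⁻¹ * z), ← hc]; group⟩
    let f : {x // x ∈ A.erase z} → {s : S1 ⊕ S2 // Sum.elim (fun p => p.1.1) (fun p => p.1.1) s ∈ Q} :=
      fun x => if e : IsConj z (x.1⁻¹ * z)
        then ⟨Sum.inl ⟨(x.1, x.1⁻¹ * z), (hcls x).1, e, mul_inv_cancel_left _ _⟩,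
          (Finset.mem_filter.1 (Finset.mem_erase.1 x.2).2).2.1⟩
        else ⟨Sum.inr ⟨(x.1, x.1⁻¹ * z), (hcls x).1, (hcls x).2.resolve_left e, mul_inv_cancel_left _ _⟩,
          (Finset.mem_filter.1 (Finset.mem_erase.1 x.2).2).2.1⟩
    have hfval : ∀ x, Sum.elim (fun p : S1 => p.1.1) (fun p : S2 => p.1.1) (f x).1 = x.1 := by
      intro x; simp only [f]; split_ifs <;> rfl
    have hf : Function.Injective f := fun a b e => Subtype.ext (by rw [← hfval a, ← hfval b, e])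
    have hle := Nat.card_le_card_of_injective f hf
    rw [Nat.card_eq_fintype_card, Fintype.card_coe,
      Finset.card_erase_of_mem (Finset.mem_filter.2 ⟨Finset.mem_univ _, hzQ, IsConj.refl z⟩)] at hle
    have hfull : ∀ s : S1 ⊕ S2, Sum.elim (fun p => p.1.1) (fun p => p.1.1) s ∈ Q := by
      by_contra hn
      push Not at hn
      obtain ⟨s, hs⟩ := hn
      have hlt : Nat.card {s : S1 ⊕ S2 // Sum.elim (fun p => p.1.1) (fun p => p.1.1) s ∈ Q} <
          Nat.card (S1 ⊕ S2) :=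
        Finite.card_subtype_lt hs
      rw [Nat.card_sum] at hlt
      change A.card - 1 ≤ _ at hle
      have hN1' : 2 * Nat.card S1 = h.k - 2 := hN1
      have hN2' : 2 * Nat.card S2 = h.k - 2 := hN2
      omega
    exact ⟨fun p => hfull (Sum.inl p), fun p => hfull (Sum.inr p)⟩
  -- so products inside the class commute
  have hcomm : ∀ u v : G, IsConj z u → (IsConj z v ∨ IsConj z⁻¹ v) → IsConj z (u * v) → u * v = v * u := by
    intro u v hu hv huv
    obtain ⟨c, hc⟩ := isConj_iff.1 huv.symm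
    have hu' : IsConj z (c * u * c⁻¹) := hu.trans (isConj_iff.2 ⟨c, rfl⟩)
    have hprod : c * u * c⁻¹ * (c * v * c⁻¹) = z := by rw [← hc]; group
    have hm : c * u * c⁻¹ ∈ Q := by
      rcases hv with hv | hv
      · exact hinside.1 ⟨(c * u * c⁻¹, c * v * c⁻¹), hu', hv.trans (isConj_iff.2 ⟨c, rfl⟩), hprod⟩
      · exact hinside.2 ⟨(c * u * c⁻¹, c * v * c⁻¹), hu', hv.trans (isConj_iff.2 ⟨c, rfl⟩), hprod⟩
    have e := Subgroup.mem_centralizer_singleton_iff.1 hm
    rw [← hprod] at e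
    have e2 : c * u * c⁻¹ * (c * v * c⁻¹) = c * v * c⁻¹ * (c * u * c⁻¹) := by
      rw [mul_assoc (c * u * c⁻¹) (c * v * c⁻¹)] at e
      exact mul_left_cancel e
    have e3 := congrArg (fun w => c⁻¹ * w * c) e2
    simpa [mul_assoc] using e3
  have hAA : ∀ x ∈ A, ∀ y ∈ A, x * y = y * x := by
    intro x hx y hy
    simp only [hA, Finset.mem_filter, Finset.mem_univ, true_and] at hx hy
    by_cases e : x = y
    · rw [e]
    have hw : d.InU (x⁻¹ * y) :=
      hU _ (Q.mul_mem (Q.inv_mem hx.1) hy.1) fun e' => e (inv_mul_eq_one.1 e')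
    have hv : IsConj z (x⁻¹ * y) ∨ IsConj z⁻¹ (x⁻¹ * y) := by
      rcases d.inU_cover hk hQ hz hw with e' | e'
      · exact Or.inl e'
      · obtain ⟨c, hc⟩ := isConj_iff.1 e'
        exact Or.inr (isConj_iff.2 ⟨c, by rw [← inv_inv (x⁻¹ * y), ← hc]; group⟩)
    have e1 := hcomm x (x⁻¹ * y) hx.2 hv (by rw [mul_inv_cancel_left]; exact hy.2)
    rw [mul_inv_cancel_left] at e1
    calc x * y = x * (x⁻¹ * y * x) := by rw [← e1]
      _ = y * x := by group
  intro a ha b hb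
  by_cases ha1 : a = 1
  · simp [ha1]
  by_cases hb1 : b = 1
  · simp [hb1]
  have key : ∀ x ∈ Q, x ≠ 1 → x ∈ A ∨ x⁻¹ ∈ A := by
    intro x hx hx1
    rcases d.inU_cover hk hQ hz (hU x hx hx1) with e | e
    · exact Or.inl (Finset.mem_filter.2 ⟨Finset.mem_univ _, hx, e⟩)
    · exact Or.inr (Finset.mem_filter.2 ⟨Finset.mem_univ _, Q.inv_mem hx, e⟩)
  rcases key a ha ha1 with e1 | e1 <;> rcases key b hb hb1 with e2 | e2
  · exact hAA a e1 b e2
  · have := (Commute.inv_right (hAA a e1 _ e2 : Commute a b⁻¹)).eq; rwa [inv_inv] at this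
  · have := (Commute.inv_left (hAA _ e1 b e2 : Commute a⁻¹ b)).eq; rwa [inv_inv] at this
  · have := (Commute.inv_inv (hAA _ e1 _ e2 : Commute a⁻¹ b⁻¹)).eq; rwa [inv_inv, inv_inv] at this

end Conf.Std

end Cfsg.Agent.Lib.Characters.BSW
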