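import Cfsg.Agent.Lib.Characters.BSW.Classes

/-!
# Abstract Brauer–Suzuki–Wall configuration: the case `q = 2k + 1`
-/

set_option autoImplicit false
set_option linter.style.haveILetI false
set_option linter.unusedSectionVars false

namespace Cfsg.Agent.Lib.Characters.BSW

open Cfsg Cfsg.Agent.Lib.Characters

universe u

variable {G : Type u} [Group G]

/-- The conclusion of the theorem. -/
def Conf.Concl (_ : Conf G) : Prop :=
  ∃ Q D : Subgroup G, 2 * Nat.card G = Nat.card ↥Q * (Nat.card ↥Q + 1) * (Nat.card ↥Q - 1) ∧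
    (∀ x ∈ Q, x ≠ 1 → Subgroup.centralizer ({x} : Set G) = Q) ∧
    IsMulCommutative ↥D ∧ 2 * Nat.card ↥D + 1 = Nat.card ↥Q ∧ Q ⊓ D = ⊥ ∧
    Subgroup.normalizer (Q : Set G) = Q ⊔ D ∧
    ∀ X : Subgroup G, X ≤ D → X ≠ ⊥ →
      Subgroup.normalizer (X : Set G) = Subgroup.normalizer (D : Set G) ∧
      ∃ u : G, orderOf u = 2 ∧ u ∉ D ∧ (∀ d ∈ D, u * d * u⁻¹ = d⁻¹) ∧
        Subgroup.normalizer (D : Set G) = D ⊔ Subgroup.zpowers u

/-- The conclusion with `D = K`. -/
theorem Conf.concl_K [Finite G] (h : Conf G) (Q : Subgroup G) (hQ : Nat.card Q = 2 * h.k + 1)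
    (hg : Nat.card G = 2 * h.k * (2 * h.k + 1) * (h.k + 1))
    (hC : ∀ x ∈ Q, x ≠ 1 → Subgroup.centralizer ({x} : Set G) = Q)
    (hN : Subgroup.normalizer (Q : Set G) = Q ⊔ h.K) : h.Concl := by
  refine ⟨Q, h.K, ?_, hC, h.ab, by rw [hQ]; rfl, ?_, hN, fun X hX hX1 => ?_⟩
  · rw [hQ, hg, show 2 * h.k + 1 - 1 = 2 * h.k by omega]; ring
  · refine Subgroup.inf_eq_bot_of_coprime ?_
    rw [hQ, show Nat.card h.K = h.k from rfl]
    simp [Nat.coprime_comm]
  · rw [h.normalizer_sub hX hX1, h.normalizer_sub le_rfl h.K_ne_bot]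
    exact ⟨rfl, h.s, h.hs, h.hsK, h.hinv, h.hH.symm⟩

namespace Conf.Std

variable {h : Conf G} [Finite G] [Fintype G] [Fintype (IrrCharacter G)] (d : h.Std) (hk : 4 ≤ h.k)

include hk

theorem inU_of_pow {x : G} (hx : x ≠ 1) (hq : orderOf x ∣ d.q) : d.InU x := by
  refine ⟨d.N0_of_coprime hk hx ((d.cop_q_2k hk).coprime_dvd_left hq), fun e => hx ?_⟩
  exact orderOf_eq_one_iff.1 (Nat.eq_one_of_dvd_coprimes e dvd_rfl hq)

/-- An abelian centraliser is the centraliser of each of its nontrivial elements. -/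
theorem centralizer_eq {z : G} (hz : d.InU z)
    (hab : ∀ a ∈ Subgroup.centralizer ({z} : Set G), ∀ b ∈ Subgroup.centralizer ({z} : Set G), a * b = b * a)
    {x : G} (hx : x ∈ Subgroup.centralizer ({z} : Set G)) (hx1 : x ≠ 1) :
    Subgroup.centralizer ({x} : Set G) = Subgroup.centralizer ({z} : Set G) := by
  refine (Subgroup.eq_of_le_of_card_ge (fun a ha => ?_) ?_).symm
  · exact Subgroup.mem_centralizer_singleton_iff.2 (hab a ha x hx)
  · have hxq : orderOf x ∣ d.q := d.card_C_U hk hz ▸ Subgroup.orderOf_dvd_natCard _ hx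
    rw [d.card_C_U hk hz, d.card_C_U hk (d.inU_of_pow hk hx1 hxq)]

omit hk in
theorem conj_centralizer (c z a : G) :
    c * a * c⁻¹ ∈ Subgroup.centralizer ({c * z * c⁻¹} : Set G) ↔ a ∈ Subgroup.centralizer ({z} : Set G) := by
  rw [Subgroup.mem_centralizer_singleton_iff, Subgroup.mem_centralizer_singleton_iff]
  have e1 : c * a * c⁻¹ * (c * z * c⁻¹) = c * (a * z) * c⁻¹ := by group
  have e2 : c * z * c⁻¹ * (c * a * c⁻¹) = c * (z * a) * c⁻¹ := by group
  rw [e1, e2, mul_left_inj, mul_right_inj]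

omit hk in
/-- Conjugates of `Q` meet trivially. -/
theorem conj_sameCoset {Q : Subgroup G} (hC : ∀ x ∈ Q, x ≠ 1 → Subgroup.centralizer ({x} : Set G) = Q)
    {x y c : G} (hx : x ∈ Q) (hx1 : x ≠ 1) (hy : y ∈ Q) (he : c * x * c⁻¹ = y) :
    c ∈ Subgroup.normalizer (Q : Set G) := by
  have hy1 : y ≠ 1 := fun e => hx1 (conj_eq_one_iff.1 (he.trans e))
  rw [Subgroup.mem_normalizer_iff]
  intro a
  show a ∈ Q ↔ c * a * c⁻¹ ∈ Q
  conv_rhs => rw [← hC y hy hy1, ← he, conj_centralizer, hC x hx hx1]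

/-- The conjugates of `Q#` in `U`. -/
theorem exists_conj_map {Q : Subgroup G} (hQU : ∀ x ∈ Q, x ≠ 1 → d.InU x)
    (hC : ∀ x ∈ Q, x ≠ 1 → Subgroup.centralizer ({x} : Set G) = Q) :
    ∃ f : (G ⧸ Subgroup.normalizer (Q : Set G)) × {x : Q // x ≠ 1} → {z : G // d.InU z},
      Function.Injective f ∧ ∀ (c : G) (x : Q) (hx : x ≠ 1), ∃ p, (f p : G) = c * x * c⁻¹ := by
  have hne : ∀ x : Q, x ≠ 1 → (x : G) ≠ 1 := fun x hx e => hx (Subtype.ext e)
  refine ⟨fun p => ⟨p.1.out * (p.2.1 : G) * p.1.out⁻¹,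
    d.inU_conj hk (hQU _ p.2.1.2 (hne _ p.2.2)) _⟩, ?_, ?_⟩
  · rintro ⟨a, ⟨x, hx⟩⟩ ⟨b, ⟨y, hy⟩⟩ e
    have e1 : a.out * (x : G) * a.out⁻¹ = b.out * (y : G) * b.out⁻¹ := congrArg Subtype.val e
    have hab : a = b := by
      rw [← QuotientGroup.out_eq' a, ← QuotientGroup.out_eq' b, QuotientGroup.eq]
      have hm : b.out⁻¹ * a.out ∈ Subgroup.normalizer (Q : Set G) := by
        refine conj_sameCoset hC x.2 (hne _ hx) y.2 ?_
        calc b.out⁻¹ * a.out * x * (b.out⁻¹ * a.out)⁻¹ = b.out⁻¹ * (a.out * x * a.out⁻¹) * b.out := by group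
          _ = y := by rw [e1]; group
      simpa using Subgroup.inv_mem _ hm
    subst hab
    refine Prod.ext rfl (Subtype.ext (Subtype.ext ?_))
    exact mul_left_cancel (mul_right_cancel e1)
  · intro c x hx
    obtain ⟨⟨a, ha⟩, he⟩ := QuotientGroup.mk_out_eq_mul (Subgroup.normalizer (Q : Set G)) c
    have hxa : a⁻¹ * (x : G) * a ∈ Q := by
      have := (Subgroup.mem_normalizer_iff.1 (Subgroup.inv_mem _ ha) (x : G)).1 x.2
      simpa using this
    refine ⟨((c : G ⧸ Subgroup.normalizer (Q : Set G)), ⟨⟨_, hxa⟩, fun e => hne _ hx ?_⟩), ?_⟩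
    · have := congrArg Subtype.val e
      simp only [OneMemClass.coe_one] at this
      calc (x : G) = a * (a⁻¹ * x * a) * a⁻¹ := by group
        _ = 1 := by rw [this, mul_one, mul_inv_cancel]
    · simp only [he]; group

omit hk in
theorem card_ne_one (Q : Subgroup G) : Nat.card {x : Q // x ≠ 1} = Nat.card Q - 1 := by
  classical
  haveI := Fintype.ofFinite Q
  rw [Nat.card_eq_fintype_card, Fintype.card_subtype_compl, Fintype.card_subtype_eq,
    ← Nat.card_eq_fintype_card]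

/-- The case `q = 2k + 1`. -/
theorem concl_plus (hQ : d.Q = 2 * h.k + 1) : h.Concl := by
  classical
  have hn : d.n = h.k + 1 ∧ d.q = 2 * h.k + 1 := by
    rcases d.cases' hk with ⟨-, b, c⟩ | ⟨a, -, -⟩
    · exact ⟨c, b⟩
    · omega
  have hqpos : 0 < d.q := by omega
  obtain ⟨⟨z, hz⟩⟩ : Nonempty {z : G // d.InU z} := by
    refine (Nat.card_pos_iff.1 ?_).1
    rw [d.card_U hk, hn.1]
    have := h.k_pos
    positivity
  obtain ⟨-, hab, u, hu, huinv⟩ := h.abelian_of_pairs hqpos (d.pairs_U_plus hk hz hQ) (d.card_C_U hk hz).le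
  obtain ⟨c, hc⟩ := isConj_iff.1 (h.hconj _ _ hu h.ht)
  set z' := c * z * c⁻¹ with hz'def
  have hz' : d.InU z' := d.inU_conj hk hz c
  set Q := Subgroup.centralizer ({z'} : Set G) with hQdef
  have hmem : ∀ a ∈ Q, ∃ b ∈ Subgroup.centralizer ({z} : Set G), a = c * b * c⁻¹ := fun a ha =>
    ⟨c⁻¹ * a * c, (conj_centralizer c z _).1 (by
      rwa [show c * (c⁻¹ * a * c) * c⁻¹ = a by group]), by group⟩
  have hab' : ∀ a ∈ Q, ∀ b ∈ Q, a * b = b * a := by
    intro a ha b hb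
    obtain ⟨a', ha', rfl⟩ := hmem a ha
    obtain ⟨b', hb', rfl⟩ := hmem b hb
    rw [show c * a' * c⁻¹ * (c * b' * c⁻¹) = c * (a' * b') * c⁻¹ by group, hab a' ha' b' hb']
    group
  have htinv : ∀ a ∈ Q, h.t * a * h.t⁻¹ = a⁻¹ := by
    intro a ha
    obtain ⟨a', ha', rfl⟩ := hmem a ha
    rw [← hc, show c * u * c⁻¹ * (c * a' * c⁻¹) * (c * u * c⁻¹)⁻¹ = c * (u * a' * u⁻¹) * c⁻¹ by group,
      huinv a' ha']
    group
  have hcard : Nat.card Q = d.q := d.card_C_U hk hz'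
  have hC : ∀ x ∈ Q, x ≠ 1 → Subgroup.centralizer ({x} : Set G) = Q := fun x hx hx1 =>
    d.centralizer_eq hk hz' hab' hx hx1
  have hQU : ∀ x ∈ Q, x ≠ 1 → d.InU x := fun x hx hx1 =>
    d.inU_of_pow hk hx1 (hcard ▸ Q.orderOf_dvd_natCard hx)
  have hcopt : ∀ x ∈ Q, Commute x h.t → x = 1 := by
    intro x hx he
    refine orderOf_eq_one_iff.1 (Nat.eq_one_of_dvd_coprimes (d.cop_q_2k hk) (hcard ▸ Q.orderOf_dvd_natCard hx) ?_)
    rw [← h.card_H]
    exact Subgroup.orderOf_dvd_natCard _ (Subgroup.mem_centralizer_singleton_iff.2 he.eq)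
  have htN : h.t ∈ Subgroup.normalizer (Q : Set G) := by
    rw [Subgroup.mem_normalizer_iff]
    intro a
    refine ⟨fun ha => by rw [htinv a ha]; exact Q.inv_mem ha, fun ha => ?_⟩
    have e : a = h.t * (h.t * a * h.t⁻¹) * h.t⁻¹ := by
      rw [inv_of_two h.ht]
      calc a = (h.t * h.t) * a * (h.t * h.t) := by rw [mul_self_of_two h.ht, one_mul, mul_one]
        _ = _ := by group
    rw [e, htinv _ ha]; exact Q.inv_mem ha
  -- involutions normalising `Q`
  have hinvol : ∀ v ∈ Subgroup.normalizer (Q : Set G), orderOf v = 2 → v * h.t ∈ Q := by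
    intro v hvN hv
    have hvv := mul_self_of_two hv
    have hfix : ∀ b ∈ Q, Commute b v → b = 1 := by
      intro b hb he
      refine orderOf_eq_one_iff.1 (Nat.eq_one_of_dvd_coprimes (d.cop_q_2k hk)
        (hcard ▸ Q.orderOf_dvd_natCard hb) ?_)
      rw [← h.card_H]
      obtain ⟨e', hec⟩ := isConj_iff.1 (h.hconj _ _ hv h.ht)
      have ho : orderOf (e' * b * e'⁻¹) = orderOf b := (MulAut.conj e').orderOf_eq b
      rw [← ho]
      refine Subgroup.orderOf_dvd_natCard _ ?_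
      rw [← hec]
      exact (conj_centralizer e' v b).2 (Subgroup.mem_centralizer_singleton_iff.2 he.eq)
    have hva : ∀ a ∈ Q, v * a * v⁻¹ = a⁻¹ := by
      intro a ha
      have hb : v * a * v⁻¹ ∈ Q := (Subgroup.mem_normalizer_iff.1 hvN a).1 ha
      refine (inv_eq_of_mul_eq_one_right (hfix _ (Q.mul_mem ha hb) ?_)).symm
      show a * (v * a * v⁻¹) * v = v * (a * (v * a * v⁻¹))
      rw [inv_of_two hv] at hb ⊢
      calc a * (v * a * v) * v = a * (v * a) * (v * v) := by group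
        _ = (v * v) * a * (v * a) := by rw [hvv, mul_one, one_mul]
        _ = v * ((v * a * v) * a) := by group
        _ = v * (a * (v * a * v)) := by rw [hab' _ hb a ha]
    have hzz : z' ∈ Q := Subgroup.mem_centralizer_singleton_iff.2 rfl
    rw [hQdef, Subgroup.mem_centralizer_singleton_iff]
    rw [← mul_inv_eq_iff_eq_mul]
    calc v * h.t * z' * (v * h.t)⁻¹ = v * (h.t * z' * h.t⁻¹) * v⁻¹ := by group
      _ = z' := by rw [htinv _ hzz, hva _ (Q.inv_mem hzz), inv_inv]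
  have hNK : ∀ e ∈ Subgroup.normalizer (Q : Set G),
      e ∈ Subgroup.centralizer ({h.t} : Set G) → e ∈ h.K := by
    intro e heN het
    by_contra hK
    obtain ⟨a, ha, rfl⟩ := h.exists_as het hK
    have h2 := h.as_two ha
    have het' : Commute (a * h.s) h.t := Subgroup.mem_centralizer_singleton_iff.1 het
    have e1 := hcopt _ (hinvol _ heN h2) (het'.mul_left (Commute.refl _))
    refine hK ?_
    rw [eq_inv_of_mul_eq_one_left e1, inv_of_two h.ht]
    exact h.htK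
  have hdec : ∀ g ∈ Subgroup.normalizer (Q : Set G), ∃ y ∈ Q, ∃ e,
      e ∈ Subgroup.normalizer (Q : Set G) ⊓ h.K ∧ g = y * e := by
    intro g hg
    have hv2 : orderOf (g * h.t * g⁻¹) = 2 := ((MulAut.conj g).orderOf_eq h.t).trans h.ht
    have hvN : g * h.t * g⁻¹ ∈ Subgroup.normalizer (Q : Set G) :=
      Subgroup.mul_mem _ (Subgroup.mul_mem _ hg htN) (Subgroup.inv_mem _ hg)
    have hx := hinvol _ hvN hv2
    set x := g * h.t * g⁻¹ * h.t with hxdef
    set y := x ^ ((d.q + 1) / 2) with hydef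
    have hyQ : y ∈ Q := Q.pow_mem hx _
    have hyy : y * y = x := by
      rw [hydef, ← pow_add, show (d.q + 1) / 2 + (d.q + 1) / 2 = d.q + 1 by omega, pow_succ,
        orderOf_dvd_iff_pow_eq_one.1 (hcard ▸ Q.orderOf_dvd_natCard hx), one_mul]
    have hty : y * h.t * y⁻¹ = g * h.t * g⁻¹ := by
      have e1 : h.t * y⁻¹ = y * h.t := by
        rw [← htinv y hyQ]
        rw [inv_of_two h.ht]
        calc h.t * (h.t * y * h.t) = (h.t * h.t) * y * h.t := by group
          _ = y * h.t := by rw [mul_self_of_two h.ht, one_mul]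
      rw [mul_assoc, e1, ← mul_assoc, hyy, hxdef, mul_assoc _ h.t h.t, mul_self_of_two h.ht, mul_one]
    have hyN : y ∈ Subgroup.normalizer (Q : Set G) := Subgroup.le_normalizer hyQ
    refine ⟨y, hyQ, y⁻¹ * g, ⟨Subgroup.mul_mem _ (Subgroup.inv_mem _ hyN) hg,
      hNK _ (Subgroup.mul_mem _ (Subgroup.inv_mem _ hyN) hg) ?_⟩, by group⟩
    rw [Subgroup.mem_centralizer_singleton_iff, ← mul_inv_eq_iff_eq_mul]
    calc y⁻¹ * g * h.t * (y⁻¹ * g)⁻¹ = y⁻¹ * (g * h.t * g⁻¹) * y := by group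
      _ = h.t := by rw [← hty]; group
  -- counting
  obtain ⟨f, hf, -⟩ := d.exists_conj_map hk hQU hC
  have hle := Nat.card_le_card_of_injective f hf
  rw [Nat.card_prod, card_ne_one, hcard, d.card_U hk, hn.1, hn.2, Nat.add_sub_cancel] at hle
  set N := Subgroup.normalizer (Q : Set G) with hNdef
  have hG : Nat.card (G ⧸ N) * Nat.card N = Nat.card G := (N.card_eq_card_quotient_mul_card_subgroup).symm
  rw [d.card_G hk, hn.1, hn.2] at hG
  have hcN : Nat.card N ≤ d.q * Nat.card (N ⊓ h.K : Subgroup G) := by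
    rw [← hcard, ← Nat.card_prod]
    refine Nat.card_le_card_of_surjective (fun p => ⟨(p.1 : G) * p.2,
      N.mul_mem (Subgroup.le_normalizer p.1.2) p.2.2.1⟩) ?_
    rintro ⟨g, hg⟩
    obtain ⟨y, hy, e, he, rfl⟩ := hdec g hg
    exact ⟨(⟨y, hy⟩, ⟨e, he⟩), rfl⟩
  have hKN : h.K ≤ N := by
    have hkk : Nat.card h.K = h.k := rfl
    have h1 : Nat.card (G ⧸ N) ≤ 2 * (h.k + 1) := by
      refine Nat.le_of_mul_le_mul_right ?_ (show 0 < 2 * h.k by omega)
      linarith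
    have h2 : (2 * h.k + 1) * h.k ≤ Nat.card N := by
      refine Nat.le_of_mul_le_mul_left ?_ (show 0 < 2 * (h.k + 1) by omega)
      calc 2 * (h.k + 1) * ((2 * h.k + 1) * h.k) = Nat.card (G ⧸ N) * Nat.card N := by rw [hG]; ring
        _ ≤ _ := Nat.mul_le_mul_right _ h1
    have h3 : h.k ≤ Nat.card (N ⊓ h.K : Subgroup G) := by
      refine Nat.le_of_mul_le_mul_left ?_ (show 0 < 2 * h.k + 1 by omega)
      rw [← hn.2] at h2 ⊢
      exact h2.trans hcN
    exact inf_eq_right.1 (Subgroup.eq_of_le_of_card_ge inf_le_right (by rw [hkk]; exact h3))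
  refine h.concl_K Q (hcard.trans hn.2) (by rw [d.card_G hk, hn.1, hn.2]) hC ?_
  refine le_antisymm (fun g hg => ?_) (sup_le Subgroup.le_normalizer hKN)
  obtain ⟨y, hy, e, he, rfl⟩ := hdec g hg
  exact Subgroup.mul_mem_sup hy he.2

end Conf.Std

end Cfsg.Agent.Lib.Characters.BSW
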