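import Cfsg.Agent.Lib.Characters
import Cfsg.Agent.Lib.Characters.Values
import Mathlib.GroupTheory.FiniteAbelian.Duality
import Mathlib.RingTheory.RootsOfUnity.AlgebraicallyClosed
import Mathlib.Analysis.Complex.Polynomial.Basic

/-!
# Abstract Brauer–Suzuki–Wall configuration: group facts and the vectors of multiplicities
-/

set_option autoImplicit false
set_option linter.style.haveILetI false
set_option linter.unusedSectionVars false

namespace Cfsg.Agent.Lib.Characters.BSW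

open Cfsg Cfsg.Agent.Lib.Characters
open scoped ComplexConjugate IsMulCommutative Classical

universe u

/-- The configuration. -/
structure Conf (G : Type u) [Group G] where
  t : G
  K : Subgroup G
  s : G
  ht : orderOf t = 2
  ab : IsMulCommutative K
  hKH : K ≤ Subgroup.centralizer ({t} : Set G)
  htK : t ∈ K
  hs : orderOf s = 2
  hsH : s ∈ Subgroup.centralizer ({t} : Set G)
  hsK : s ∉ K
  hH : K ⊔ Subgroup.zpowers s = Subgroup.centralizer ({t} : Set G)
  hCK : K ⊓ Subgroup.centralizer ({s} : Set G) = Subgroup.zpowers t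
  hinv : ∀ x ∈ K, s * x * s⁻¹ = x⁻¹
  hTI : ∀ g : G, g ∉ Subgroup.centralizer ({t} : Set G) → K ⊓ K.map (MulAut.conj g).toMonoidHom = ⊥
  hconj : ∀ x y : G, orderOf x = 2 → orderOf y = 2 → IsConj x y

variable {G : Type u} [Group G]

theorem orderOf_two {a : G} (h : a * a = 1) (h1 : a ≠ 1) : orderOf a = 2 :=
  orderOf_eq_prime (by rw [pow_two]; exact h) h1

theorem mul_self_of_two {a : G} (h : orderOf a = 2) : a * a = 1 := by
  rw [← pow_two, ← h]; exact pow_orderOf_eq_one a

theorem ne_one_of_two {a : G} (h : orderOf a = 2) : a ≠ 1 := by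
  rintro rfl; rw [orderOf_one] at h; norm_num at h

theorem inv_of_two {a : G} (h : orderOf a = 2) : a⁻¹ = a :=
  inv_eq_of_mul_eq_one_right (mul_self_of_two h)

namespace Conf

variable (h : Conf G)

theorem comm {a b : G} (ha : a ∈ h.K) (hb : b ∈ h.K) : a * b = b * a := by
  haveI := h.ab
  exact congrArg Subtype.val (mul_comm' (⟨a, ha⟩ : h.K) ⟨b, hb⟩)

theorem s_conj {a : G} (ha : a ∈ h.K) : h.s * a = a⁻¹ * h.s := by
  rw [← h.hinv a ha, inv_mul_cancel_right]

theorem H_cases {x : G} (hx : x ∈ Subgroup.centralizer ({h.t} : Set G)) : x ∈ h.K ∨ x * h.s ∈ h.K := by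
  have hss := mul_self_of_two h.hs
  let L : Subgroup G :=
    { carrier := {x | x ∈ h.K ∨ x * h.s ∈ h.K}
      one_mem' := Or.inl h.K.one_mem
      mul_mem' := fun {a b} ha hb => by
        rcases ha with ha | ha <;> rcases hb with hb | hb
        · exact Or.inl (h.K.mul_mem ha hb)
        · exact Or.inr (by rw [mul_assoc]; exact h.K.mul_mem ha hb)
        · refine Or.inr ?_
          have e : a * b * h.s = (a * h.s) * b⁻¹ := by
            calc a * b * h.s = a * (h.s * h.s) * b * h.s := by rw [hss, mul_one]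
              _ = (a * h.s) * (h.s * b) * h.s := by group
              _ = (a * h.s) * (b⁻¹ * h.s) * h.s := by rw [h.s_conj hb]
              _ = (a * h.s) * b⁻¹ * (h.s * h.s) := by group
              _ = _ := by rw [hss, mul_one]
          rw [e]; exact h.K.mul_mem ha (h.K.inv_mem hb)
        · refine Or.inl ?_
          have e : a * b = (a * h.s) * (b * h.s)⁻¹ := by
            calc a * b = a * (h.s * h.s) * (b * h.s) * h.s := by
                  rw [hss, mul_one, mul_assoc, mul_assoc b, hss, mul_one]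
              _ = (a * h.s) * (h.s * (b * h.s)) * h.s := by group
              _ = (a * h.s) * ((b * h.s)⁻¹ * h.s) * h.s := by rw [h.s_conj hb]
              _ = (a * h.s) * (b * h.s)⁻¹ * (h.s * h.s) := by group
              _ = _ := by rw [hss, mul_one]
          rw [e]; exact h.K.mul_mem ha (h.K.inv_mem hb)
      inv_mem' := fun {a} ha => by
        rcases ha with ha | ha
        · exact Or.inl (h.K.inv_mem ha)
        · refine Or.inr ?_
          have e : a⁻¹ * h.s = a * h.s := by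
            have h1 := h.hinv _ ha
            rw [inv_of_two h.hs, mul_inv_rev, inv_of_two h.hs] at h1
            calc a⁻¹ * h.s = h.s * (h.s * a⁻¹) * h.s := by rw [← mul_assoc h.s h.s, hss, one_mul]
              _ = h.s * (h.s * (a * h.s) * h.s) * h.s := by rw [h1]
              _ = (h.s * h.s) * (a * h.s) * (h.s * h.s) := by group
              _ = a * h.s := by rw [hss, one_mul, mul_one]
          rw [e]; exact ha }
  have hle : Subgroup.centralizer ({h.t} : Set G) ≤ L := by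
    rw [← h.hH]
    refine sup_le (fun a ha => Or.inl ha) ?_
    rw [Subgroup.zpowers_le]
    exact Or.inr (by rw [hss]; exact h.K.one_mem)
  exact hle hx

theorem exists_as {x : G} (hx : x ∈ Subgroup.centralizer ({h.t} : Set G)) (hxK : x ∉ h.K) :
    ∃ a ∈ h.K, x = a * h.s :=
  ⟨x * h.s, (h.H_cases hx).resolve_left hxK, by rw [mul_assoc, mul_self_of_two h.hs, mul_one]⟩

theorem as_two {a : G} (ha : a ∈ h.K) : orderOf (a * h.s) = 2 := by
  refine orderOf_two ?_ fun e => h.hsK ?_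
  · rw [mul_assoc, ← mul_assoc h.s a, h.s_conj ha, mul_assoc, mul_self_of_two h.hs, mul_one, mul_inv_cancel]
  · rw [eq_inv_of_mul_eq_one_right e]; exact h.K.inv_mem ha

theorem as_notMem {a : G} (ha : a ∈ h.K) : a * h.s ∉ h.K := fun e =>
  h.hsK (by simpa using h.K.mul_mem (h.K.inv_mem ha) e)

theorem as_conj {a b : G} (ha : a ∈ h.K) (hb : b ∈ h.K) : a * h.s * b * (a * h.s)⁻¹ = b⁻¹ := by
  calc a * h.s * b * (a * h.s)⁻¹ = a * (h.s * b * h.s⁻¹) * a⁻¹ := by group
    _ = b⁻¹ := by rw [h.hinv b hb, h.comm ha (h.K.inv_mem hb), mul_inv_cancel_right]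

theorem involution_K {a : G} (ha : a ∈ h.K) (h2 : a * a = 1) : a = 1 ∨ a = h.t := by
  have hm : a ∈ Subgroup.zpowers h.t := by
    rw [← h.hCK]
    refine ⟨ha, Subgroup.mem_centralizer_singleton_iff.2 ?_⟩
    rw [h.s_conj ha, inv_eq_of_mul_eq_one_right h2]
  obtain ⟨i, hi⟩ := Subgroup.mem_zpowers_iff.1 hm
  rw [← zpow_mod_orderOf, h.ht] at hi
  rcases Int.emod_two_eq_zero_or_one i with e | e <;> simp [e] at hi
  · exact Or.inl hi.symm
  · exact Or.inr hi.symm

theorem mem_H_of_conj {a c : G} (ha : a ∈ h.K) (ha1 : a ≠ 1) (hc : c * a * c⁻¹ ∈ h.K) :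
    c ∈ Subgroup.centralizer ({h.t} : Set G) := by
  by_contra hcH
  have hm : c * a * c⁻¹ ∈ h.K ⊓ h.K.map (MulAut.conj c).toMonoidHom := ⟨hc, ⟨a, ha, rfl⟩⟩
  rw [h.hTI c hcH, Subgroup.mem_bot] at hm
  exact ha1 (conj_eq_one_iff.1 hm)

theorem conj_cases {a c : G} (ha : a ∈ h.K) (ha1 : a ≠ 1) (hc : c * a * c⁻¹ ∈ h.K) :
    c * a * c⁻¹ = a ∨ c * a * c⁻¹ = a⁻¹ := by
  have hH := h.mem_H_of_conj ha ha1 hc
  by_cases hK : c ∈ h.K
  · exact Or.inl (by rw [h.comm hK ha, mul_inv_cancel_right])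
  · obtain ⟨b, hb, rfl⟩ := h.exists_as hH hK
    exact Or.inr (h.as_conj hb ha)

theorem centralizer_K {a : G} (ha : a ∈ h.K) (ha1 : a ≠ 1) (hat : a ≠ h.t) :
    Subgroup.centralizer ({a} : Set G) = h.K := by
  refine le_antisymm (fun c hc => ?_) fun c hc => Subgroup.mem_centralizer_singleton_iff.2 (h.comm hc ha)
  have e : c * a * c⁻¹ = a := mul_inv_eq_iff_eq_mul.2 (Subgroup.mem_centralizer_singleton_iff.1 hc)
  by_contra hK
  obtain ⟨b, hb, rfl⟩ := h.exists_as (h.mem_H_of_conj ha ha1 (e.symm ▸ ha)) hK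
  rw [h.as_conj hb ha] at e
  rcases h.involution_K ha (by rw [← eq_inv_iff_mul_eq_one]; exact e.symm) with e' | e'
  · exact ha1 e'
  · exact hat e'

theorem normalizer_sub {X : Subgroup G} (hX : X ≤ h.K) (hX1 : X ≠ ⊥) :
    Subgroup.normalizer (X : Set G) = Subgroup.centralizer ({h.t} : Set G) := by
  refine le_antisymm (fun c hc => ?_) fun c hc => ?_
  · obtain ⟨a, ha, ha1⟩ := X.bot_or_exists_ne_one.resolve_left hX1
    exact h.mem_H_of_conj (hX ha) ha1 (hX ((Subgroup.mem_normalizer_iff.1 hc a).1 ha))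
  · rw [Subgroup.mem_normalizer_iff]
    intro a
    by_cases hK : c ∈ h.K
    · constructor
      · intro ha; rwa [h.comm hK (hX ha), mul_inv_cancel_right]
      · intro ha
        have e2 : a = c * a * c⁻¹ := by
          calc a = c⁻¹ * (c * a * c⁻¹) * c := by group
            _ = (c * a * c⁻¹) * c⁻¹ * c := by rw [h.comm (h.K.inv_mem hK) (hX ha)]
            _ = _ := by group
        rwa [e2]
    · obtain ⟨b, hb, rfl⟩ := h.exists_as hc hK
      constructor
      · intro ha; rw [h.as_conj hb (hX ha)]; exact X.inv_mem ha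
      · intro ha
        have e2 : a = (b * h.s * a * (b * h.s)⁻¹)⁻¹ := by
          have h2 := mul_self_of_two (h.as_two hb)
          rw [← h.as_conj hb (hX ha), inv_of_two (h.as_two hb)]
          calc a = (b * h.s * (b * h.s)) * a * (b * h.s * (b * h.s)) := by rw [h2, one_mul, mul_one]
            _ = _ := by group
        rw [e2]; exact X.inv_mem ha

theorem K_ne_bot : h.K ≠ ⊥ := fun e => ne_one_of_two h.ht (by simpa [e] using h.htK)

theorem inverted {u c : G} (hc : c ∈ h.K) (hc1 : c ≠ 1) (hu : orderOf u = 2) (huc : u * c * u = c⁻¹) :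
    u ∈ Subgroup.centralizer ({h.t} : Set G) :=
  h.mem_H_of_conj hc hc1 (by rw [inv_of_two hu, huc]; exact h.K.inv_mem hc)

section Finite

variable [Finite G]

/-- Half of the order of the centraliser. -/
noncomputable def k : ℕ := Nat.card h.K

theorem card_H : Nat.card (Subgroup.centralizer ({h.t} : Set G)) = 2 * h.k := by
  classical
  let f : h.K × Bool → Subgroup.centralizer ({h.t} : Set G) := fun p =>
    ⟨(p.1 : G) * (if p.2 then h.s else 1), Subgroup.mul_mem _ (h.hKH p.1.2) (by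
      split_ifs; exacts [h.hsH, Subgroup.one_mem _])⟩
  have hf : Function.Bijective f := by
    constructor
    · rintro ⟨a, i⟩ ⟨b, j⟩ e
      have e' : (a : G) * (if i then h.s else 1) = (b : G) * (if j then h.s else 1) := congrArg Subtype.val e
      cases i <;> cases j <;> simp at e' ⊢
      · exact e'
      · exact absurd (e' ▸ a.2) (h.as_notMem b.2)
      · exact absurd (e'.symm ▸ b.2) (h.as_notMem a.2)
      · exact e'
    · rintro ⟨x, hx⟩
      by_cases hK : x ∈ h.K
      · exact ⟨(⟨x, hK⟩, false), Subtype.ext (by simp [f])⟩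
      · obtain ⟨a, ha, rfl⟩ := h.exists_as hx hK
        exact ⟨(⟨a, ha⟩, true), Subtype.ext (by simp [f])⟩
  rw [← Nat.card_congr (Equiv.ofBijective f hf), Nat.card_prod, Nat.card_eq_fintype_card (α := Bool),
    Fintype.card_bool, mul_comm]
  rfl

theorem even_k : 2 ∣ h.k := h.ht ▸ h.K.orderOf_dvd_natCard h.htK

theorem k_pos : 0 < h.k := Nat.card_pos

theorem card_class : Nat.card {x : G // IsConj h.t x} * (2 * h.k) = Nat.card G := by
  rw [← h.card_H]; exact card_conj_mul_card_centralizer h.t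

/-- Pairs of involutions with a given product. -/
def Pairs (c : G) := {p : G × G // IsConj h.t p.1 ∧ IsConj h.t p.2 ∧ p.1 * p.2 = c}

instance (c : G) : Finite (h.Pairs c) := by unfold Pairs; infer_instance

theorem isConj_iff_two {x : G} : IsConj h.t x ↔ orderOf x = 2 :=
  ⟨fun e => by
    obtain ⟨c, rfl⟩ := isConj_iff.1 e
    exact ((MulAut.conj c).orderOf_eq h.t).trans h.ht, h.hconj _ _ h.ht⟩

theorem pairs_inverts {c : G} (p : h.Pairs c) : orderOf p.1.1 = 2 ∧ p.1.1 * c * p.1.1 = c⁻¹ ∧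
    p.1.2 = p.1.1 * c := by
  obtain ⟨⟨u, v⟩, hu, hv, huv⟩ := p
  have hu2 := h.isConj_iff_two.1 hu
  have hv2 := h.isConj_iff_two.1 hv
  simp only at huv ⊢
  have e : v = u * c := by rw [← huv, ← mul_assoc, mul_self_of_two hu2, one_mul]
  refine ⟨hu2, ?_, e⟩
  rw [eq_inv_iff_mul_eq_one]
  calc u * c * u * c = (u * c) * (u * c) := by group
    _ = 1 := by rw [← e]; exact mul_self_of_two hv2

theorem card_pairs_K {c : G} (hc : c ∈ h.K) (hc1 : c ≠ 1) : Nat.card (h.Pairs c) = h.k := by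
  let f : h.K → h.Pairs c := fun a => ⟨((a : G) * h.s, (a : G) * c⁻¹ * h.s),
    h.isConj_iff_two.2 (h.as_two a.2), h.isConj_iff_two.2 (h.as_two (h.K.mul_mem a.2 (h.K.inv_mem hc))), by
      calc (a : G) * h.s * ((a : G) * c⁻¹ * h.s)
          = (a : G) * h.s * ((a : G) * c⁻¹) * ((a : G) * h.s)⁻¹ * ((a : G) * h.s * h.s) := by group
        _ = ((a : G) * c⁻¹)⁻¹ * a := by
          rw [h.as_conj a.2 (h.K.mul_mem a.2 (h.K.inv_mem hc)), mul_assoc _ h.s h.s,
            mul_self_of_two h.hs, mul_one]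
        _ = c := by group⟩
  refine (Nat.card_congr (Equiv.ofBijective f ⟨fun a b e => ?_, fun p => ?_⟩)).symm
  · have := congrArg (fun p : h.Pairs c => p.1.1) e
    exact Subtype.ext (mul_right_cancel this)
  · obtain ⟨hu, hinv, hv⟩ := h.pairs_inverts p
    have hH := h.inverted hc hc1 hu hinv
    have hK : p.1.1 ∉ h.K := fun e => by
      have e' : p.1.1 = h.t := (h.involution_K e (mul_self_of_two hu)).resolve_left (ne_one_of_two hu)
      have hcc : c = h.t := by
        refine (h.involution_K hc ?_).resolve_left hc1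
        rw [← eq_inv_iff_mul_eq_one, ← hinv]
        rw [h.comm e hc, mul_assoc, mul_self_of_two hu, mul_one]
      have hv2 := h.isConj_iff_two.1 p.2.2.1
      rw [hv, e', hcc, mul_self_of_two h.ht, orderOf_one] at hv2
      norm_num at hv2
    obtain ⟨a, ha, e⟩ := h.exists_as hH hK
    refine ⟨⟨a, ha⟩, Subtype.ext (Prod.ext e.symm ?_)⟩
    show a * c⁻¹ * h.s = p.1.2
    rw [hv, e, mul_assoc a h.s, h.s_conj hc, ← mul_assoc]

variable [Fintype G] [Fintype (IrrCharacter G)]

/-- The structure sum. -/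
noncomputable def PS (c : G) : ℂ := ∑ χ : IrrCharacter G,
  (χ : G → ℂ) h.t * (χ : G → ℂ) h.t * conj ((χ : G → ℂ) c) / (χ : G → ℂ) 1

theorem pairs_eq (c : G) :
    (Nat.card (h.Pairs c) : ℂ) * (4 * (h.k : ℂ) ^ 2) = (Nat.card G : ℂ) * h.PS c := by
  have e := card_class_mul h.t h.t c
  have hI : (Nat.card {x : G // IsConj h.t x} : ℂ) * (2 * h.k) = Nat.card G := by exact_mod_cast h.card_class
  rw [show (Nat.card (h.Pairs c) : ℂ) = _ from e, ← PS]
  rw [show (4 : ℂ) * (h.k : ℂ) ^ 2 = (2 * h.k) * (2 * h.k) by ring]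
  calc _ = ((Nat.card {x : G // IsConj h.t x} : ℂ) * (2 * h.k)) *
        ((Nat.card {x : G // IsConj h.t x} : ℂ) * (2 * h.k)) / Nat.card G * h.PS c := by ring
    _ = _ := by rw [hI]; field_simp

/-! ### Multiplicity vectors -/

/-- Linear characters of `K`. -/
abbrev Dual := h.K →* ℂˣ

noncomputable instance : Fintype h.Dual := by
  haveI := h.ab
  exact Fintype.ofFinite _

theorem card_dual : Nat.card h.Dual = h.k := by
  haveI := h.ab
  haveI : NeZero (Monoid.exponent h.K) := ⟨Monoid.exponent_ne_zero_of_finite⟩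
  obtain ⟨e⟩ := CommGroup.monoidHom_mulEquiv_of_hasEnoughRootsOfUnity h.K ℂ
  exact Nat.card_congr e.toEquiv

theorem sum_dual_apply (x : h.K) : ∑ l : h.Dual, (l x : ℂ) = if x = 1 then (h.k : ℂ) else 0 := by
  classical
  haveI := h.ab
  split_ifs with hx
  · subst hx; simp [← h.card_dual]
  · haveI : NeZero (Monoid.exponent h.K) := ⟨Monoid.exponent_ne_zero_of_finite⟩
    obtain ⟨φ, hφ⟩ := CommGroup.exists_apply_ne_one_of_hasEnoughRootsOfUnity h.K ℂ hx
    have e : (φ x : ℂ) * ∑ l : h.Dual, (l x : ℂ) = ∑ l : h.Dual, (l x : ℂ) := by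
      rw [Finset.mul_sum]
      exact Fintype.sum_equiv (Equiv.mulLeft φ) _ _ fun l => by simp
    by_contra h0
    exact (fun hne : (φ x : ℂ) ≠ 1 => hne ((mul_eq_right₀ h0).1 e)) (by simpa using hφ)

theorem sum_apply_dual (l : h.Dual) [Fintype h.K] : ∑ x : h.K, (l x : ℂ) = if l = 1 then (h.k : ℂ) else 0 := by
  classical
  split_ifs with hl
  · subst hl; simp [k]
  · exact sum_hom_units_eq_zero ((Units.coeHom ℂ).comp l) fun e => hl (MonoidHom.ext fun x =>
      Units.ext (by simpa using DFunLike.congr_fun e x))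

theorem conj_dual (l : h.Dual) (x : h.K) : conj (l x : ℂ) = (l⁻¹ x : ℂ) := by
  have hn : ‖(l x : ℂ)‖ = 1 := norm_eq_one_of_pow_eq_one' (orderOf_pos x).ne' (by
    rw [← Units.val_pow_eq_pow_val, ← map_pow, pow_orderOf_eq_one, map_one, Units.val_one])
  rw [MonoidHom.inv_apply, Units.val_inv_eq_inv_val, Complex.inv_eq_conj hn]

/-- Multiplicity of `l` minus that of the trivial character. -/
noncomputable def v (χ : IrrCharacter G) (l : h.Dual) : ℂ :=
  letI := Fintype.ofFinite h.K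
  (h.k : ℂ)⁻¹ * ∑ x : h.K, (χ : G → ℂ) x * (conj (l x : ℂ) - 1)

theorem v_eq [Fintype h.K] (χ : IrrCharacter G) (l : h.Dual) :
    h.v χ l = (h.k : ℂ)⁻¹ * ∑ x : h.K, (χ : G → ℂ) x * (conj (l x : ℂ) - 1) := by
  rw [v]; congr 1
  exact Finset.sum_congr (by ext; simp) fun _ _ => rfl

theorem isIrr_dual (l : h.Dual) : IsIrrCharacter h.K (fun x => (l x : ℂ)) := isIrrCharacter_unitsHom l

theorem exists_mult [Fintype h.K] (χ : IrrCharacter G) (l : h.Dual) :
    ∃ m : ℕ, (h.k : ℂ)⁻¹ * ∑ x : h.K, (χ : G → ℂ) x * conj (l x : ℂ) = m := by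
  obtain ⟨m, hm⟩ := IsCharacter.exists_classInner_nat (IsCharacter.restrict (irr_isCharacter χ) h.K)
    (IsIrrCharacter.isCharacter (h.isIrr_dual l))
  exact ⟨m, by rw [← hm]; rfl⟩

theorem exists_v_int (χ : IrrCharacter G) (l : h.Dual) : ∃ z : ℤ, h.v χ l = z := by
  haveI := Fintype.ofFinite h.K
  obtain ⟨m, hm⟩ := h.exists_mult χ l
  obtain ⟨m₁, hm₁⟩ := h.exists_mult χ 1
  refine ⟨(m : ℤ) - m₁, ?_⟩
  push_cast
  rw [← hm, ← hm₁, v_eq, ← mul_sub, ← Finset.sum_sub_distrib]
  congr 1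
  exact Finset.sum_congr rfl fun x _ => by simp; ring

/-- Values on `K` are determined by the vectors. -/
theorem value_K (χ : IrrCharacter G) {x : h.K} (hx : x ≠ 1) :
    (χ : G → ℂ) x = ∑ l : h.Dual, h.v χ l * (l x : ℂ) := by
  classical
  haveI := Fintype.ofFinite h.K
  have hk : (h.k : ℂ) ≠ 0 := Nat.cast_ne_zero.2 h.k_pos.ne'
  simp only [v_eq, Finset.mul_sum, Finset.sum_mul]
  rw [Finset.sum_comm]
  have e : ∀ y : h.K, ∑ l : h.Dual, (h.k : ℂ)⁻¹ * ((χ : G → ℂ) y * (conj (l y : ℂ) - 1)) * (l x : ℂ) =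
      if y = x then (χ : G → ℂ) x else 0 := by
    intro y
    have e1 : ∀ l : h.Dual, (h.k : ℂ)⁻¹ * ((χ : G → ℂ) y * (conj (l y : ℂ) - 1)) * (l x : ℂ) =
        (h.k : ℂ)⁻¹ * (χ : G → ℂ) y * ((l (y⁻¹ * x) : ℂ) - (l x : ℂ)) := by
      intro l
      rw [conj_dual, map_mul, map_inv, MonoidHom.inv_apply, Units.val_mul]
      ring
    rw [Finset.sum_congr rfl fun l _ => e1 l, ← Finset.mul_sum, Finset.sum_sub_distrib, h.sum_dual_apply,
      h.sum_dual_apply, if_neg hx, sub_zero]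
    by_cases hy : y = x
    · subst hy; rw [inv_mul_cancel, if_pos rfl, if_pos rfl]; field_simp
    · rw [if_neg hy, if_neg (fun e => hy (inv_mul_eq_one.1 e)), mul_zero]
  rw [Finset.sum_congr rfl fun y _ => e y, Finset.sum_ite_eq' Finset.univ x, if_pos (Finset.mem_univ _)]

theorem v_one (χ : IrrCharacter G) : h.v χ 1 = 0 := by
  simp [v]

/-- The Gram matrix of the vectors. -/
theorem gram {l m : h.Dual} (hl : l ≠ 1) (hm : m ≠ 1) :
    ∑ χ : IrrCharacter G, h.v χ l * conj (h.v χ m) =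
      (if l = m then (1 : ℂ) else 0) + (if l = m⁻¹ then 1 else 0) + 2 := by
  classical
  haveI := Fintype.ofFinite h.K
  have hk : (h.k : ℂ) ≠ 0 := Nat.cast_ne_zero.2 h.k_pos.ne'
  simp only [v_eq, map_mul, map_sum, map_inv₀, map_natCast, map_sub, map_one, Complex.conj_conj,
    Finset.sum_mul, Finset.mul_sum]
  rw [Finset.sum_comm]
  rw [Finset.sum_congr rfl fun y _ => Finset.sum_comm]
  rw [Finset.sum_comm]
  have e : ∀ x : h.K, ∑ y : h.K, ∑ χ : IrrCharacter G,
      (h.k : ℂ)⁻¹ * ((χ : G → ℂ) x * (conj (l x : ℂ) - 1)) *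
        ((h.k : ℂ)⁻¹ * (conj ((χ : G → ℂ) y) * ((m y : ℂ) - 1))) =
      (h.k : ℂ)⁻¹ * ((l⁻¹ x : ℂ) - 1) * ((m x : ℂ) + (m⁻¹ x : ℂ) - 2) := by
    intro x
    have e1 : ∀ y : h.K, ∑ χ : IrrCharacter G,
        (h.k : ℂ)⁻¹ * ((χ : G → ℂ) x * (conj (l x : ℂ) - 1)) *
          ((h.k : ℂ)⁻¹ * (conj ((χ : G → ℂ) y) * ((m y : ℂ) - 1))) =
        (h.k : ℂ)⁻¹ * (h.k : ℂ)⁻¹ * ((l⁻¹ x : ℂ) - 1) * (((m y : ℂ) - 1) *
          ∑ χ : IrrCharacter G, (χ : G → ℂ) x * conj ((χ : G → ℂ) y)) := by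
      intro y
      rw [Finset.mul_sum, Finset.mul_sum]
      refine Finset.sum_congr rfl fun χ _ => ?_
      rw [conj_dual]; ring
    rw [Finset.sum_congr rfl fun y _ => e1 y, ← Finset.mul_sum]
    by_cases hx1 : x = 1
    · subst hx1; simp
    have hx1' : (x : G) ≠ 1 := fun e => hx1 (Subtype.ext e)
    suffices hs : ∑ y : h.K, ((m y : ℂ) - 1) * ∑ χ : IrrCharacter G, (χ : G → ℂ) x * conj ((χ : G → ℂ) y) =
        (h.k : ℂ) * ((m x : ℂ) + (m⁻¹ x : ℂ) - 2) by
      rw [hs]; field_simp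
    simp only [sum_irr_mul_conj]
    have hiff : ∀ y : h.K, IsConj (x : G) y ↔ y = x ∨ y = x⁻¹ := by
      intro y
      constructor
      · intro e
        obtain ⟨c, hc⟩ := isConj_iff.1 e
        rcases h.conj_cases x.2 hx1' (hc ▸ y.2) with e' | e' <;> rw [hc] at e'
        · exact Or.inl (Subtype.ext e')
        · exact Or.inr (Subtype.ext e')
      · rintro (rfl | rfl)
        · exact IsConj.refl _
        · exact isConj_iff.2 ⟨h.s, h.hinv _ x.2⟩
    by_cases hxt : (x : G) = h.t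
    · have hinv : x⁻¹ = x := Subtype.ext (by rw [Subgroup.coe_inv, hxt, inv_of_two h.ht])
      have hC : Nat.card (Subgroup.centralizer ({(x : G)} : Set G)) = 2 * h.k := by rw [hxt, h.card_H]
      rw [Finset.sum_eq_single x]
      · rw [if_pos (IsConj.refl _), hC, MonoidHom.inv_apply, ← map_inv, hinv]
        push_cast; ring
      · intro y _ hy
        rw [if_neg fun e => hy ?_, mul_zero]
        rcases (hiff y).1 e with e' | e'
        · exact e'
        · exact e'.trans hinv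
      · simp
    · have hC : Nat.card (Subgroup.centralizer ({(x : G)} : Set G)) = h.k := by
        rw [h.centralizer_K x.2 hx1' hxt]; rfl
      have hne : x⁻¹ ≠ x := fun e => by
        rcases h.involution_K x.2 (by
          rw [← eq_inv_iff_mul_eq_one, ← Subgroup.coe_inv, e]) with e' | e'
        · exact hx1' e'
        · exact hxt e'
      rw [← Finset.sum_subset (Finset.subset_univ {x, x⁻¹})]
      · rw [Finset.sum_pair hne.symm, if_pos (IsConj.refl _), if_pos ((hiff _).2 (Or.inr rfl)), hC,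
          MonoidHom.inv_apply, ← map_inv]
        ring
      · intro y _ hy
        simp only [Finset.mem_insert, Finset.mem_singleton] at hy
        rw [if_neg fun e => hy ((hiff y).1 e), mul_zero]
  rw [Finset.sum_congr rfl fun x _ => e x]
  have e2 : ∀ x : h.K, (h.k : ℂ)⁻¹ * ((l⁻¹ x : ℂ) - 1) * ((m x : ℂ) + (m⁻¹ x : ℂ) - 2) =
      (h.k : ℂ)⁻¹ * (((l⁻¹ * m) x : ℂ) + ((l⁻¹ * m⁻¹) x : ℂ) - 2 * (l⁻¹ x : ℂ) - (m x : ℂ) - (m⁻¹ x : ℂ) + 2) := by
    intro x
    simp only [MonoidHom.mul_apply, Units.val_mul]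
    ring
  rw [Finset.sum_congr rfl fun x _ => e2 x, ← Finset.mul_sum]
  simp only [Finset.sum_add_distrib, Finset.sum_sub_distrib, ← Finset.mul_sum, sum_apply_dual,
    Finset.sum_const, Finset.card_univ, nsmul_eq_mul]
  have hinv1 : ∀ a b : h.Dual, a⁻¹ * b = 1 → a = b := fun a b e => MonoidHom.ext fun x => by
    have := DFunLike.congr_fun e x
    simp only [MonoidHom.mul_apply, MonoidHom.inv_apply, MonoidHom.one_apply] at this
    exact inv_mul_eq_one.1 this
  have hinv2 : ∀ a : h.Dual, a⁻¹ * a = 1 := fun a => MonoidHom.ext fun x => by simp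
  have n1 : l⁻¹ ≠ 1 := fun e => hl (hinv1 l 1 (by rw [e]; exact hinv2 1 |>.trans rfl))
  have n2 : m⁻¹ ≠ 1 := fun e => hm (hinv1 m 1 (by rw [e]; exact hinv2 1 |>.trans rfl))
  rw [if_neg n1, if_neg hm, if_neg n2, ← Nat.card_eq_fintype_card, show Nat.card h.K = h.k from rfl]
  have d1 : l⁻¹ * m = 1 ↔ l = m := ⟨hinv1 _ _, fun e => e ▸ hinv2 _⟩
  have d2 : l⁻¹ * m⁻¹ = 1 ↔ l = m⁻¹ := ⟨hinv1 _ _, fun e => e ▸ hinv2 _⟩
  by_cases e3 : l = m <;> by_cases e4 : l = m⁻¹
  · rw [if_pos (d1.2 e3), if_pos (d2.2 e4), if_pos e3, if_pos e4]; field_simp; ring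
  · rw [if_pos (d1.2 e3), if_neg (fun e => e4 (d2.1 e)), if_pos e3, if_neg e4]; field_simp; ring
  · rw [if_neg (fun e => e3 (d1.1 e)), if_pos (d2.2 e4), if_neg e3, if_pos e4]; field_simp; ring
  · rw [if_neg (fun e => e3 (d1.1 e)), if_neg (fun e => e4 (d2.1 e)), if_neg e3, if_neg e4]; field_simp; ring

end Finite

end Conf

end Cfsg.Agent.Lib.Characters.BSW
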