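import Cfsg.Agent.Lib.Characters.BSW.Main
import Cfsg.Prelude.Def_LieExceptional
import Cfsg.Prelude.Def_Exceptional
import Cfsg.Agent.Lib.Involutions.Dihedral
import Cfsg.Agent.S0340
import Cfsg.Agent.S0494
import Cfsg.Agent.Lib.Classical.GLTwo
import Cfsg.Agent.Lib.Classical.LinearCard
import Cfsg.Agent.Lib.Classical.LinearSimple

/-!
# The Zassenhaus group of a Brauer–Suzuki–Wall configuration
-/

set_option autoImplicit false
set_option linter.style.haveILetI false
set_option linter.unusedSectionVars false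

namespace Cfsg.Agent.Lib.Characters.BSW

open Cfsg

variable {G : Type*} [Group G] [Finite G]

/-- A point stabiliser `Q D` with the centraliser condition makes a Zassenhaus group. -/
theorem zassenhaus_of_QD [IsSimpleGroup G] (Q D : Subgroup G)
    (hg : 2 * Nat.card G = Nat.card Q * (Nat.card Q + 1) * (Nat.card Q - 1))
    (hC : ∀ x ∈ Q, x ≠ 1 → Subgroup.centralizer ({x} : Set G) = Q)
    (hD : 2 * Nat.card D + 1 = Nat.card Q) (hQD : Q ⊓ D = ⊥)
    (hN : Subgroup.normalizer (Q : Set G) = Q ⊔ D) (h5 : 5 ≤ Nat.card Q) :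
    Cfsg.IsZassenhausGroup G (G ⧸ Subgroup.normalizer (Q : Set G)) := by
  classical
  haveI := Fintype.ofFinite G
  haveI := Fintype.ofFinite (IrrCharacter G)
  set N := Subgroup.normalizer (Q : Set G) with hNdef
  set q := Nat.card Q with hq
  set m := Nat.card D with hm
  have hQN : Q ≤ N := Subgroup.le_normalizer
  have hDN : D ≤ N := hN ▸ le_sup_right
  have hNdec : ∀ a ∈ N, ∃ x ∈ Q, ∃ b ∈ D, a = x * b := by
    intro a ha
    rw [hN] at ha
    have : a ∈ ((Q ⊔ D : Subgroup G) : Set G) := ha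
    rw [Subgroup.coe_mul_of_right_le_normalizer_left Q D hDN] at this
    obtain ⟨x, hx, b, hb, e⟩ := Set.mem_mul.1 this
    exact ⟨x, hx, b, hb, e.symm⟩
  have hcardN : Nat.card N = q * m := by
    let f : Q × D → N := fun p => ⟨(p.1 : G) * p.2, N.mul_mem (hQN p.1.2) (hDN p.2.2)⟩
    have hf : Function.Bijective f := by
      refine ⟨?_, ?_⟩
      · rintro ⟨a, b⟩ ⟨a', b'⟩ e
        have e' : (a : G) * b = (a' : G) * b' := congrArg Subtype.val e
        have h0 : (a' : G)⁻¹ * a = (b' : G) * (b : G)⁻¹ := by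
          calc (a' : G)⁻¹ * a = (a' : G)⁻¹ * ((a : G) * b) * (b : G)⁻¹ := by group
            _ = _ := by rw [e']; group
        have h1 : (a' : G)⁻¹ * a ∈ Q ⊓ D :=
          ⟨Q.mul_mem (Q.inv_mem a'.2) a.2, h0 ▸ D.mul_mem b'.2 (D.inv_mem b.2)⟩
        rw [hQD, Subgroup.mem_bot] at h1
        have ha : a = a' := Subtype.ext (inv_mul_eq_one.1 h1).symm
        subst ha
        exact Prod.ext rfl (Subtype.ext (mul_left_cancel e'))
      · rintro ⟨a, ha⟩
        obtain ⟨x, hx, b, hb, rfl⟩ := hNdec a ha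
        exact ⟨(⟨x, hx⟩, ⟨b, hb⟩), rfl⟩
    rw [← Nat.card_congr (Equiv.ofBijective f hf), Nat.card_prod]
  have hindex : Nat.card (G ⧸ N) = q + 1 := by
    refine Nat.eq_of_mul_eq_mul_right (show 0 < 2 * (q * m) from by
      have : 0 < m := Nat.card_pos
      positivity) ?_
    have e := N.card_eq_card_quotient_mul_card_subgroup
    rw [hcardN] at e
    calc Nat.card (G ⧸ N) * (2 * (q * m)) = 2 * Nat.card G := by rw [e]; ring
      _ = _ := by rw [hg, show q - 1 = 2 * m by omega]; ring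
  have hcop : Nat.Coprime q m := by
    refine coprime_of_primes fun r hr e1 e2 => hr.ne_one (Nat.dvd_one.1 ?_)
    exact (Nat.dvd_add_right (e2.mul_left 2)).1 (hD ▸ e1)
  have hQonly : ∀ y ∈ N, orderOf y ∣ q → y ∈ Q := by
    intro y hy hyq
    haveI : (Q.subgroupOf N).Normal := Subgroup.normal_in_normalizer
    have hindex' : (Q.subgroupOf N).index = m := by
      have e1 := (Q.subgroupOf N).index_mul_card
      rw [Nat.card_congr (Subgroup.subgroupOfEquivOfLe hQN).toEquiv, hcardN, mul_comm q] at e1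
      exact Nat.eq_of_mul_eq_mul_right (show 0 < q by omega) e1
    have hm' := Subgroup.pow_index_mem (Q.subgroupOf N) (⟨y, hy⟩ : N)
    rw [hindex', Subgroup.mem_subgroupOf, Subgroup.coe_pow] at hm'
    obtain ⟨j, hj⟩ := exists_pow_eq_self_of_coprime (hcop.coprime_dvd_left hyq).symm
    have hj' : (y ^ m) ^ j = y := hj
    rw [← hj']
    exact Q.pow_mem hm' j
  have hsemi : ∀ x ∈ Q, x ≠ 1 → ∀ c : G, c⁻¹ * x * c ∈ N → c ∈ N := by
    intro x hx hx1 c hc
    have hm' : c⁻¹ * x * c ∈ Q := by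
      refine hQonly _ hc ?_
      have e : orderOf (c⁻¹ * x * c) = orderOf x := by
        have := (MulAut.conj c⁻¹).orderOf_eq x
        simpa using this
      rw [e]
      exact Q.orderOf_dvd_natCard hx
    have := Conf.Std.conj_sameCoset hC (c := c⁻¹) hx hx1 hm' (by group)
    simpa using N.inv_mem this
  have htrans : ∀ c₀ : G, c₀ ∉ N → ∀ c : G, c ∉ N → ∃ x ∈ Q, (x * c₀)⁻¹ * c ∈ N := by
    intro c₀ hc₀ c hc
    let f : Q → {p : G ⧸ N // p ≠ ((1 : G) : G ⧸ N)} := fun x => ⟨(((x : G) * c₀ : G) : G ⧸ N), fun e => hc₀ (by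
      have := QuotientGroup.eq.1 e.symm
      rw [inv_one, one_mul] at this
      simpa using N.mul_mem (N.inv_mem (hQN x.2)) this)⟩
    have hf : Function.Injective f := by
      intro a b e
      have e' : ((a : G) * c₀)⁻¹ * ((b : G) * c₀) ∈ N := QuotientGroup.eq.1 (congrArg Subtype.val e)
      by_contra hne
      refine hc₀ (hsemi ((a : G)⁻¹ * b) (Q.mul_mem (Q.inv_mem a.2) b.2)
        (fun e2 => hne (Subtype.ext (inv_mul_eq_one.1 e2))) c₀ ?_)
      rwa [show c₀⁻¹ * ((a : G)⁻¹ * b) * c₀ = ((a : G) * c₀)⁻¹ * ((b : G) * c₀) by group]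
    have hcd : Nat.card {p : G ⧸ N // p ≠ ((1 : G) : G ⧸ N)} = q := by
      haveI := Fintype.ofFinite (G ⧸ N)
      rw [Nat.card_eq_fintype_card, Fintype.card_subtype_compl, Fintype.card_subtype_eq,
        ← Nat.card_eq_fintype_card, hindex]
      omega
    have hb := (Nat.bijective_iff_injective_and_card f).2 ⟨hf, by rw [hcd]⟩
    obtain ⟨x, hx⟩ := hb.2 ⟨(c : G ⧸ N), fun e => hc (by
      have := QuotientGroup.eq.1 e.symm
      simpa using this)⟩
    exact ⟨x, x.2, QuotientGroup.eq.1 (congrArg Subtype.val hx)⟩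
  have hfix : ∀ (g c : G), g • (c : G ⧸ N) = (c : G ⧸ N) ↔ c⁻¹ * g * c ∈ N := by
    intro g c
    rw [MulAction.Quotient.smul_coe, smul_eq_mul, QuotientGroup.eq]
    constructor <;> intro e
    · have := N.inv_mem e
      rwa [show ((g * c)⁻¹ * c)⁻¹ = c⁻¹ * g * c by group] at this
    · have := N.inv_mem e
      rwa [show (c⁻¹ * g * c)⁻¹ = (g * c)⁻¹ * c by group] at this
  -- an element fixing three points is trivial
  have h3 : ∀ w c₀ c : G, w ∈ N → c₀⁻¹ * w * c₀ ∈ N → c⁻¹ * w * c ∈ N → c₀ ∉ N → c ∉ N →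
      c₀⁻¹ * c ∉ N → w = 1 := by
    intro w c₀ c hw hw0 hwc hc₀ hc hne
    obtain ⟨x, hx, hm'⟩ := htrans c₀ hc₀ c hc
    have hx1 : x ≠ 1 := fun e => hne (by rwa [e, one_mul] at hm')
    have hwx : c₀⁻¹ * (x⁻¹ * w * x) * c₀ ∈ N := by
      have := N.mul_mem (N.mul_mem hm' hwc) (N.inv_mem hm')
      rwa [show (x * c₀)⁻¹ * c * (c⁻¹ * w * c) * ((x * c₀)⁻¹ * c)⁻¹ = c₀⁻¹ * (x⁻¹ * w * x) * c₀ by group]
        at this
    have hy : w⁻¹ * (x⁻¹ * w * x) ∈ Q := by
      have := (Subgroup.mem_normalizer_iff.1 (N.inv_mem hw) x⁻¹).1 (Q.inv_mem hx)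
      rw [inv_inv] at this
      rw [show w⁻¹ * (x⁻¹ * w * x) = w⁻¹ * x⁻¹ * w * x by group]
      exact Q.mul_mem this hx
    have hy1 : w⁻¹ * (x⁻¹ * w * x) = 1 := by
      by_contra hy1
      refine hc₀ (hsemi _ hy hy1 c₀ ?_)
      have := N.mul_mem (N.inv_mem hw0) hwx
      rwa [show (c₀⁻¹ * w * c₀)⁻¹ * (c₀⁻¹ * (x⁻¹ * w * x) * c₀) = c₀⁻¹ * (w⁻¹ * (x⁻¹ * w * x)) * c₀ by group]
        at this
    have hwQ : w ∈ Q := by
      rw [← hC x hx hx1, Subgroup.mem_centralizer_singleton_iff]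
      have : w = x⁻¹ * w * x := inv_mul_eq_one.1 hy1
      conv_rhs => rw [this]
      group
    by_contra hw1
    exact hc₀ (hsemi w hwQ hw1 c₀ hw0)
  obtain ⟨c₀, hc₀⟩ : ∃ c : G, c ∉ N := by
    by_contra hn
    push Not at hn
    have hsub : Subsingleton (G ⧸ N) := ⟨fun a b => by
      obtain ⟨a, rfl⟩ := QuotientGroup.mk_surjective a
      obtain ⟨b, rfl⟩ := QuotientGroup.mk_surjective b
      exact QuotientGroup.eq.2 (hn _)⟩
    have : Nat.card (G ⧸ N) ≤ 1 := Finite.card_le_one_iff_subsingleton.2 hsub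
    omega
  refine ⟨?_, ?_, ?_, ?_, ?_⟩
  · constructor
    intro g₁ g₂ e
    set φ := MulAction.toPermHom G (G ⧸ N) with hφ
    have hk : φ.ker = ⊥ := by
      rcases IsSimpleGroup.eq_bot_or_eq_top_of_normal φ.ker inferInstance with h | h
      · exact h
      · exfalso
        refine hc₀ ?_
        have h0 : c₀ ∈ φ.ker := by rw [h]; trivial
        have := congrArg (fun e : Equiv.Perm (G ⧸ N) => e ((1 : G) : G ⧸ N)) (MonoidHom.mem_ker.1 h0)
        simp only [φ, MulAction.toPermHom_apply, MulAction.toPerm_apply, Equiv.Perm.coe_one, id_eq,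
          MulAction.Quotient.smul_coe, smul_eq_mul, mul_one] at this
        simpa using QuotientGroup.eq.1 this.symm
    exact (MonoidHom.ker_eq_bot_iff φ).1 hk (Equiv.Perm.ext e)
  · rw [MulAction.is_two_pretransitive_iff]
    intro a b a' b' hab hab'
    obtain ⟨a, rfl⟩ := QuotientGroup.mk_surjective a
    obtain ⟨b, rfl⟩ := QuotientGroup.mk_surjective b
    obtain ⟨a', rfl⟩ := QuotientGroup.mk_surjective a'
    obtain ⟨b', rfl⟩ := QuotientGroup.mk_surjective b'
    have h1 : a⁻¹ * b ∉ N := fun e => hab (QuotientGroup.eq.2 e)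
    have h2 : a'⁻¹ * b' ∉ N := fun e => hab' (QuotientGroup.eq.2 e)
    obtain ⟨x, hx, hxm⟩ := htrans _ h1 _ h2
    refine ⟨a' * x * a⁻¹, ?_, ?_⟩
    · rw [MulAction.Quotient.smul_coe, smul_eq_mul, QuotientGroup.eq,
        show (a' * x * a⁻¹ * a)⁻¹ * a' = x⁻¹ by group]
      exact N.inv_mem (hQN hx)
    · rw [MulAction.Quotient.smul_coe, smul_eq_mul, QuotientGroup.eq]
      rwa [show (a' * x * a⁻¹ * b)⁻¹ * b' = (x * (a⁻¹ * b))⁻¹ * (a'⁻¹ * b') by group]
  · intro g a b c hab hbc hac ha hb hc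
    obtain ⟨a, rfl⟩ := QuotientGroup.mk_surjective a
    obtain ⟨b, rfl⟩ := QuotientGroup.mk_surjective b
    obtain ⟨c, rfl⟩ := QuotientGroup.mk_surjective c
    rw [hfix] at ha hb hc
    have e : a⁻¹ * g * a = 1 := by
      refine h3 _ (a⁻¹ * b) (a⁻¹ * c) ha ?_ ?_ (fun e => hab (QuotientGroup.eq.2 e))
        (fun e => hac (QuotientGroup.eq.2 e)) fun e => hbc (QuotientGroup.eq.2 ?_)
      · rwa [show (a⁻¹ * b)⁻¹ * (a⁻¹ * g * a) * (a⁻¹ * b) = b⁻¹ * g * b by group]
      · rwa [show (a⁻¹ * c)⁻¹ * (a⁻¹ * g * a) * (a⁻¹ * c) = c⁻¹ * g * c by group]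
      · rwa [show (a⁻¹ * b)⁻¹ * (a⁻¹ * c) = b⁻¹ * c by group] at e
    calc g = a * (a⁻¹ * g * a) * a⁻¹ := by group
      _ = 1 := by rw [e, mul_one, mul_inv_cancel]
  · -- some element fixes two points
    have : ∃ g ∈ N, g ≠ 1 ∧ c₀⁻¹ * g * c₀ ∈ N := by
      by_contra hn
      push Not at hn
      have hinj : Function.Injective (fun a : N => (((a : G) * c₀ : G) : G ⧸ N)) := by
        intro a b e
        have e' : ((a : G) * c₀)⁻¹ * ((b : G) * c₀) ∈ N := QuotientGroup.eq.1 e
        by_contra hne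
        refine hn _ (N.mul_mem (N.inv_mem a.2) b.2) (fun e2 => hne (Subtype.ext (inv_mul_eq_one.1 e2))) ?_
        rwa [show c₀⁻¹ * ((a : G)⁻¹ * b) * c₀ = ((a : G) * c₀)⁻¹ * ((b : G) * c₀) by group]
      have hle := Nat.card_le_card_of_injective _ hinj
      rw [hcardN, hindex] at hle
      have : 2 ≤ m := by omega
      nlinarith
    obtain ⟨g, hgN, hg1, hg0⟩ := this
    refine ⟨g, hg1, ((1 : G) : G ⧸ N), (c₀ : G ⧸ N), ?_, (hfix _ _).2 (by simpa using hgN), (hfix _ _).2 hg0⟩
    exact fun e => hc₀ (by simpa using QuotientGroup.eq.1 e)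
  · intro M hM hMt
    rcases IsSimpleGroup.eq_bot_or_eq_top_of_normal M hM with e | e
    · exfalso
      subst e
      obtain ⟨x, hx⟩ := hMt.exists_smul_eq ((1 : G) : G ⧸ N) (c₀ : G ⧸ N)
      have : (x : G) = 1 := x.2
      rw [Subgroup.smul_def, this, one_smul] at hx
      exact hc₀ (by simpa using QuotientGroup.eq.1 hx)
    · refine ⟨((1 : G) : G ⧸ N), fun h => ?_⟩
      obtain ⟨x, hx, hx1⟩ := Q.bot_or_exists_ne_one.resolve_left fun e => by
        rw [hq, e, Subgroup.card_bot] at h5; omega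
      have hxM : x ∈ M := by rw [e]; trivial
      have hst : (⟨x, hxM⟩ : M) ∈ MulAction.stabilizer M ((1 : G) : G ⧸ N) := by
        rw [MulAction.mem_stabilizer_iff]
        exact (hfix _ _).2 (by simpa using hQN hx)
      exact hx1 (congrArg Subtype.val (Subgroup.mem_bot.1 (h.le hst)))

/-- In even characteristic the Sylow `2`-subgroups of `PSL(2, F)` are abelian. -/
theorem comm_sylow_of_char_two {F : Type} [Field F] [Fintype F] {f : ℕ} (hf : Fintype.card F = 2 ^ f)
    (e : G ≃* Matrix.ProjectiveSpecialLinearGroup (Fin 2) F) (S : Sylow 2 G) :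
    Nat.card (S : Subgroup G) = 2 ^ f ∧ ∀ x ∈ (S : Subgroup G), ∀ y ∈ (S : Subgroup G), x * y = y * x := by
  classical
  haveI : Fact (Nat.Prime 2) := ⟨Nat.prime_two⟩
  have hf0 : 1 ≤ f := by
    rcases Nat.eq_zero_or_pos f with h0 | h0
    · have := Fintype.one_lt_card (α := F)
      rw [hf, h0] at this; norm_num at this
    · exact h0
  haveI : CharP F 2 := by
    obtain ⟨p, hp⟩ := CharP.exists F
    haveI := hp
    have hpp : p.Prime := (CharP.char_is_prime_or_zero F p).resolve_right (CharP.char_ne_zero_of_finite F p)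
    obtain ⟨m, -, hm⟩ := FiniteField.card F p
    have : p = 2 := (Nat.prime_dvd_prime_iff_eq hpp Nat.prime_two).1
      (hpp.dvd_of_dvd_pow (n := f) (hf ▸ hm ▸ dvd_pow_self p (PNat.ne_zero m)))
    subst this; exact hp
  have hcard : Nat.card G = 2 ^ f * ((2 ^ f) ^ 2 - 1) := by
    have hgcd : Nat.gcd 2 (Fintype.card F - 1) = 1 := by
      rw [hf]
      refine (Nat.prime_two.coprime_iff_not_dvd.2 ?_)
      have : 2 ∣ 2 ^ f := dvd_pow_self 2 (by omega)
      have : 2 ≤ 2 ^ f := Nat.le_of_dvd (by positivity) this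
      omega
    have := Cfsg.Agent.Lib.Classical.card_PSL2_mul (F := F)
    rw [hgcd, one_mul, hf] at this
    rw [Nat.card_congr e.toEquiv, this]
  let u : Multiplicative F →* G := e.symm.toMonoidHom.comp ((QuotientGroup.mk' _).comp
    { toFun := fun a => (⟨!![1, Multiplicative.toAdd a; 0, 1], by simp [Matrix.det_fin_two]⟩ :
        Matrix.SpecialLinearGroup (Fin 2) F)
      map_one' := by ext i j; fin_cases i <;> fin_cases j <;> simp
      map_mul' := fun a b => Subtype.ext (by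
        show (!![1, Multiplicative.toAdd (a * b); 0, 1] : Matrix (Fin 2) (Fin 2) F) =
          !![1, Multiplicative.toAdd a; 0, 1] * !![1, Multiplicative.toAdd b; 0, 1]
        rw [Matrix.mul_fin_two]
        simp [add_comm]) })
  have hu : Function.Injective u := by
    rw [injective_iff_map_eq_one]
    intro a ha
    have h1 : QuotientGroup.mk' (Subgroup.center (Matrix.SpecialLinearGroup (Fin 2) F))
        ⟨!![1, Multiplicative.toAdd a; 0, 1], by simp [Matrix.det_fin_two]⟩ = 1 :=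
      e.symm.injective (ha.trans (map_one e.symm).symm)
    obtain ⟨r, -, hr⟩ := Matrix.SpecialLinearGroup.mem_center_iff.1 ((QuotientGroup.eq_one_iff _).1 h1)
    have := congrFun (congrFun hr 0) 1
    simpa using this.symm
  have hUc : Nat.card u.range = 2 ^ f := by
    rw [← Nat.card_congr (MonoidHom.ofInjective hu).toEquiv,
      Nat.card_congr Multiplicative.toAdd, Nat.card_eq_fintype_card, hf]
  have hfac : (Nat.card G).factorization 2 = f := by
    have hodd : ¬ 2 ∣ (2 ^ f) ^ 2 - 1 := by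
      have h2 : 2 ∣ (2 ^ f) ^ 2 := dvd_pow (dvd_pow_self 2 (by omega)) two_ne_zero
      have : 1 ≤ (2 ^ f) ^ 2 := Nat.one_le_pow _ _ (by positivity)
      omega
    rw [hcard, Nat.factorization_mul (pow_ne_zero _ two_ne_zero) (fun h => hodd (by rw [h]; exact dvd_zero 2)),
      Finsupp.add_apply, Nat.factorization_eq_zero_of_not_dvd hodd, add_zero,
      Nat.prime_two.factorization_pow, Finsupp.single_eq_same]
  let P : Sylow 2 G := Sylow.ofCard u.range (by rw [hUc, hfac])
  have hPS : Nat.card (S : Subgroup G) = 2 ^ f := by rw [S.card_eq_multiplicity, hfac]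
  refine ⟨hPS, fun x hx y hy => ?_⟩
  obtain ⟨g, hg⟩ := MulAction.exists_smul_eq G P S
  have hmem : ∀ z ∈ (S : Subgroup G), ∃ a, g * u a * g⁻¹ = z := by
    intro z hz
    rw [← hg] at hz
    obtain ⟨w, ⟨a, ha⟩, hw⟩ := hz
    exact ⟨a, by rw [← hw, ← ha]; rfl⟩
  obtain ⟨a, rfl⟩ := hmem x hx
  obtain ⟨b, rfl⟩ := hmem y hy
  calc g * u a * g⁻¹ * (g * u b * g⁻¹) = g * (u a * u b) * g⁻¹ := by group
    _ = g * (u b * u a) * g⁻¹ := by rw [← map_mul, ← map_mul, mul_comm]
    _ = _ := by group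

/-- A simple group with a configuration and dihedral Sylow `2`-subgroups is `PSL(2, F)`, `F` of odd order. -/
theorem Conf.exists_psl [IsSimpleGroup G] (h : Conf G) (S : Sylow 2 G) {n : ℕ} (hn : 2 ≤ n)
    (e : (S : Subgroup G) ≃* DihedralGroup n) :
    ∃ (F : Type) (_ : Field F) (_ : Fintype F), Odd (Fintype.card F) ∧
      Nonempty (G ≃* Matrix.ProjectiveSpecialLinearGroup (Fin 2) F) := by
  classical
  haveI : Fact (Nat.Prime 2) := ⟨Nat.prime_two⟩
  haveI : NeZero n := ⟨by omega⟩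
  obtain ⟨Q, D, hg, hC, -, hD, hQD, hN, -⟩ := h.concl
  have hS2 : Nat.card (S : Subgroup G) = 2 * n := by rw [Nat.card_congr e.toEquiv, DihedralGroup.nat_card]
  have h3 : 5 ≤ Nat.card Q := by
    by_contra hlt
    have hDpos : 0 < Nat.card D := Nat.card_pos
    have hq3 : Nat.card Q = 3 := by omega
    rw [hq3] at hg
    have hg12 : Nat.card G = 12 := by omega
    haveI : Fact (Nat.Prime 3) := ⟨Nat.prime_three⟩
    haveI := Fintype.ofFinite (Sylow 3 G)
    -- at most four Sylow `3`-subgroups, so `G` would embed into `Perm (Fin 4)`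
    have hnorm : ∀ M : Subgroup G, M.Normal → M ≠ ⊥ → M = ⊤ := fun M hM hM1 =>
      (IsSimpleGroup.eq_bot_or_eq_top_of_normal M hM).resolve_left hM1
    obtain ⟨P⟩ : Nonempty (Sylow 2 G) := inferInstance
    have hPc : Nat.card (P : Subgroup G) = 4 := by
      rw [P.card_eq_multiplicity, hg12, show (12 : ℕ) = 2 ^ 2 * 3 by norm_num,
        Nat.factorization_mul (by norm_num) (by norm_num), Finsupp.add_apply,
        Nat.prime_two.factorization_pow, Finsupp.single_eq_same,
        Nat.factorization_eq_zero_of_not_dvd (by norm_num : ¬ 2 ∣ 3)]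
      norm_num
    have hidx : (P : Subgroup G).index = 3 := by
      have := (P : Subgroup G).index_mul_card
      rw [hPc, hg12] at this; omega
    set φ := MulAction.toPermHom G (G ⧸ (P : Subgroup G))
    have hk : φ.ker ≠ ⊤ := by
      intro hk
      have hPtop : (P : Subgroup G) = ⊤ := by
        refine eq_top_iff.2 fun g _ => ?_
        have h0 : g ∈ φ.ker := by rw [hk]; trivial
        have := congrArg (fun e : Equiv.Perm (G ⧸ (P : Subgroup G)) => e ((1 : G) : G ⧸ (P : Subgroup G)))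
          (MonoidHom.mem_ker.1 h0)
        simp only [φ, MulAction.toPermHom_apply, MulAction.toPerm_apply, Equiv.Perm.coe_one, id_eq,
          MulAction.Quotient.smul_coe, smul_eq_mul, mul_one] at this
        simpa using QuotientGroup.eq.1 this.symm
      rw [hPtop, Subgroup.index_top] at hidx
      omega
    have hbot : φ.ker = ⊥ := (IsSimpleGroup.eq_bot_or_eq_top_of_normal φ.ker inferInstance).resolve_right hk
    have := Nat.card_le_card_of_injective φ ((MonoidHom.ker_eq_bot_iff φ).1 hbot)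
    rw [Nat.card_perm, ← Subgroup.index, hidx, hg12] at this
    norm_num [Nat.factorial] at this
  haveI := Fintype.ofFinite (G ⧸ Subgroup.normalizer (Q : Set G))
  have hZ := zassenhaus_of_QD Q D hg hC hD hQD hN h3
  rcases Cfsg.Agent.S0340.result hZ with ⟨F, hF1, hF2, ⟨φ⟩⟩ | hSz
  · rcases Nat.even_or_odd (Fintype.card F) with hev | hodd
    · obtain ⟨p, hp⟩ := CharP.exists F
      haveI := hp
      obtain ⟨f, hpp, hf⟩ := FiniteField.card F p
      have hp2 : p = 2 := by
        have h2 : 2 ∣ p ^ (f : ℕ) := hf ▸ even_iff_two_dvd.1 hev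
        exact ((Nat.prime_dvd_prime_iff_eq Nat.prime_two hpp).1 (Nat.prime_two.dvd_of_dvd_pow h2)).symm
      rw [hp2] at hf
      obtain ⟨hScard, hcomm⟩ := comm_sylow_of_char_two hf φ S
      have hn2 : n = 2 := by
        have hc : e.symm (DihedralGroup.r 1) * e.symm (DihedralGroup.sr 0) =
            e.symm (DihedralGroup.sr 0) * e.symm (DihedralGroup.r 1) :=
          Subtype.ext (hcomm _ (e.symm (DihedralGroup.r 1)).2 _ (e.symm (DihedralGroup.sr 0)).2)
        rw [← map_mul, ← map_mul] at hc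
        have h2 : (1 : ZMod n) + 1 = 0 :=
          Cfsg.Agent.Lib.Involutions.dihedral_commute_sr_r.1
            (show Commute (DihedralGroup.sr 0) (DihedralGroup.r 1) from (e.symm.injective hc).symm)
        by_contra hne
        have h3 := congrArg ZMod.val (show ((2 : ℕ) : ZMod n) = 0 by push_cast; rw [← h2]; norm_num)
        rw [ZMod.val_natCast, ZMod.val_zero, Nat.mod_eq_of_lt (show 2 < n by omega)] at h3
        omega
      have hf2 : (f : ℕ) = 2 := by
        rw [hS2, hn2] at hScard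
        exact Nat.pow_right_injective le_rfl (show 2 ^ (f : ℕ) = 2 ^ 2 by rw [← hScard])
      have hg60 : Nat.card G = 60 := by
        have := Cfsg.Agent.Lib.Classical.card_PSL2_mul (F := F)
        rw [hf, hf2, show Nat.gcd 2 (2 ^ 2 - 1) = 1 from rfl, one_mul] at this
        rw [Nat.card_congr φ.toEquiv, this]
        rfl
      haveI : Fact (Nat.Prime 5) := ⟨Nat.prime_five⟩
      haveI : IsSimpleGroup (Matrix.ProjectiveSpecialLinearGroup (Fin 2) (ZMod 5)) :=
        Cfsg.Agent.Lib.Classical.isSimpleGroup_PSL_fin le_rfl (fun _ => by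
          rw [Nat.card_eq_fintype_card, ZMod.card]; norm_num)
      have h60 : Nat.card (Matrix.ProjectiveSpecialLinearGroup (Fin 2) (ZMod 5)) = 60 := by
        have := Cfsg.Agent.Lib.Classical.card_PSL2_mul (F := ZMod 5)
        rw [ZMod.card, show Nat.gcd 2 (5 - 1) = 2 from rfl] at this
        refine Nat.eq_of_mul_eq_mul_left two_pos ?_
        rw [this]
        norm_num
      obtain ⟨a⟩ := Cfsg.Agent.S0494.result hg60
      obtain ⟨b⟩ := Cfsg.Agent.S0494.result h60
      exact ⟨ZMod 5, inferInstance, inferInstance, by rw [ZMod.card]; decide, ⟨a.trans b.symm⟩⟩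
    · exact ⟨F, hF1, hF2, hodd, ⟨φ⟩⟩
  · exfalso
    obtain ⟨-, m, -, hm⟩ := hSz
    have h3dvd : 3 ∣ Nat.card G := by
      have : 3 ∣ 2 * Nat.card G := by
        rw [hg]
        obtain ⟨k, hk⟩ : ∃ k, Nat.card Q = k + 1 := ⟨Nat.card Q - 1, by omega⟩
        rw [hk, Nat.add_sub_cancel]
        rcases (show k % 3 = 0 ∨ k % 3 = 1 ∨ k % 3 = 2 by omega) with e | e | e
        · exact Dvd.dvd.mul_left (Nat.dvd_of_mod_eq_zero e) _
        · exact Dvd.dvd.mul_right (Dvd.dvd.mul_left (by omega) _) _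
        · exact Dvd.dvd.mul_right (Dvd.dvd.mul_right (by omega) _) _
      exact (Nat.Coprime.dvd_of_dvd_mul_left (by norm_num) this)
    rw [hm] at h3dvd
    have hr : 2 ^ (2 * m + 1) % 3 = 2 := by
      rw [pow_succ, pow_mul, Nat.mul_mod, Nat.pow_mod]
      norm_num
    generalize 2 ^ (2 * m + 1) = r at h3dvd hr
    rcases (Nat.Prime.dvd_mul Nat.prime_three).1 h3dvd with h1 | h1
    · rcases (Nat.Prime.dvd_mul Nat.prime_three).1 h1 with h1 | h1
      · have := Nat.prime_three.dvd_of_dvd_pow h1; omega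
      · have : r ^ 2 % 3 = 1 := by rw [Nat.pow_mod, hr]
        omega
    · omega

end Cfsg.Agent.Lib.Characters.BSW
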